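import Groth.Agent.Lib.ZeroCyc99.FlatLocal
import Mathlib.AlgebraicGeometry.Morphisms.Flat
import Mathlib.AlgebraicGeometry.Morphisms.Affine

/-!
# Affine morphisms descend along flat surjections which are not quasi-compact
-/

universe u

open CategoryTheory Limits AlgebraicGeometry

namespace Groth.Agent.Lib.ZeroCyc99.FlatLocalAffine

theorem isPushout_appTop {X Y T P : Scheme.{u}} {f : X ⟶ Y} {g : T ⟶ Y} {a : P ⟶ X} {b : P ⟶ T}
    (H : IsPullback a b f g) [IsAffine Y] [IsAffine T] [CompactSpace X] [QuasiSeparatedSpace X] [Flat g] :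
    IsPushout f.appTop g.appTop a.appTop b.appTop := by
  have := isIso_pushoutSection_of_isQuasiSeparated_of_flat_right H (US := ⊤) (UT := ⊤) (UX := ⊤) (UY := ⊤)
    (by simp) (by simp) (by simp) (isAffineOpen_top _) (isAffineOpen_top _) isCompact_univ isQuasiSeparated_univ
  have h2 := (isIso_pushoutSection_iff H (US := ⊤) (UT := ⊤) (UX := ⊤) (UY := ⊤) (by simp) (by simp) (by simp)).mp this
  have e : ∀ {A B : Scheme.{u}} (φ : A ⟶ B) (h : (⊤ : A.Opens) ≤ φ ⁻¹ᵁ ⊤), φ.appLE ⊤ ⊤ h = φ.appTop :=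
    fun φ h => Scheme.Hom.appLE_eq_app φ
  rw [e, e, e, e] at h2
  exact h2

theorem isIso_of_isAffine_of_appTop {P Q : Scheme.{u}} [IsAffine P] [IsAffine Q] (φ : P ⟶ Q) [IsIso φ.appTop] :
    IsIso φ := by
  have h : IsIso (Spec.map φ.appTop) := inferInstance
  exact ((MorphismProperty.isomorphisms Scheme.{u}).arrow_mk_iso_iff (arrowIsoSpecΓOfIsAffine φ)).mpr h

theorem isAffineHom_of_forall {X Y : Scheme.{u}} (f : X ⟶ Y) [IsAffine Y] [CompactSpace X] [QuasiSeparatedSpace X]
    (h : ∀ y : Y, ∃ (T : Scheme.{u}) (g : T ⟶ Y), Flat g ∧ y ∈ Set.range g.base ∧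
      IsAffineHom (pullback.snd f g)) : IsAffine X := by
  let π : Spec Γ(X, ⊤) ⟶ Y := Spec.map f.appTop ≫ Y.isoSpec.inv
  let c : X ⟶ Spec Γ(X, ⊤) := X.toSpecΓ
  have hcπ : c ≫ π = f := by
    rw [show c ≫ π = (X.toSpecΓ ≫ Spec.map f.appTop) ≫ Y.isoSpec.inv from (Category.assoc _ _ _).symm,
      ← Scheme.toSpecΓ_naturality, Category.assoc, show Y.toSpecΓ = Y.isoSpec.hom from rfl, Iso.hom_inv_id,
      Category.comp_id]
  have hct : IsIso c.appTop := by
    rw [Scheme.toSpecΓ_appTop]
    infer_instance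
  have : IsIso c := by
    have : QuasiCompact c := by
      have h1 : QuasiCompact (c ≫ π) := by rw [hcπ]; exact (quasiCompact_iff_compactSpace f).mpr inferInstance
      exact .of_comp c π
    refine FlatLocal.isIso_of_forall c fun z => ?_
    obtain ⟨T, g, hg, ⟨t, ht⟩, haff⟩ := h (π.base z)
    obtain ⟨V, hV, htV⟩ : ∃ V : T.Opens, IsAffineOpen V ∧ t ∈ V := by
      obtain ⟨_, ⟨V, hV, rfl⟩, htV, -⟩ := T.isBasis_affineOpens.exists_subset_of_mem_open (Set.mem_univ t) isOpen_univ
      exact ⟨V, hV, htV⟩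
    have : IsAffine V.toScheme := hV
    let gV := V.ι ≫ g
    obtain ⟨z', hz', -⟩ := Scheme.Pullback.exists_preimage_pullback (f := π) (g := gV) z ⟨t, htV⟩ ht.symm
    refine ⟨pullback π gV, pullback.fst π gV, inferInstance, ⟨z', hz'⟩, ?_⟩
    have : IsAffineHom (pullback.snd f gV) := by
      have : IsAffineHom (pullback.snd (pullback.snd f g) V.ι) := MorphismProperty.pullback_snd _ _ haff
      rw [← pullbackLeftPullbackSndIso_inv_snd_snd f g V.ι]
      exact (MorphismProperty.cancel_left_of_respectsIso @IsAffineHom _ _).mpr this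
    have : IsAffine (pullback f gV) := isAffine_of_isAffineHom (pullback.snd f gV)
    let e : pullback c (pullback.fst π gV) ≅ pullback f gV :=
      pullbackRightPullbackFstIso π gV c ≪≫ pullback.congrHom hcπ rfl
    have : IsAffine (pullback c (pullback.fst π gV)) := .of_isIso e.hom
    let φ := pullback.snd c (pullback.fst π gV)
    have hcs : (pullback.congrHom hcπ (rfl : gV = gV)).hom ≫ pullback.snd f gV = pullback.snd (c ≫ π) gV := by
      rw [pullback.congrHom_hom]; exact (pullback.lift_snd _ _ _).trans (Category.comp_id _)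
    have hcf : (pullback.congrHom hcπ (rfl : gV = gV)).hom ≫ pullback.fst f gV = pullback.fst (c ≫ π) gV := by
      rw [pullback.congrHom_hom]; exact (pullback.lift_fst _ _ _).trans (Category.comp_id _)
    have hw : φ ≫ pullback.snd π gV = e.hom ≫ pullback.snd f gV := by
      simp only [e, φ, Iso.trans_hom, Category.assoc, hcs, pullbackRightPullbackFstIso_hom_snd]
    have hw' : φ ≫ pullback.fst π gV = (e.hom ≫ pullback.fst f gV) ≫ c := by
      rw [← pullback.condition]
      simp only [e, Iso.trans_hom, Category.assoc, reassoc_of% hcf, pullbackRightPullbackFstIso_hom_fst_assoc]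
    have H1 := isPushout_appTop ((IsPullback.of_hasPullback f gV).of_iso e.symm (Iso.refl _) (Iso.refl _)
      (Iso.refl _) (fst' := e.hom ≫ pullback.fst f gV) (snd' := e.hom ≫ pullback.snd f gV)
      (f' := f) (g' := gV) (by simp) (by simp) (by simp) (by simp))
    have H2 := isPushout_appTop (IsPullback.of_hasPullback π gV)
    have hfc : π.appTop ≫ c.appTop = f.appTop := by
      rw [← Scheme.Hom.comp_appTop, hcπ]
    have k1 : (pullback.fst π gV).appTop ≫ φ.appTop = c.appTop ≫ (e.hom ≫ pullback.fst f gV).appTop := by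
      rw [← Scheme.Hom.comp_appTop, hw', Scheme.Hom.comp_appTop]
    have k2 : (pullback.snd π gV).appTop ≫ φ.appTop = (e.hom ≫ pullback.snd f gV).appTop := by
      rw [← Scheme.Hom.comp_appTop, hw]
    have : IsIso φ.appTop := by
      refine ⟨⟨H1.desc (inv c.appTop ≫ (pullback.fst π gV).appTop) (pullback.snd π gV).appTop ?_, ?_, ?_⟩⟩
      · rw [← Category.assoc, ← hfc, Category.assoc π.appTop, IsIso.hom_inv_id, Category.comp_id]
        exact H2.w
      · refine H2.hom_ext ?_ ?_
        · rw [← Category.assoc, k1, Category.assoc, H1.inl_desc, IsIso.hom_inv_id_assoc, Category.comp_id]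
        · rw [← Category.assoc, k2, H1.inr_desc, Category.comp_id]
      · refine H1.hom_ext ?_ ?_
        · rw [← Category.assoc, H1.inl_desc, Category.assoc, k1, IsIso.inv_hom_id_assoc, Category.comp_id]
        · rw [← Category.assoc, H1.inr_desc, k2, Category.comp_id]
    exact isIso_of_isAffine_of_appTop φ
  exact .of_isIso c

theorem isAffineHom_of_baseChange {X Y Y' : Scheme.{u}} (f : X ⟶ Y) (g : Y' ⟶ Y) [Flat g] [Surjective g]
    [QuasiCompact f] [QuasiSeparated f] [IsAffineHom (pullback.snd f g)] : IsAffineHom f := by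
  refine ⟨fun U hU => ?_⟩
  have : IsAffine U.toScheme := hU
  have : CompactSpace (f ⁻¹ᵁ U).toScheme := (quasiCompact_iff_compactSpace (f ∣_ U)).mp inferInstance
  have : QuasiSeparatedSpace (f ⁻¹ᵁ U).toScheme := quasiSeparatedSpace_of_quasiSeparated (f ∣_ U)
  refine isAffineHom_of_forall (f ∣_ U) fun y => ?_
  obtain ⟨y', hy'⟩ := g.surjective (U.ι.base y)
  refine ⟨(g ⁻¹ᵁ U).toScheme, g ∣_ U, inferInstance, ⟨⟨y', show g.base y' ∈ U from hy' ▸ y.2⟩, ?_⟩, ?_⟩
  · apply U.ι.isOpenEmbedding.injective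
    rw [← Scheme.Hom.comp_apply, morphismRestrict_ι]
    exact hy'
  · have h1 : IsPullback (pullback.fst (f ∣_ U) (g ∣_ U) ≫ (f ⁻¹ᵁ U).ι) (pullback.snd (f ∣_ U) (g ∣_ U))
        f ((g ⁻¹ᵁ U).ι ≫ g) := by
      rw [← morphismRestrict_ι]
      exact (IsPullback.of_hasPullback (f ∣_ U) (g ∣_ U)).paste_horiz (isPullback_morphismRestrict f U).flip
    have h2 : IsAffineHom (pullback.snd f ((g ⁻¹ᵁ U).ι ≫ g)) := by
      have : IsAffineHom (pullback.snd (pullback.snd f g) (g ⁻¹ᵁ U).ι) :=
        MorphismProperty.pullback_snd _ _ inferInstance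
      rw [← pullbackLeftPullbackSndIso_inv_snd_snd f g (g ⁻¹ᵁ U).ι]
      exact (MorphismProperty.cancel_left_of_respectsIso @IsAffineHom _ _).mpr this
    rw [← h1.isoPullback_hom_snd]
    infer_instance

end Groth.Agent.Lib.ZeroCyc99.FlatLocalAffine
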