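import Groth.Agent.Lib.ProjMor.Frame
import Groth.Agent.Lib.ProjMor.Embed
import Groth.Agent.Lib.ProjTilde.Invertible
import Groth.Agent.Lib.Ample.Pow

/-!
# Generation and ampleness of `O(n)` for a general graded ring
-/

noncomputable section

universe u

open CategoryTheory AlgebraicGeometry TopologicalSpace Opposite HomogeneousLocalization

namespace Groth.Agent.Lib.ZeroCyc99.Twist

open TensorMod TensorMod.Basic TensorMod.Free TensorMod.Dual TensorMod.Gen TensorMod.HomGlue Ample.GenLocus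
  ProjTilde.Frac ProjTilde.Basic ProjMor.Sec

open ProjMor.Frame (sec_ext value value_smul)

variable {R A : Type u} [CommRing R] [CommRing A] [Algebra R A] {𝒜 : ℕ → Submodule R A} [GradedAlgebra 𝒜]

/-- The function `u / e` on an open where `e` does not vanish. -/
def fracO (W : (Proj 𝒜).Opens) {j : ℕ} {u e : A} (hu : u ∈ 𝒜 j) (he : e ∈ 𝒜 j)
    (hne : ∀ y : W, e ∉ y.1.asHomogeneousIdeal) : Γ(Proj 𝒜, W) :=
  ⟨fun y => HomogeneousLocalization.mk ⟨j, ⟨u, hu⟩, ⟨e, he⟩, hne y⟩,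
    fun y => ⟨W, y.2, 𝟙 _, j, ⟨u, hu⟩, ⟨e, he⟩, fun z => hne z, fun _ => rfl⟩⟩

theorem one_notMem (x : ProjectiveSpectrum 𝒜) : (1 : A) ∉ x.asHomogeneousIdeal := fun h =>
  x.isPrime.ne_top ((Ideal.eq_top_iff_one _).mpr h)

/-- The global section `b / 1`. -/
abbrev gs {n : ℕ} (b : 𝒜 n) : ProjUP.Γm (Twist.twist 𝒜 (n : ℤ)) := Twist.globalOf 𝒜 b

theorem value_globalOf {n : ℕ} (b : 𝒜 n) (U : (Proj 𝒜).Opens) (x : U) :
    value (gl (gs b) U) x = Localization.mk (b : A) 1 := rfl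

theorem value_add {n : ℤ} {U : (Proj 𝒜).Opens} (σ τ : Γ(Twist.twist 𝒜 n, U)) (x : U) :
    value (σ + τ) x = value σ x + value τ x := rfl

theorem value_fracO_smul {n : ℕ} (b : 𝒜 n) {W : (Proj 𝒜).Opens} {j : ℕ} {u e : A} (hu : u ∈ 𝒜 j) (he : e ∈ 𝒜 j)
    (hne : ∀ y : W, e ∉ y.1.asHomogeneousIdeal) (x : W) :
    value (fracO W hu he hne • gl (gs b) W) x = Localization.mk (u * b) ⟨e, hne x⟩ := by
  rw [value_smul, value_globalOf]
  refine (congrArg (· * _) (HomogeneousLocalization.val_mk _)).trans ((Localization.mk_mul _ _ _ _).trans ?_)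
  rw [mul_one]

/-- Every fraction of degree `n` is, after multiplication, a combination of elements of degree `n`. -/
def GenCond (𝒜 : ℕ → Submodule R A) [GradedAlgebra 𝒜] (n : ℕ) : Prop :=
  ∀ (x : ProjectiveSpectrum 𝒜) (j : ℕ) (s a : A), s ∈ 𝒜 j → a ∈ 𝒜 (j + n) → s ∉ x.asHomogeneousIdeal →
    ∃ (j₂ : ℕ) (e w : A), e ∈ 𝒜 j₂ ∧ e ∉ x.asHomogeneousIdeal ∧ w ∈ 𝒜 j₂ * 𝒜 n ∧ a * e = s * w

theorem generatedBy_of_genCond {n : ℕ} (h : GenCond 𝒜 n) :
    ProjUP.GeneratedBy (Twist.twist 𝒜 (n : ℤ))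
      (fun b : 𝒜 n => (Twist.globalOf 𝒜 b : ProjUP.Γm (Twist.twist 𝒜 (n : ℤ)))) := by
  intro x
  rw [eq_top_iff]
  intro v _
  obtain ⟨V, hxV, σ, rfl⟩ := TopCat.Presheaf.exists_germ_eq _ v
  obtain ⟨j, s, a, hs, ha, hsx, hval⟩ := twist_local_rep (show Twist.sectN (𝒜 := 𝒜) (n : ℤ) (op V) from σ) ⟨x, hxV⟩
  have ha' : a ∈ 𝒜 (j + n) := by
    rcases ha with ⟨i, hi, hia⟩ | rfl
    · obtain rfl : i = j + n := by omega
      exact hia
    · exact zero_mem _
  obtain ⟨j₂, e, w, he, hex, hw, haw⟩ := h x j s a hs ha' hsx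
  let W : (Proj 𝒜).Opens := V ⊓ Proj.basicOpen 𝒜 (s * e)
  have hxW : x ∈ W := ⟨hxV, fun hh => (x.isPrime.mem_or_mem hh).elim hsx hex⟩
  have hsW : ∀ y : W, s ∉ y.1.asHomogeneousIdeal := fun y hh => y.2.2 (Ideal.mul_mem_right e _ hh)
  have heW : ∀ y : W, e ∉ y.1.asHomogeneousIdeal := fun y hh => y.2.2 (Ideal.mul_mem_left _ s hh)
  suffices ∃ τ : Γ(Twist.twist 𝒜 (n : ℤ), W), (∀ y : W, value τ y = Localization.mk w ⟨e, heW y⟩) ∧
      (Twist.twist 𝒜 (n : ℤ)).presheaf.germ W x hxW τ ∈ Submodule.span ((Proj 𝒜).presheaf.stalk x)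
        (Set.range fun b : 𝒜 n => ((Twist.twist 𝒜 (n : ℤ)).presheaf.germ ⊤ x trivial).hom (Twist.globalOf 𝒜 b)) by
    obtain ⟨τ, hτ, hmem⟩ := this
    have heq : rs (Twist.twist 𝒜 (n : ℤ)) (inf_le_left : W ≤ V) σ = τ := by
      refine sec_ext fun y => ?_
      refine Eq.trans ?_ (hτ y).symm
      refine (hval ⟨y.1, y.2.1⟩ (hsW y)).trans ?_
      change (Localization.mk a ⟨s, hsW y⟩ : Twist.Loc 𝒜 y.1) = _
      rw [Localization.mk_eq_mk_iff, Localization.r_iff_exists]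
      refine ⟨1, ?_⟩
      simp only [OneMemClass.coe_one, one_mul]
      linear_combination haw
    rw [show (Twist.twist 𝒜 (n : ℤ)).presheaf.germ V x hxV σ = (Twist.twist 𝒜 (n : ℤ)).presheaf.germ W x hxW τ from
      (TopCat.Presheaf.germ_res_apply _ (homOfLE (inf_le_left : W ≤ V)) x hxW σ).symm.trans
        (congrArg ((Twist.twist 𝒜 (n : ℤ)).presheaf.germ W x hxW) heq)]
    exact hmem
  clear haw
  refine Submodule.mul_induction_on hw (fun u hu b hb => ?_) (fun w w' hw hw' => ?_)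
  · refine ⟨fracO W hu he heW • gl (gs (⟨b, hb⟩ : 𝒜 n)) W, fun y => value_fracO_smul _ hu he heW y, ?_⟩
    rw [Modules.StalkModule.germ_smul]
    refine Submodule.smul_mem _ _ (Submodule.subset_span ⟨⟨b, hb⟩, ?_⟩)
    exact (TopCat.Presheaf.germ_res_apply _ (homOfLE (le_top : W ≤ ⊤)) x hxW _).symm
  · obtain ⟨τ, hτ, hm⟩ := hw
    obtain ⟨τ', hτ', hm'⟩ := hw'
    refine ⟨τ + τ', fun y => ?_, by rw [map_add]; exact add_mem hm hm'⟩
    rw [value_add, hτ, hτ', Localization.add_mk_self]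

/-- The `D₊(b)`, `b` of degree `n`, cover. -/
def Covers (𝒜 : ℕ → Submodule R A) [GradedAlgebra 𝒜] (n : ℕ) : Prop :=
  ∀ x : ProjectiveSpectrum 𝒜, ∃ b : 𝒜 n, (b : A) ∉ x.asHomogeneousIdeal

theorem Covers.genCond {n : ℕ} (h : Covers 𝒜 n) : GenCond 𝒜 n := fun x j s a hs ha hsx => by
  obtain ⟨b, hb⟩ := h x
  exact ⟨j + n, s * b, a * b, SetLike.mul_mem_graded hs b.2,
    fun hh => (x.isPrime.mem_or_mem hh).elim hsx hb, Submodule.mul_mem_mul ha b.2, by ring⟩

theorem isGen_globalOf {n : ℕ} (b : 𝒜 n) : IsGen (Twist.twist 𝒜 (n : ℤ)) (Proj.basicOpen 𝒜 (b : A))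
    (gl (gs b) (Proj.basicOpen 𝒜 (b : A))) := by
  intro W hW
  have hW' : W ≤ Proj.basicOpen 𝒜 ((1 : A) * (b : A)) := by rwa [one_mul]
  have hne : ∀ x : W, (b : A) ∉ x.1.asHomogeneousIdeal := fun x => hW x.2
  constructor
  · intro r r' h
    refine Subtype.ext (funext fun x => HomogeneousLocalization.val_injective _ ?_)
    have h1 := congrArg (fun σ => value σ x) h
    simp only [rs_gl] at h1
    rw [value_smul, value_smul, value_globalOf] at h1
    have hu : IsUnit (Localization.mk (b : A) 1 : Twist.Loc 𝒜 x.1) := by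
      rw [Localization.mk_one_eq_algebraMap]
      exact IsLocalization.map_units (M := x.1.asHomogeneousIdeal.toIdeal.primeCompl) _ ⟨(b : A), hne x⟩
    exact hu.mul_left_inj.1 h1
  · intro σ
    have hn : (0 : ℤ) + ((n : ℕ) : ℤ) = (n : ℤ) + ((0 : ℕ) : ℤ) := by simp
    obtain ⟨r, hr⟩ := ofFun_surjective (mulSec (𝒜 := 𝒜) SetLike.GradedOne.one_mem b.2 hn hW'
      (twistToTilde (show Twist.sectN (𝒜 := 𝒜) (n : ℤ) (op W) from σ)))
    refine ⟨r, sec_ext fun x => ?_⟩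
    simp only [rs_gl]
    refine (value_smul _ _ x).trans ?_
    have h1 := congrArg (fun τ => val τ x) hr
    simp only [val_mulSec] at h1
    rw [value_globalOf]
    change val (ofFun r) x * _ = _
    rw [h1]
    change (Localization.mk (1 : A) _ * value σ x) * _ = value σ x
    rw [mul_right_comm, Localization.mk_mul]
    rw [show (Localization.mk ((1 : A) * (b : A)) _ : Twist.Loc 𝒜 x.1) = 1 from ?_, one_mul]
    rw [← Localization.mk_one, Localization.mk_eq_mk_iff, Localization.r_iff_exists]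
    exact ⟨1, by simp⟩

theorem locus_globalOf {n : ℕ} (h : Covers 𝒜 n) (a : 𝒜 n) :
    locus (gs a) = Proj.basicOpen 𝒜 (a : A) := by
  refine le_antisymm (fun x hx ha => ?_) (le_locus (isGen_globalOf a))
  obtain ⟨c, hc⟩ := h x
  obtain ⟨t, ht⟩ := exists_coord (isGen_locus (gs a))
    (gl (gs c) _)
  have h1 := congrArg (fun σ => value σ ⟨x, hx⟩) ht
  rw [value_smul, value_globalOf, value_globalOf] at h1
  obtain ⟨p, hp⟩ := HomogeneousLocalization.mk_surjective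
    ((show Twist.O (𝒜 := 𝒜) (op (locus (gs a))) from t).1 ⟨x, hx⟩)
  have h3 := h1.trans (congrArg (fun z => HomogeneousLocalization.val z * _) hp.symm)
  rw [HomogeneousLocalization.val_mk] at h3
  have h2 := h3.trans (Localization.mk_mul _ _ _ _)
  rw [Localization.mk_eq_mk_iff, Localization.r_iff_exists] at h2
  obtain ⟨w, hw⟩ := h2
  simp only [Submonoid.coe_mul, OneMemClass.coe_one, mul_one, one_mul] at hw
  have : (w : A) * ((p.den : A) * (c : A)) ∈ x.asHomogeneousIdeal.toIdeal := by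
    rw [hw]
    exact Ideal.mul_mem_left _ _ (Ideal.mul_mem_left _ _ ha)
  exact (x.isPrime.mem_or_mem this).elim w.2 fun h => (x.isPrime.mem_or_mem h).elim p.den_mem hc

theorem isAmple_of_covers {n : ℕ} (hn : 0 < n) (h : Covers 𝒜 n) [CompactSpace (Proj 𝒜)] :
    CohB1.IsAmple (Twist.twist 𝒜 (n : ℤ)) := by
  refine Lib.Ample.Pow.isAmple_iff.2 ⟨fun x => ?_, inferInstance, fun x => ?_⟩
  · obtain ⟨b, hb⟩ := h x
    exact ⟨Proj.basicOpen 𝒜 (b : A), hb, by simpa using ProjTilde.Invertible.twist_trivial_basicOpen b.2 1 le_rfl⟩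
  · obtain ⟨b, hb⟩ := h x
    obtain ⟨σ, hσ⟩ : ∃ σ, σ = Modules.Free.unitHom (Twist.twist 𝒜 (n : ℤ)) (gs b) := ⟨_, rfl⟩
    have hloc : CohB1.genLocus _ σ = Proj.basicOpen 𝒜 (b : A) := hσ ▸ locus_globalOf h b
    refine .mk one_pos (Lib.Ample.Pow.powOne _).symm σ ?_ ?_
    · rw [hloc]; exact hb
    · rw [hloc]; exact Proj.isAffineOpen_basicOpen 𝒜 (b : A) b.2 hn

/-! ### Homogeneous generators -/

variable {s : ℕ} (f : Fin s → A) (deg : Fin s → ℕ)

theorem prod_pow_mem (hf : ∀ i, f i ∈ 𝒜 (deg i)) (ν : Fin s → ℕ) : ∏ i, f i ^ ν i ∈ 𝒜 (∑ i, ν i * deg i) := by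
  refine SetLike.prod_mem_graded _ _ _ fun i _ => ?_
  simpa using SetLike.pow_mem_graded (ν i) (hf i)

theorem exists_notMem (hdeg : ∀ i, 0 < deg i) (hf : ∀ i, f i ∈ 𝒜 (deg i))
    (hgen : Algebra.adjoin R (Set.range f) = ⊤) (x : ProjectiveSpectrum 𝒜) :
    ∃ i, f i ∉ x.asHomogeneousIdeal := by
  classical
  by_contra hcon
  push Not at hcon
  refine x.not_irrelevant_le fun z hz => ?_
  have hz0 : GradedRing.proj 𝒜 0 z = 0 := hz
  suffices ∀ z : A, z - GradedRing.proj 𝒜 0 z ∈ x.asHomogeneousIdeal.toIdeal by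
    have h := this z
    rwa [hz0, sub_zero] at h
  intro z
  have hmem : z ∈ Algebra.adjoin R (Set.range f) := by rw [hgen]; exact Algebra.mem_top
  induction hmem using Algebra.adjoin_induction with
  | mem y hy =>
    obtain ⟨i, rfl⟩ := hy
    rw [GradedRing.proj_apply, DirectSum.decompose_of_mem_ne 𝒜 (hf i) (hdeg i).ne', sub_zero]
    exact hcon i
  | algebraMap r =>
    rw [GradedRing.proj_apply, DirectSum.decompose_of_mem_same 𝒜 (SetLike.algebraMap_mem_graded 𝒜 r), sub_self]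
    exact zero_mem _
  | add a b _ _ ha hb =>
    rw [map_add, add_sub_add_comm]
    exact add_mem ha hb
  | mul a b _ _ ha hb =>
    have : GradedRing.proj 𝒜 0 (a * b) = GradedRing.proj 𝒜 0 a * GradedRing.proj 𝒜 0 b :=
      map_mul (GradedRing.projZeroRingHom 𝒜) a b
    rw [this, show a * b - GradedRing.proj 𝒜 0 a * GradedRing.proj 𝒜 0 b =
      (a - GradedRing.proj 𝒜 0 a) * b + GradedRing.proj 𝒜 0 a * (b - GradedRing.proj 𝒜 0 b) by ring]
    exact add_mem (Ideal.mul_mem_right _ _ ha) (Ideal.mul_mem_left _ _ hb)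

theorem covers_lcm (hdeg : ∀ i, 0 < deg i) (hf : ∀ i, f i ∈ 𝒜 (deg i))
    (hgen : Algebra.adjoin R (Set.range f) = ⊤) (a : ℕ) : Covers 𝒜 (a * Finset.univ.lcm deg) := fun x => by
  obtain ⟨i, hi⟩ := exists_notMem f deg hdeg hf hgen x
  obtain ⟨q, hq⟩ : deg i ∣ a * Finset.univ.lcm deg := (Finset.dvd_lcm (Finset.mem_univ i)).mul_left a
  refine ⟨⟨f i ^ q, ?_⟩, fun h => hi (x.isPrime.mem_of_pow_mem q h)⟩
  rw [hq, mul_comm]
  simpa using SetLike.pow_mem_graded q (hf i)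

theorem compactSpace_of_gens (hdeg : ∀ i, 0 < deg i) (hf : ∀ i, f i ∈ 𝒜 (deg i))
    (hgen : Algebra.adjoin R (Set.range f) = ⊤) : CompactSpace (Proj 𝒜) := by
  refine ⟨?_⟩
  have h : (Set.univ : Set (Proj 𝒜)) = ⋃ i ∈ Finset.univ, (Proj.basicOpen 𝒜 (f i) : Set (Proj 𝒜)) :=
    (Set.eq_univ_of_forall fun x => by
      obtain ⟨i, hi⟩ := exists_notMem f deg hdeg hf hgen x
      exact Set.mem_iUnion₂.2 ⟨i, Finset.mem_univ i, hi⟩).symm
  rw [h]
  exact Finset.univ.isCompact_biUnion fun i _ => (Proj.isAffineOpen_basicOpen 𝒜 (f i) (hf i) (hdeg i)).isCompact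

theorem mem_span_monomials (hf : ∀ i, f i ∈ 𝒜 (deg i)) (hgen : Algebra.adjoin R (Set.range f) = ⊤)
    {k : ℕ} {a : A} (ha : a ∈ 𝒜 k) :
    a ∈ Submodule.span R {z : A | ∃ ν : Fin s → ℕ, ∑ i, ν i * deg i = k ∧ z = ∏ i, f i ^ ν i} := by
  classical
  obtain ⟨P, rfl⟩ : ∃ P : MvPolynomial (Fin s) R, MvPolynomial.aeval f P = a := by
    have : a ∈ (MvPolynomial.aeval (R := R) f).range := by
      rw [← Algebra.adjoin_range_eq_range_aeval, hgen]; exact Algebra.mem_top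
    exact this
  rw [← DirectSum.decompose_of_mem_same 𝒜 ha, ← GradedRing.proj_apply]
  clear ha
  induction P using MvPolynomial.induction_on' with
  | monomial μ c =>
    rw [MvPolynomial.aeval_monomial, ← Algebra.smul_def, GradedRing.proj_apply, Finsupp.prod_fintype _ _ (by simp)]
    have hm := Submodule.smul_mem _ c (prod_pow_mem f deg hf μ)
    by_cases h : ∑ i, μ i * deg i = k
    · rw [DirectSum.decompose_of_mem_same 𝒜 (h ▸ hm)]
      exact Submodule.smul_mem _ c (Submodule.subset_span ⟨μ, h, rfl⟩)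
    · rw [DirectSum.decompose_of_mem_ne 𝒜 hm h]
      exact zero_mem _
  | add p q hp hq => rw [map_add, map_add]; exact add_mem hp hq

theorem monomial_split (hdeg : ∀ i, 0 < deg i) (hf : ∀ i, f i ∈ 𝒜 (deg i)) {n k : ℕ}
    (hn : (s - 1) * (Finset.univ.lcm deg - 1) ≤ n) (i₀ : Fin s) (hk : deg i₀ ∣ k) (μ : Fin s → ℕ)
    (hμ : ∑ i, μ i * deg i = k + n) :
    (∏ i, f i ^ μ i) * f i₀ ^ n ∈ 𝒜 (k + n * deg i₀) * 𝒜 n := by
  classical
  set l := Finset.univ.lcm deg with hl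
  have hdl : ∀ i, deg i ∣ l := fun i => Finset.dvd_lcm (Finset.mem_univ i)
  have hlpos : 0 < l := Nat.pos_of_ne_zero fun h => by
    rw [hl, Finset.lcm_eq_zero_iff] at h
    obtain ⟨i, -, hi⟩ := h
    exact (hdeg i).ne' hi
  let r : Fin s → ℕ := fun i => μ i % (l / deg i)
  let ρ := ∑ i ∈ Finset.univ.erase i₀, r i * deg i
  have hρ : ρ ≤ n := by
    refine le_trans ?_ hn
    refine (Finset.sum_le_card_nsmul _ _ (l - 1) fun i _ => ?_).trans (by simp)
    have h1 : r i < l / deg i := Nat.mod_lt _ (Nat.div_pos (Nat.le_of_dvd hlpos (hdl i)) (hdeg i))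
    have h2 : (r i + 1) * deg i ≤ l / deg i * deg i := Nat.mul_le_mul_right _ h1
    rw [Nat.div_mul_cancel (hdl i), add_mul, one_mul] at h2
    have := hdeg i
    omega
  have hsplit : ∑ i ∈ Finset.univ.erase i₀, μ i * deg i =
      ρ + l * ∑ i ∈ Finset.univ.erase i₀, μ i / (l / deg i) := by
    rw [Finset.mul_sum, ← Finset.sum_add_distrib]
    refine Finset.sum_congr rfl fun i _ => ?_
    conv_lhs => rw [← Nat.mod_add_div (μ i) (l / deg i)]
    rw [add_mul, mul_right_comm, Nat.div_mul_cancel (hdl i)]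
  rw [← Finset.add_sum_erase _ _ (Finset.mem_univ i₀), hsplit] at hμ
  have hdvd : deg i₀ ∣ n - ρ := by
    have h1 : deg i₀ ∣ μ i₀ * deg i₀ + l * ∑ i ∈ Finset.univ.erase i₀, μ i / (l / deg i) :=
      (dvd_mul_left _ _).add ((hdl i₀).mul_right _)
    rw [show μ i₀ * deg i₀ + l * ∑ i ∈ Finset.univ.erase i₀, μ i / (l / deg i) = k + (n - ρ) by omega] at h1
    exact (Nat.dvd_add_right hk).1 h1
  obtain ⟨t, ht⟩ := hdvd
  let b : Fin s → ℕ := Function.update r i₀ t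
  let ν : Fin s → ℕ := fun i => μ i + (if i = i₀ then n else 0) - b i
  have htn : t ≤ n := le_trans (Nat.le_mul_of_pos_left t (hdeg i₀)) (by omega)
  have hb : ∀ i, b i + ν i = μ i + (if i = i₀ then n else 0) := fun i => by
    by_cases h : i = i₀
    · subst h; simp [b, ν]; omega
    · have := Nat.mod_le (μ i) (l / deg i)
      simp [b, ν, r, h]; omega
  have hbdeg : ∑ i, b i * deg i = n := by
    rw [← Finset.add_sum_erase _ _ (Finset.mem_univ i₀), Finset.sum_congr rfl (g := fun i => r i * deg i)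
      fun i hi => by simp [b, Finset.ne_of_mem_erase hi]]
    simp only [b, Function.update_self]
    rw [mul_comm, ← ht]
    omega
  have hνdeg : ∑ i, ν i * deg i = k + n * deg i₀ := by
    have h1 : ∑ i, (b i + ν i) * deg i = ∑ i, (μ i + if i = i₀ then n else 0) * deg i :=
      Finset.sum_congr rfl fun i _ => by rw [hb]
    simp only [add_mul, Finset.sum_add_distrib, ite_mul, zero_mul, Finset.sum_ite_eq', Finset.mem_univ, if_true,
      hbdeg] at h1
    rw [← Finset.add_sum_erase _ (fun i => μ i * deg i) (Finset.mem_univ i₀), hsplit] at h1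
    omega
  have : (∏ i, f i ^ μ i) * f i₀ ^ n = (∏ i, f i ^ ν i) * ∏ i, f i ^ b i := by
    rw [show (∏ i, f i ^ ν i) * ∏ i, f i ^ b i = ∏ i, f i ^ (μ i + if i = i₀ then n else 0) from
      Finset.prod_mul_distrib.symm.trans (Finset.prod_congr rfl fun i _ => by rw [← pow_add, add_comm, hb])]
    simp only [pow_add, Finset.prod_mul_distrib]
    congr 1
    rw [Finset.prod_eq_single i₀ (fun i _ hi => by rw [if_neg hi, pow_zero]) (by simp), if_pos rfl]
  rw [this]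
  exact Submodule.mul_mem_mul (hνdeg ▸ prod_pow_mem f deg hf ν) (by simpa [hbdeg] using prod_pow_mem f deg hf b)

theorem genCond_of_le (hdeg : ∀ i, 0 < deg i) (hf : ∀ i, f i ∈ 𝒜 (deg i))
    (hgen : Algebra.adjoin R (Set.range f) = ⊤) {n : ℕ} (hn : (s - 1) * (Finset.univ.lcm deg - 1) ≤ n) :
    GenCond 𝒜 n := fun x j σ a hσ ha hσx => by
  obtain ⟨i₀, hi₀⟩ := exists_notMem f deg hdeg hf hgen x
  obtain ⟨d, hd⟩ : ∃ d, deg i₀ = d + 1 := ⟨deg i₀ - 1, by have := hdeg i₀; omega⟩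
  have ha' : a * σ ^ d ∈ 𝒜 (deg i₀ * j + n) := by
    have := SetLike.mul_mem_graded ha (SetLike.pow_mem_graded d hσ)
    rwa [smul_eq_mul, show j + n + d * j = deg i₀ * j + n by rw [hd]; ring] at this
  refine ⟨deg i₀ * j + n * deg i₀, σ ^ (d + 1) * f i₀ ^ n, a * σ ^ d * f i₀ ^ n, ?_, ?_, ?_, by ring⟩
  · have := SetLike.mul_mem_graded (SetLike.pow_mem_graded (d + 1) hσ) (SetLike.pow_mem_graded n (hf i₀))
    simpa [hd] using this
  · exact fun h => (x.isPrime.mem_or_mem h).elim (fun h => hσx (x.isPrime.mem_of_pow_mem _ h))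
      fun h => hi₀ (x.isPrime.mem_of_pow_mem _ h)
  · refine Submodule.span_induction (p := fun z _ => z * f i₀ ^ n ∈ 𝒜 (deg i₀ * j + n * deg i₀) * 𝒜 n)
      (fun z hz => ?_) (by simp) (fun y z _ _ hy hz => ?_) (fun r z _ hz => ?_)
      (mem_span_monomials f deg hf hgen ha')
    · obtain ⟨μ, hμ, rfl⟩ := hz
      exact monomial_split f deg hdeg hf hn i₀ (dvd_mul_right _ _) μ hμ
    · rw [add_mul]; exact add_mem hy hz
    · rw [smul_mul_assoc]; exact Submodule.smul_mem _ r hz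

theorem covers_of_degOne (hcov : (⨆ g : 𝒜 1, Proj.basicOpen 𝒜 (g : A)) = ⊤) (n : ℕ) : Covers 𝒜 n := fun x => by
  obtain ⟨g, hg⟩ := Opens.mem_iSup.1 (hcov ▸ Opens.mem_top (show (Proj 𝒜) from x))
  exact ⟨⟨(g : A) ^ n, by simpa using SetLike.pow_mem_graded n g.2⟩, fun h => hg (x.isPrime.mem_of_pow_mem n h)⟩

end Groth.Agent.Lib.ZeroCyc99.Twist
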