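import Groth.Agent.Lib.ZeroCyc99.Twist
import Groth.Agent.Lib.ProjMor.Main
import Groth.Agent.Lib.ProjSpace.BaseChange

/-!
# Closed immersions of `Proj` by sections of `O(n)`
-/

noncomputable section

universe u

open CategoryTheory AlgebraicGeometry TopologicalSpace Opposite HomogeneousLocalization

namespace Groth.Agent.Lib.ZeroCyc99.ProjEmbed

open TensorMod TensorMod.Basic TensorMod.Free TensorMod.Dual TensorMod.Gen Ample.GenLocus Chow.PointMap
  ProjMor.Sec Twist ProjMor.Char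

open ProjMor.Frame (sec_ext value value_smul)

variable {R A : Type u} [CommRing R] [CommRing A] [Algebra R A] {𝒜 : ℕ → Submodule R A} [GradedAlgebra 𝒜]

theorem ι_str {f : A} {m : ℕ} (hf : f ∈ 𝒜 m) (hm : 0 < m) :
    (Proj.basicOpen 𝒜 f).ι ≫ str 𝒜 =
      Proj.basicOpenToSpec 𝒜 f ≫ Spec.map (CommRingCat.ofHom (scal 𝒜 f)) := by
  have e : (Proj.basicOpen 𝒜 f).ι = (Proj.basicOpenIsoSpec 𝒜 f hf hm).hom ≫ Proj.awayι 𝒜 f hf hm := by
    rw [Proj.awayι, Iso.hom_inv_id_assoc]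
  rw [e, str, Category.assoc, Proj.awayι_toSpecZero_assoc, Proj.basicOpenIsoSpec_hom, ← Spec.map_comp]
  rfl

theorem scalOn_str {f : A} {m : ℕ} (hf : f ∈ 𝒜 m) (hm : 0 < m) :
    ProjMor.Main.scalOn (str 𝒜) (Proj.basicOpen 𝒜 f) = (Proj.awayToSection 𝒜 f).hom.comp (scal 𝒜 f) := by
  have h1 := ProjMor.Main.toSpecHom_scalOn (str 𝒜) (Proj.basicOpen 𝒜 f)
  rw [ι_str hf hm] at h1
  have h2 : toSpecHom ((Proj.basicOpen 𝒜 f).topIso.inv.hom.comp ((Proj.awayToSection 𝒜 f).hom.comp (scal 𝒜 f))) =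
      Proj.basicOpenToSpec 𝒜 f ≫ Spec.map (CommRingCat.ofHom (scal 𝒜 f)) := by
    rw [toSpecHom, Proj.basicOpenToSpec, Scheme.Opens.toSpecΓ, Category.assoc, Category.assoc, ← Spec.map_comp,
      ← Spec.map_comp]
    rfl
  have h3 := toSpecHom_injective (h1.trans h2.symm)
  refine RingHom.ext fun r => ?_
  exact (ConcreteCategory.bijective_of_isIso (Proj.basicOpen 𝒜 f).topIso.inv).1 (RingHom.congr_fun h3 r)

section

variable {n : ℕ} (b : 𝒜 n)

/-- The function `a / b ^ k` on `D₊(b)`. -/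
def fn (k : ℕ) (a : A) (ha : a ∈ 𝒜 (k • n)) : Γ(Proj 𝒜, Proj.basicOpen 𝒜 (b : A)) :=
  Proj.awayToSection 𝒜 (b : A) (Away.mk 𝒜 b.2 k a ha)

theorem fn_eq (k : ℕ) (a : A) (ha : a ∈ 𝒜 (k • n)) :
    fn b k a ha = fracO (Proj.basicOpen 𝒜 (b : A)) ha (SetLike.pow_mem_graded k b.2)
      (fun y h => y.2 (y.1.isPrime.mem_of_pow_mem k h)) := by
  refine Subtype.ext (funext fun y => HomogeneousLocalization.val_injective _ ?_)
  refine (ProjectiveSpectrum.Proj.awayToSection_apply 𝒜 _ _ y).trans ?_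
  rw [Away.val_mk, Localization.mk_eq_mk', IsLocalization.map_mk', ← Localization.mk_eq_mk']
  rfl

theorem gl_eq_fn_smul (c : 𝒜 n) :
    gl (gs c) (Proj.basicOpen 𝒜 (b : A)) =
      fn b 1 c (by simp) • gl (gs b) (Proj.basicOpen 𝒜 (b : A)) := by
  rw [fn_eq]
  refine sec_ext fun y => Eq.trans ?_ (value_fracO_smul b _ _ _ y).symm
  refine (value_globalOf c _ y).trans ?_
  rw [Localization.mk_eq_mk_iff, Localization.r_iff_exists]
  exact ⟨1, by simp [mul_comm]⟩

theorem away_mul {k l : ℕ} {a a' : A} (ha : a ∈ 𝒜 (k • n)) (ha' : a' ∈ 𝒜 (l • n))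
    (h : a * a' ∈ 𝒜 ((k + l) • n)) :
    fn b k a ha * fn b l a' ha' = fn b (k + l) (a * a') h := by
  rw [fn, fn, fn, ← map_mul]
  congr 1
  apply HomogeneousLocalization.val_injective
  rw [HomogeneousLocalization.val_mul, Away.val_mk, Away.val_mk, Away.val_mk, Localization.mk_mul]
  exact congrArg (Localization.mk _) (Subtype.ext (pow_add (b : A) k l).symm)

theorem away_add {k : ℕ} {a a' : A} (ha : a ∈ 𝒜 (k • n)) (ha' : a' ∈ 𝒜 (k • n)) (h : a + a' ∈ 𝒜 (k • n)) :
    fn b k a ha + fn b k a' ha' = fn b k (a + a') h := by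
  rw [fn, fn, fn, ← map_add]
  congr 1
  apply HomogeneousLocalization.val_injective
  rw [HomogeneousLocalization.val_add, Away.val_mk, Away.val_mk, Away.val_mk, Localization.add_mk_self]

theorem away_scal (r : R) (h : algebraMap R A r ∈ 𝒜 (0 • n)) :
    fn b 0 (algebraMap R A r) h = Proj.awayToSection 𝒜 (b : A) (scal 𝒜 (b : A) r) := by
  rw [fn]
  congr 1
  apply HomogeneousLocalization.val_injective
  rw [Away.val_mk]
  show _ = Localization.mk (algebraMap R A r) _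
  exact congrArg (Localization.mk _) (Subtype.ext (pow_zero _))

theorem fn_mem_of_pow (T : Subring Γ(Proj 𝒜, Proj.basicOpen 𝒜 (b : A)))
    (hscal : ∀ r, Proj.awayToSection 𝒜 (b : A) (scal 𝒜 (b : A) r) ∈ T)
    {κ : Type*} (c : κ → 𝒜 n) (hc : 𝒜 n ≤ Submodule.span R (Set.range fun i => (c i : A)))
    (hgen : ∀ i, fn b 1 (c i) (by simp) ∈ T) {k : ℕ} {a : A} (ha : a ∈ 𝒜 n ^ k) (h : a ∈ 𝒜 (k • n)) :
    fn b k a h ∈ T := by
  have hdeg : ∀ {j : ℕ} {x : A}, x ∈ 𝒜 n ^ j → x ∈ 𝒜 (j • n) := fun {j x} hx => by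
    induction hx using Submodule.pow_induction_on_left' with
    | algebraMap r => simpa using SetLike.algebraMap_mem_graded 𝒜 r
    | add x y i _ _ hx hy => exact add_mem hx hy
    | mem_mul m hm i x _ hx => rw [Nat.succ_eq_add_one, succ_nsmul']; exact SetLike.mul_mem_graded hm hx
  revert h
  induction ha using Submodule.pow_induction_on_left' with
  | algebraMap r => intro h; rw [away_scal]; exact hscal r
  | add x y i hx hy ihx ihy =>
    intro h
    rw [← away_add b (hdeg hx) (hdeg hy)]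
    exact add_mem (ihx _) (ihy _)
  | mem_mul m hm i x hx ihx =>
    suffices ∀ (h1 : m ∈ 𝒜 (1 • n)), fn b 1 m h1 ∈ T by
      intro h
      have hh : m * x ∈ 𝒜 ((1 + i) • n) := by rwa [add_comm]
      have h' := mul_mem (this (by simpa using hm)) (ihx (hdeg hx))
      rw [away_mul b _ _ hh] at h'
      convert h' using 2
      omega
    clear ihx hx
    replace hm := hc hm
    induction hm using Submodule.span_induction with
    | mem y hy => obtain ⟨j, rfl⟩ := hy; exact fun _ => hgen j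
    | zero =>
      intro h1
      rw [show fn b 1 0 h1 = 0 from by
        rw [fn, ← map_zero (Proj.awayToSection 𝒜 (b : A)).hom]
        congr 1
        apply HomogeneousLocalization.val_injective
        rw [Away.val_mk, HomogeneousLocalization.val_zero, Localization.mk_zero]]
      exact zero_mem _
    | add y z hy hz ihy ihz =>
      intro h1
      have hy' : y ∈ 𝒜 (1 • n) := by
        rw [one_smul]; exact Submodule.span_le.2 (by rintro _ ⟨j, rfl⟩; exact (c j).2) hy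
      have hz' : z ∈ 𝒜 (1 • n) := by
        rw [one_smul]; exact Submodule.span_le.2 (by rintro _ ⟨j, rfl⟩; exact (c j).2) hz
      rw [← away_add b hy' hz']
      exact add_mem (ihy _) (ihz _)
    | smul r y hy ihy =>
      intro h1
      have hy' : y ∈ 𝒜 (1 • n) := by
        rw [one_smul]; exact Submodule.span_le.2 (by rintro _ ⟨j, rfl⟩; exact (c j).2) hy
      have h0 : algebraMap R A r ∈ 𝒜 (0 • n) := by simpa using SetLike.algebraMap_mem_graded 𝒜 r
      have h' := mul_mem (hscal r) (ihy hy')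
      rw [← away_scal b r h0, away_mul b h0 hy' (by rwa [zero_add, ← Algebra.smul_def])] at h'
      convert h' using 2
      rw [Algebra.smul_def]

/-- Multiplying numerator and denominator by a power. -/
theorem fn_mul_pow {k m : ℕ} {a : A} (ha : a ∈ 𝒜 (k • n)) (h : a * (b : A) ^ m ∈ 𝒜 ((k + m) • n)) :
    fn b k a ha = fn b (k + m) (a * (b : A) ^ m) h := by
  rw [fn, fn]
  congr 1
  apply HomogeneousLocalization.val_injective
  rw [Away.val_mk, Away.val_mk, Localization.mk_eq_mk_iff, Localization.r_iff_exists]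
  exact ⟨1, by simp [pow_add]; ring⟩

end

/-- `A_n` defines a closed immersion into a projective space. -/
theorem exists_closedImmersion [IsProper (str 𝒜)] {n : ℕ} (hn : 0 < n) {κ : Type*} [Fintype κ] (c : κ → 𝒜 n)
    (hc : 𝒜 n ≤ Submodule.span R (Set.range fun i => (c i : A))) (I : Set κ)
    (hcov : ∀ x : ProjectiveSpectrum 𝒜, ∃ i ∈ I, (c i : A) ∉ x.asHomogeneousIdeal)
    (hden : ∀ i ∈ I, ∀ (k : ℕ), ∀ a ∈ 𝒜 (k • n), ∃ m, a * (c i : A) ^ m ∈ 𝒜 n ^ (k + m)) :
    ∃ (N : ℕ) (i : Proj 𝒜 ⟶ CohB1.ProjSpaceOver N (Spec (CommRingCat.of R))), IsClosedImmersion i ∧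
      i ≫ Limits.pullback.snd (CohB1.ProjSpace.toSpec N (ULift.{u} ℤ))
          (specULiftZIsTerminal.from (Spec (CommRingCat.of R))) = str 𝒜 ∧
      Nonempty (Twist.twist 𝒜 (n : ℤ) ≅
        (Scheme.Modules.pullback i).obj (Twist.twistOver N (Spec (CommRingCat.of R)) 1)) := by
  let e : Fin (Fintype.card κ + 1) ≃ Option κ := (Fintype.equivFinOfCardEq Fintype.card_option).symm
  let c' : Fin (Fintype.card κ + 1) → 𝒜 n := fun j => (e j).elim 0 c
  have he : ∀ i, c' (e.symm (some i)) = c i := fun i => by simp [c']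
  have hC : Covers 𝒜 n := fun x => by
    obtain ⟨i, -, hi⟩ := hcov x
    exact ⟨c i, hi⟩
  have hloc : ∀ j, locus (gs (c' j)) = Proj.basicOpen 𝒜 (c' j : A) := fun j => locus_globalOf hC _
  have hM : PicF.IsInvertible (Twist.twist 𝒜 (n : ℤ)) := fun x => by
    obtain ⟨b, hb⟩ := hC x
    exact ⟨Proj.basicOpen 𝒜 (b : A), hb, by simpa using ProjTilde.Invertible.twist_trivial_basicOpen b.2 1 le_rfl⟩
  have hg : ∀ j, j ∈ {j | ∃ i ∈ I, e j = some i} → ∀ (hV : locus (gs (c' j)) ≤ str 𝒜 ⁻¹ᵁ ⊤)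
      (z : Γ(Proj 𝒜, locus (gs (c' j)))),
      z ∈ Subring.closure (Set.range ((str 𝒜).appLE ⊤ (locus (gs (c' j))) hV).hom ∪
        {a | ∃ k, gl (gs (c' k)) (locus (gs (c' j))) = a • gl (gs (c' j)) (locus (gs (c' j)))}) := by
    intro j hj hV
    obtain ⟨i, hi, hei⟩ := hj
    have key : ∀ (V : (Proj 𝒜).Opens), V = Proj.basicOpen 𝒜 (c' j : A) → ∀ (hV : V ≤ str 𝒜 ⁻¹ᵁ ⊤) (z : Γ(Proj 𝒜, V)),
        z ∈ Subring.closure (Set.range ((str 𝒜).appLE ⊤ V hV).hom ∪
          {a | ∃ k, gl (gs (c' k)) V = a • gl (gs (c' j)) V}) := by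
      rintro V rfl hV z
      obtain ⟨y, rfl⟩ := (ConcreteCategory.bijective_of_isIso
        (Proj.basicOpenIsoAway 𝒜 _ (c' j).2 hn).hom).2 z
      obtain ⟨k, a, ha, rfl⟩ := Away.mk_surjective 𝒜 (c' j).2 y
      show fn (c' j) k a ha ∈ _
      have hci : c' j = c i := by simp [c', hei]
      obtain ⟨m, hm⟩ := hden i hi k a ha
      rw [← hci] at hm
      have hdeg : a * (c' j : A) ^ m ∈ 𝒜 ((k + m) • n) := by
        rw [add_nsmul]; exact SetLike.mul_mem_graded ha (SetLike.pow_mem_graded m (c' j).2)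
      rw [fn_mul_pow (c' j) ha hdeg]
      refine fn_mem_of_pow (c' j) _ (fun r => ?_) c hc (fun l => ?_) hm hdeg
      · refine Subring.subset_closure (Or.inl ⟨(Scheme.ΓSpecIso (CommRingCat.of R)).inv r, ?_⟩)
        refine Eq.trans ?_ (RingHom.congr_fun (scalOn_str (c' j).2 hn) r)
        rfl
      · refine Subring.subset_closure (Or.inr ⟨e.symm (some l), ?_⟩)
        rw [he]
        exact gl_eq_fn_smul (c' j) (c l)
    exact key _ (hloc j) hV
  obtain ⟨N, j, hj, hjf, hτ⟩ := ProjMor.Embed.isRelVeryAmplePn_of_sections (str 𝒜) (Twist.twist 𝒜 (n : ℤ)) hM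
    (fun j => gs (c' j)) {j | ∃ i ∈ I, e j = some i}
    (fun x => by
      obtain ⟨i, hi, hix⟩ := hcov x
      refine ⟨e.symm (some i), ⟨i, hi, e.apply_symm_apply _⟩, ?_⟩
      rw [hloc, he]
      exact hix)
    (fun j _ => by rw [hloc]; exact Proj.isAffineOpen_basicOpen 𝒜 _ (c' j).2 hn)
    (fun _ => ⊤) (fun _ _ => isAffineOpen_top _) (fun _ _ => le_top)
    (fun j hj => hg j hj _)
  · refine ⟨N, j, ?_, hjf, hτ⟩
    have hjf' : j ≫ CohB1.ProjSpaceOver.toBase N (Spec (CommRingCat.of R)) = str 𝒜 := hjf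
    have : IsProper (j ≫ CohB1.ProjSpaceOver.toBase N (Spec (CommRingCat.of R))) := by rw [hjf']; infer_instance
    have := IsProper.of_comp j (CohB1.ProjSpaceOver.toBase N (Spec (CommRingCat.of R)))
    exact IsClosedImmersion.of_isPreimmersion _ j.isClosedMap.isClosed_range

/-! ### Properness -/

variable {s : ℕ} (f : Fin s → A) (deg : Fin s → ℕ)

theorem isProper_str (hdeg : ∀ i, 0 < deg i) (hf : ∀ i, f i ∈ 𝒜 (deg i))
    (hgen : Algebra.adjoin R (Set.range f) = ⊤) : IsProper (str 𝒜) := by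
  have hsurj : Function.Surjective (algebraMap R (𝒜 0)) := fun a => by
    have h := mem_span_monomials f deg hf hgen a.2
    suffices (a : A) ∈ Submodule.span R {(1 : A)} by
      obtain ⟨r, hr⟩ := Submodule.mem_span_singleton.1 this
      refine ⟨r, Subtype.ext ?_⟩
      show algebraMap R A r = _
      rw [← hr, Algebra.smul_def, mul_one]
    refine Submodule.span_mono ?_ h
    rintro _ ⟨ν, hν, rfl⟩
    refine Finset.prod_eq_one fun i _ => ?_
    have : ν i * deg i = 0 := (Finset.sum_eq_zero_iff.1 hν) i (Finset.mem_univ i)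
    rw [(mul_eq_zero.1 this).resolve_right (hdeg i).ne', pow_zero]
  classical
  have : Algebra.FiniteType R A := ⟨⟨Finset.univ.image f, by simpa using hgen⟩⟩
  have : IsScalarTower R (𝒜 0) A := ⟨fun r x y => smul_mul_assoc r (x : A) y⟩
  have : Algebra.FiniteType (𝒜 0) A := Algebra.FiniteType.of_restrictScalars_finiteType R (𝒜 0) A
  have : IsClosedImmersion (Spec.map (CommRingCat.ofHom (algebraMap R (𝒜 0)))) :=
    IsClosedImmersion.spec_of_surjective _ hsurj
  rw [str]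
  infer_instance

/-! ### Combinatorics -/

theorem prod_mem_pow {ι : Type*} (t : Finset ι) {M : Submodule R A} (g : ι → A) (e : ι → ℕ)
    (h : ∀ i ∈ t, g i ∈ M) : ∏ i ∈ t, g i ^ e i ∈ M ^ ∑ i ∈ t, e i := by
  classical
  induction t using Finset.induction_on with
  | empty => rw [Finset.prod_empty, Finset.sum_empty, pow_zero]; exact Submodule.one_le.1 le_rfl
  | insert a t ha ih =>
    rw [Finset.prod_insert ha, Finset.sum_insert ha, pow_add]
    exact Submodule.mul_mem_mul (Submodule.pow_mem_pow _ (h a (Finset.mem_insert_self _ _)) _)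
      (ih fun i hi => h i (Finset.mem_insert_of_mem hi))

theorem exists_le_sum {s : ℕ} (q : Fin s → ℕ) {T : ℕ} (h : T ≤ ∑ i, q i) :
    ∃ q' : Fin s → ℕ, (∀ i, q' i ≤ q i) ∧ ∑ i, q' i = T := by
  induction s generalizing T with
  | zero => exact ⟨q, fun _ => le_rfl, by simp at h ⊢; omega⟩
  | succ s ih =>
    rw [Fin.sum_univ_succ] at h
    obtain ⟨q', hq', hsum⟩ := ih (fun i => q i.succ) (T := T - min T (q 0)) (by omega)
    refine ⟨Fin.cons (min T (q 0)) q', Fin.cases (by simp) fun i => by simpa using hq' i, ?_⟩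
    rw [Fin.sum_univ_succ]
    simp [hsum]

/-- A monomial of degree `k * (a * l)`, `k ≥ 1`, contains one of degree `a * l`. -/
theorem exists_le_deg (hdeg : ∀ i, 0 < deg i) {a k : ℕ} (has : s - 1 ≤ a) (hk : 0 < k) (ν : Fin s → ℕ)
    (hν : ∑ i, ν i * deg i = k * (a * Finset.univ.lcm deg)) :
    ∃ ν' : Fin s → ℕ, (∀ i, ν' i ≤ ν i) ∧ ∑ i, ν' i * deg i = a * Finset.univ.lcm deg := by
  classical
  set l := Finset.univ.lcm deg with hl
  have hdl : ∀ i, deg i ∣ l := fun i => Finset.dvd_lcm (Finset.mem_univ i)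
  have hlpos : 0 < l := Nat.pos_of_ne_zero fun h => by
    rw [hl, Finset.lcm_eq_zero_iff] at h
    obtain ⟨i, -, hi⟩ := h
    exact (hdeg i).ne' hi
  let μ : Fin s → ℕ := fun i => l / deg i
  have hμ : ∀ i, μ i * deg i = l := fun i => Nat.div_mul_cancel (hdl i)
  let r : Fin s → ℕ := fun i => ν i % μ i
  let q : Fin s → ℕ := fun i => ν i / μ i
  have hsplit : ∀ i, ν i * deg i = r i * deg i + q i * l := fun i => by
    rw [← hμ i, ← mul_assoc, ← add_mul, mul_comm (q i), Nat.mod_add_div]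
  rw [Finset.sum_congr rfl fun i _ => hsplit i, Finset.sum_add_distrib, ← Finset.sum_mul] at hν
  obtain ⟨p, hp⟩ : l ∣ ∑ i, r i * deg i :=
    (Nat.dvd_add_left (dvd_mul_left l (∑ i, q i))).1 ⟨k * a, by rw [hν]; ring⟩
  have hρ : ∑ i, r i * deg i + s ≤ s * l := by
    have : ∀ i, r i * deg i + 1 ≤ l := fun i => by
      have h1 : r i < μ i := Nat.mod_lt _ (Nat.div_pos (Nat.le_of_dvd hlpos (hdl i)) (hdeg i))
      have := Nat.mul_lt_mul_of_pos_right h1 (hdeg i)
      rw [hμ] at this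
      omega
    have := Finset.sum_le_card_nsmul Finset.univ (fun i => r i * deg i + 1) l fun i _ => this i
    simpa [Finset.sum_add_distrib] using this
  have hpa : p ≤ a := by
    rw [hp] at hρ
    rcases Nat.eq_zero_or_pos s with hs | hs
    · subst hs
      simp at hρ
      rcases hρ with h | h <;> omega
    · have : l * p < l * s := by rw [mul_comm l s]; omega
      have := Nat.lt_of_mul_lt_mul_left this
      omega
  have hq : a - p ≤ ∑ i, q i := by
    have h1 : (p + ∑ i, q i) * l = (k * a) * l := by rw [add_mul, mul_comm p, ← hp, hν]; ring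
    have h2 := Nat.eq_of_mul_eq_mul_right hlpos h1
    have h3 : a ≤ k * a := Nat.le_mul_of_pos_left _ hk
    omega
  obtain ⟨q', hq', hsum⟩ := exists_le_sum q hq
  refine ⟨fun i => r i + q' i * μ i, fun i => ?_, ?_⟩
  · calc r i + q' i * μ i ≤ r i + q i * μ i := by gcongr; exact hq' i
      _ = ν i := by rw [mul_comm]; exact Nat.mod_add_div _ _
  · simp only [add_mul, mul_assoc, hμ, Finset.sum_add_distrib, ← Finset.sum_mul, hp, hsum]
    rw [mul_comm l p, ← add_mul, Nat.add_sub_cancel' hpa]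

theorem le_pow (hdeg : ∀ i, 0 < deg i) (hf : ∀ i, f i ∈ 𝒜 (deg i)) (hgen : Algebra.adjoin R (Set.range f) = ⊤)
    {a : ℕ} (has : s - 1 ≤ a) (k : ℕ) :
    𝒜 (k * (a * Finset.univ.lcm deg)) ≤ 𝒜 (a * Finset.univ.lcm deg) ^ k := by
  intro z hz
  refine Submodule.span_le.2 ?_ (mem_span_monomials f deg hf hgen hz)
  rintro _ ⟨ν, hν, rfl⟩
  clear hz z
  induction k generalizing ν with
  | zero =>
    rw [pow_zero]
    refine Submodule.mem_one.2 ⟨1, ?_⟩
    rw [map_one]
    refine (Finset.prod_eq_one fun i _ => ?_).symm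
    rw [zero_mul] at hν
    have : ν i * deg i = 0 := (Finset.sum_eq_zero_iff.1 hν) i (Finset.mem_univ i)
    rw [(mul_eq_zero.1 this).resolve_right (hdeg i).ne', pow_zero]
  | succ k ih =>
    obtain ⟨ν', hle, hν'⟩ := exists_le_deg deg hdeg has k.succ_pos ν hν
    have hrest : ∑ i, (ν i - ν' i) * deg i = k * (a * Finset.univ.lcm deg) := by
      have : ∑ i, (ν i - ν' i) * deg i + ∑ i, ν' i * deg i = ∑ i, ν i * deg i := by
        rw [← Finset.sum_add_distrib]
        exact Finset.sum_congr rfl fun i _ => by rw [← add_mul, Nat.sub_add_cancel (hle i)]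
      rw [hν', hν, Nat.succ_mul] at this
      omega
    rw [pow_succ]
    have : ∏ i, f i ^ ν i = (∏ i, f i ^ (ν i - ν' i)) * ∏ i, f i ^ ν' i := by
      rw [← Finset.prod_mul_distrib]
      exact Finset.prod_congr rfl fun i _ => by rw [← pow_add, Nat.sub_add_cancel (hle i)]
    show _ ∈ _
    rw [this]
    exact Submodule.mul_mem_mul (ih _ hrest) (hν' ▸ prod_pow_mem f deg hf ν')

/-- The exponent vectors of degree `n`. -/
abbrev Mon (n : ℕ) : Type := {ν : Fin s → Fin (n + 1) // ∑ i, (ν i : ℕ) * deg i = n}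

/-- The monomials of degree `n`. -/
def mon (hf : ∀ i, f i ∈ 𝒜 (deg i)) (n : ℕ) (ν : Mon deg n) : 𝒜 n :=
  ⟨∏ i, f i ^ (ν.1 i : ℕ), by simpa only [ν.2] using prod_pow_mem f deg hf fun i => (ν.1 i : ℕ)⟩

theorem le_span_mon (hdeg : ∀ i, 0 < deg i) (hf : ∀ i, f i ∈ 𝒜 (deg i))
    (hgen : Algebra.adjoin R (Set.range f) = ⊤) (n : ℕ) :
    𝒜 n ≤ Submodule.span R (Set.range fun ν => (mon f deg hf n ν : A)) := fun z hz => by
  refine Submodule.span_mono ?_ (mem_span_monomials f deg hf hgen hz)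
  rintro _ ⟨ν, hν, rfl⟩
  have : ∀ i, ν i < n + 1 := fun i => by
    have h1 : ν i * deg i ≤ n := hν ▸ Finset.single_le_sum (f := fun i => ν i * deg i) (fun _ _ => Nat.zero_le _) (Finset.mem_univ i)
    have := Nat.le_mul_of_pos_right (ν i) (hdeg i)
    omega
  exact ⟨⟨fun i => ⟨ν i, this i⟩, hν⟩, rfl⟩

theorem exists_closedImmersion_lcm (hdeg : ∀ i, 0 < deg i) (hf : ∀ i, f i ∈ 𝒜 (deg i))
    (hgen : Algebra.adjoin R (Set.range f) = ⊤) {a : ℕ} (ha : 0 < a) (has : s - 1 ≤ a) :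
    ∃ (N : ℕ) (i : Proj 𝒜 ⟶ CohB1.ProjSpaceOver N (Spec (CommRingCat.of R))), IsClosedImmersion i ∧
      i ≫ Limits.pullback.snd (CohB1.ProjSpace.toSpec N (ULift.{u} ℤ))
          (specULiftZIsTerminal.from (Spec (CommRingCat.of R))) = str 𝒜 ∧
      Nonempty (Twist.twist 𝒜 ((a * Finset.univ.lcm deg : ℕ) : ℤ) ≅
        (Scheme.Modules.pullback i).obj (Twist.twistOver N (Spec (CommRingCat.of R)) 1)) := by
  have := isProper_str f deg hdeg hf hgen
  have hlpos : 0 < Finset.univ.lcm deg := Nat.pos_of_ne_zero fun h => by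
    rw [Finset.lcm_eq_zero_iff] at h
    obtain ⟨i, -, hi⟩ := h
    exact (hdeg i).ne' hi
  refine exists_closedImmersion (Nat.mul_pos ha hlpos) (mon f deg hf _) (le_span_mon f deg hdeg hf hgen _) Set.univ
    (fun x => ?_) fun ν _ k z hz => ⟨0, ?_⟩
  · obtain ⟨b, hb⟩ := covers_lcm f deg hdeg hf hgen a x
    by_contra hcon
    push Not at hcon
    refine hb (Submodule.span_le.2 ?_ (le_span_mon f deg hdeg hf hgen _ b.2) :
      (b : A) ∈ x.asHomogeneousIdeal.toIdeal.restrictScalars R)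
    rintro _ ⟨ν, rfl⟩
    exact hcon ν (Set.mem_univ _)
  · rw [pow_zero, mul_one, add_zero]
    exact le_pow f deg hdeg hf hgen has k (by simpa using hz)

theorem exists_closedImmersion_degOne (hdeg : ∀ i, 0 < deg i) (hf : ∀ i, f i ∈ 𝒜 (deg i))
    (hgen : Algebra.adjoin R (Set.range f) = ⊤) (hcov : (⨆ g : 𝒜 1, Proj.basicOpen 𝒜 (g : A)) = ⊤)
    {n : ℕ} (hn : ∀ i, deg i ≤ n) (hn1 : 0 < n) :
    ∃ (N : ℕ) (i : Proj 𝒜 ⟶ CohB1.ProjSpaceOver N (Spec (CommRingCat.of R))), IsClosedImmersion i ∧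
      i ≫ Limits.pullback.snd (CohB1.ProjSpace.toSpec N (ULift.{u} ℤ))
          (specULiftZIsTerminal.from (Spec (CommRingCat.of R))) = str 𝒜 ∧
      Nonempty (Twist.twist 𝒜 (n : ℤ) ≅
        (Scheme.Modules.pullback i).obj (Twist.twistOver N (Spec (CommRingCat.of R)) 1)) := by
  classical
  have := isProper_str f deg hdeg hf hgen
  have := compactSpace_of_gens f deg hdeg hf hgen
  obtain ⟨G, hG⟩ := (isCompact_univ (X := Proj 𝒜)).elim_finite_subcover
    (fun g : 𝒜 1 => ((Proj.basicOpen 𝒜 (g : A)) : Set (Proj 𝒜))) (fun g => (Proj.basicOpen 𝒜 (g : A)).isOpen)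
    (fun x _ => Set.mem_iUnion.2 (Opens.mem_iSup.1 (hcov ▸ Opens.mem_top x)))
  let gp : G → 𝒜 n := fun g => ⟨((g : 𝒜 1) : A) ^ n, by simpa using SetLike.pow_mem_graded n (g : 𝒜 1).2⟩
  refine exists_closedImmersion hn1 (Sum.elim (mon f deg hf n) gp)
    ((le_span_mon f deg hdeg hf hgen _).trans (Submodule.span_mono ?_)) (Set.range Sum.inr) (fun x => ?_) ?_
  · rintro _ ⟨ν, rfl⟩
    exact ⟨Sum.inl ν, rfl⟩
  · obtain ⟨g, hg, hgx⟩ := Set.mem_iUnion₂.1 (hG (Set.mem_univ x))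
    exact ⟨Sum.inr ⟨g, hg⟩, ⟨_, rfl⟩, fun h => hgx (x.isPrime.mem_of_pow_mem n h)⟩
  rintro _ ⟨g, rfl⟩ k z hz
  change ∃ m, z * (((g : 𝒜 1) : A) ^ n) ^ m ∈ 𝒜 n ^ (k + m)
  set γ : A := ((g : 𝒜 1) : A)
  have hγ : γ ∈ 𝒜 1 := (g : 𝒜 1).2
  suffices ∃ M, ∀ m, M ≤ m → z * (γ ^ n) ^ m ∈ 𝒜 n ^ (k + m) from let ⟨M, hM⟩ := this; ⟨M, hM M le_rfl⟩
  have hpow : ∀ m, (γ ^ n) ^ m ∈ 𝒜 n ^ m := fun m =>
    Submodule.pow_mem_pow _ (by simpa using SetLike.pow_mem_graded n hγ) m
  replace hz := mem_span_monomials f deg hf hgen hz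
  induction hz using Submodule.span_induction with
  | mem y hy =>
    obtain ⟨ν, hν, rfl⟩ := hy
    refine ⟨∑ i, ν i, fun m hm => ?_⟩
    rw [smul_eq_mul] at hν
    have hk : k ≤ ∑ i, ν i := by
      have h1 : ∑ i, ν i * deg i ≤ ∑ i, ν i * n := Finset.sum_le_sum fun i _ => Nat.mul_le_mul_left _ (hn i)
      rw [hν, ← Finset.sum_mul] at h1
      exact Nat.le_of_mul_le_mul_right h1 hn1
    have hsum : ∑ i, ν i * (n - deg i) + k * n = (∑ i, ν i) * n := by
      rw [← hν, ← Finset.sum_add_distrib, Finset.sum_mul]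
      exact Finset.sum_congr rfl fun i _ => by rw [← mul_add, Nat.sub_add_cancel (hn i)]
    have e : (∏ i, f i ^ ν i) * (γ ^ n) ^ m =
        (∏ i, (f i * γ ^ (n - deg i)) ^ ν i) * (γ ^ n) ^ (k + m - ∑ i, ν i) := by
      simp only [mul_pow, ← pow_mul, Finset.prod_mul_distrib, Finset.prod_pow_eq_pow_sum, mul_assoc, ← pow_add]
      congr 2
      rw [Finset.sum_congr rfl fun i _ => mul_comm (n - deg i) (ν i)]
      have h1 := Nat.sub_add_cancel (show ∑ i, ν i ≤ k + m by omega)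
      have h2 : (k + m - ∑ i, ν i) * n + (∑ i, ν i) * n = k * n + m * n := by rw [← add_mul, h1, add_mul]
      rw [mul_comm n m, mul_comm n (k + m - _)]
      omega
    rw [e, ← Nat.add_sub_cancel' (show ∑ i, ν i ≤ k + m by omega), pow_add, Nat.add_sub_cancel']
    · refine Submodule.mul_mem_mul ?_ (hpow _)
      exact prod_mem_pow _ _ _ fun i _ => by
        simpa [Nat.add_sub_cancel' (hn i)] using SetLike.mul_mem_graded (hf i) (SetLike.pow_mem_graded (n - deg i) hγ)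
    · omega
  | zero => exact ⟨0, fun m _ => by simp⟩
  | add x y _ _ hx hy =>
    obtain ⟨M, hM⟩ := hx
    obtain ⟨M', hM'⟩ := hy
    exact ⟨max M M', fun m hm => by rw [add_mul]; exact add_mem (hM m (by omega)) (hM' m (by omega))⟩
  | smul r x _ hx =>
    obtain ⟨M, hM⟩ := hx
    exact ⟨M, fun m hm => by rw [smul_mul_assoc]; exact Submodule.smul_mem _ r (hM m hm)⟩

/-- Homogeneous generators with bounded degrees. -/
theorem exists_gens [Algebra.FiniteType R A] {d : ℕ}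
    (hgen : Algebra.adjoin R (⋃ i ∈ Finset.Icc 1 d, (𝒜 i : Set A)) = ⊤) :
    ∃ (s : ℕ) (f : Fin s → A) (deg : Fin s → ℕ), (∀ i, 0 < deg i ∧ deg i ≤ d) ∧ (∀ i, f i ∈ 𝒜 (deg i)) ∧
      Algebra.adjoin R (Set.range f) = ⊤ := by
  classical
  set U := ⋃ i ∈ Finset.Icc 1 d, (𝒜 i : Set A) with hU
  obtain ⟨T, hT⟩ := Algebra.FiniteType.out (R := R) (A := A)
  have hfin : ∀ z ∈ Algebra.adjoin R U, ∃ W : Finset A, (W : Set A) ⊆ U ∧ z ∈ Algebra.adjoin R (W : Set A) := by
    intro z hz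
    induction hz using Algebra.adjoin_induction with
    | mem y hy => exact ⟨{y}, by simpa using hy, Algebra.subset_adjoin (by simp)⟩
    | algebraMap r => exact ⟨∅, by simp, Subalgebra.algebraMap_mem _ r⟩
    | add x y _ _ hx hy =>
      obtain ⟨W, hW, hx⟩ := hx
      obtain ⟨W', hW', hy⟩ := hy
      exact ⟨W ∪ W', by simp [hW, hW'], add_mem (Algebra.adjoin_mono (by simp) hx) (Algebra.adjoin_mono (by simp) hy)⟩
    | mul x y _ _ hx hy =>
      obtain ⟨W, hW, hx⟩ := hx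
      obtain ⟨W', hW', hy⟩ := hy
      exact ⟨W ∪ W', by simp [hW, hW'], mul_mem (Algebra.adjoin_mono (by simp) hx) (Algebra.adjoin_mono (by simp) hy)⟩
  choose W hWU hWz using fun z => hfin z (hgen ▸ Algebra.mem_top)
  let S := T.biUnion W
  have hS : ∀ y : S, ∃ i ∈ Finset.Icc 1 d, (y : A) ∈ 𝒜 i := fun y => by
    obtain ⟨z, -, hy⟩ := Finset.mem_biUnion.1 y.2
    simpa [hU] using hWU z hy
  choose dg hdg hmem using hS
  refine ⟨S.card, fun i => (S.equivFin.symm i : A), fun i => dg (S.equivFin.symm i), fun i => ?_,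
    fun i => hmem _, top_le_iff.1 ?_⟩
  · have := Finset.mem_Icc.1 (hdg (S.equivFin.symm i))
    exact ⟨this.1, this.2⟩
  · rw [← hT]
    refine Algebra.adjoin_le fun z hz => Algebra.adjoin_mono ?_ (hWz z)
    intro y hy
    exact ⟨S.equivFin ⟨y, Finset.mem_biUnion.2 ⟨z, hz, hy⟩⟩, by simp⟩

end Groth.Agent.Lib.ZeroCyc99.ProjEmbed
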