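import Mathlib.LinearAlgebra.Pi
import Mathlib.SetTheory.Cardinal.Finite
import Mathlib.Algebra.Field.Basic
import Mathlib.Algebra.Module.LinearMap.Basic

/-!
# Avoiding finitely many kernels over a large field
-/

namespace Groth.Agent.Lib.ZeroCyc99.Avoid

open Cardinal

theorem exists_forall_ne_zero {k : Type*} [Field k] {V : Type*} [AddCommGroup V] [Module k V] {ι : Type*}
    {W : ι → Type*} [∀ i, AddCommGroup (W i)] [∀ i, Module k (W i)] (L : ∀ i, V →ₗ[k] W i) (s : Finset ι)
    (hL : ∀ i ∈ s, L i ≠ 0) (hk : (s.card : Cardinal) ≤ Cardinal.mk k) : ∃ v, ∀ i ∈ s, L i v ≠ 0 := by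
  classical
  induction s using Finset.induction_on with
  | empty => exact ⟨0, by simp⟩
  | insert a s ha ih =>
    obtain ⟨v, hv⟩ := ih (fun i hi => hL i (Finset.mem_insert_of_mem hi))
      (le_trans (by exact_mod_cast Finset.card_le_card (Finset.subset_insert a s)) hk)
    by_cases hva : L a v = 0
    · obtain ⟨w, hw⟩ : ∃ w, L a w ≠ 0 := by
        by_contra hcon
        simp only [not_exists, not_not] at hcon
        exact hL a (Finset.mem_insert_self a s) (LinearMap.ext hcon)
      let Bad : Set k := {c | ∃ i ∈ s, L i (w + (c : k) • v) = 0}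
      have hbad : ∃ T : Finset k, T.card ≤ s.card ∧ Bad ⊆ T := by
        have h1 : ∀ i ∈ s, ∀ c c', L i (w + (c : k) • v) = 0 → L i (w + c' • v) = 0 → c = c' := by
          intro i hi c c' hc hc'
          have : (c - c') • L i v = 0 := by
            rw [map_add, map_smul] at hc hc'
            rw [sub_smul, sub_eq_zero]
            exact add_left_cancel (hc.trans hc'.symm)
          exact sub_eq_zero.mp ((smul_eq_zero.mp this).resolve_right (hv i hi))
        choose g hg using fun i : ι => show ∃ c : k, (∃ c' : k, L i (w + c' • v) = 0) → L i (w + (c : k) • v) = 0 from by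
          by_cases h : ∃ c' : k, L i (w + c' • v) = 0
          · exact ⟨h.choose, fun _ => h.choose_spec⟩
          · exact ⟨0, fun h' => absurd h' h⟩
        refine ⟨s.image g, Finset.card_image_le, ?_⟩
        rintro c ⟨i, hi, hc⟩
        exact Finset.mem_coe.mpr (Finset.mem_image.mpr ⟨i, hi, h1 i hi _ _ (hg i ⟨c, hc⟩) hc⟩)
      obtain ⟨T, hT, hBT⟩ := hbad
      obtain ⟨c, hc⟩ : ∃ c, c ∉ T := by
        by_contra hcon
        simp only [not_exists, not_not] at hcon
        let inst : Fintype k := ⟨T, hcon⟩
        rw [Cardinal.mk_fintype, Finset.card_insert_of_notMem ha, Nat.cast_le] at hk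
        have : @Fintype.card k inst = T.card := rfl
        omega
      refine ⟨w + c • v, fun i hi => ?_⟩
      rcases Finset.mem_insert.mp hi with rfl | hi
      · simp [hva, hw]
      · exact fun h => hc (hBT ⟨i, hi, h⟩)
    · refine ⟨v, fun i hi => ?_⟩
      rcases Finset.mem_insert.mp hi with rfl | hi
      exacts [hva, hv i hi]

end Groth.Agent.Lib.ZeroCyc99.Avoid
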