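import Groth.Prelude.Def_SymTen
import Groth.Agent.Lib.ZeroCyc99.Avoid
import Mathlib.RingTheory.GradedAlgebra.Basic
import Mathlib.RingTheory.MvPolynomial.Homogeneous
import Mathlib.RingTheory.Ideal.GoingUp
import Mathlib.RingTheory.LocalRing.ResidueField.Ideal

/-!
# Coverings of `Proj` of the symmetric tensors in a graded algebra
-/

universe u

open scoped TensorProduct
open PiTensorProduct

namespace Groth.Agent.Lib.ZeroCyc99.Cover

variable {A B : Type u} [CommRing A] [CommRing B] [Algebra A B] (𝒜 : ℕ → Submodule A B) [GradedAlgebra 𝒜] {d : ℕ}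

variable (d) in
/-- The balanced pure tensors. -/
def gens : Set (⨂[A] _ : Fin d, B) :=
  {t | ∃ (k : ℕ) (b : Fin d → B), (∀ i, b i ∈ 𝒜 k) ∧ t = PiTensorProduct.tprod A b}

variable (d) in
/-- The balanced part of the tensor power. -/
abbrev Cs : Subalgebra A (⨂[A] _ : Fin d, B) := Algebra.adjoin A (gens 𝒜 d)

/-- The multilinear map of degree one tensors. -/
noncomputable def em : MultilinearMap A (fun _ : Fin d => 𝒜 1) (Subalgebra.toSubmodule (Cs 𝒜 d)) :=
  ((PiTensorProduct.tprod A).compLinearMap fun _ => (𝒜 1).subtype).codRestrict _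
    fun b => Algebra.subset_adjoin ⟨1, fun i => b i, fun i => (b i).2, rfl⟩

variable {κ : Type u} [Field κ] [Algebra A κ]

/-- The values of a character on degree one tensors. -/
noncomputable def ev (χ : Cs 𝒜 d →ₐ[A] κ) : MultilinearMap A (fun _ : Fin d => 𝒜 1) κ :=
  χ.toLinearMap.compMultilinearMap (em 𝒜)

theorem ev_apply (χ : Cs 𝒜 d →ₐ[A] κ) (b : Fin d → 𝒜 1) :
    ev 𝒜 χ b = χ ⟨tprod A (fun i => (b i : B)), (em 𝒜 b).2⟩ := rfl

theorem exists_chars (χ : Cs 𝒜 d →ₐ[A] κ) (b : Fin d → 𝒜 1) (hb : ev 𝒜 χ b ≠ 0) :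
    ∃ ψ : Fin d → 𝒜 1 →ₗ[A] κ, (∀ i, ψ i (b i) = 1) ∧
      (∀ a, ev 𝒜 χ a = ev 𝒜 χ b * ∏ i, ψ i (a i)) ∧
      ∀ i a, ev 𝒜 χ (Function.update b i a) = ev 𝒜 χ b * ψ i a := by
  classical
  let ψ : Fin d → 𝒜 1 →ₗ[A] κ := fun i =>
    LinearMap.mulLeft A (ev 𝒜 χ b)⁻¹ ∘ₗ (ev 𝒜 χ).toLinearMap b i
  have hψ : ∀ i a, ev 𝒜 χ (Function.update b i a) = ev 𝒜 χ b * ψ i a := fun i a => by
    simp [ψ, mul_inv_cancel_left₀ hb]
  refine ⟨ψ, fun i => mul_left_cancel₀ hb (by rw [← hψ, Function.update_eq_self, mul_one]), fun a => ?_, hψ⟩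
  rcases Nat.eq_zero_or_pos d with rfl | hd
  · rw [Subsingleton.elim a b]
    simp
  refine mul_right_cancel₀ (pow_ne_zero (d - 1) hb) ?_
  have key : ev 𝒜 χ a * ev 𝒜 χ b ^ (d - 1) = ∏ i, ev 𝒜 χ (Function.update b i (a i)) := by
    simp only [ev_apply, ← map_pow, ← map_mul, ← map_prod]
    congr 1
    refine Subtype.ext ?_
    simp only [MulMemClass.coe_mul, SubmonoidClass.coe_pow, SubmonoidClass.coe_finset_prod]
    simp only [← tprodMonoidHom_apply, ← map_pow, ← map_mul, ← map_prod]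
    congr 1
    funext l
    simp only [Pi.mul_apply, Pi.pow_apply, Finset.prod_apply]
    rw [← Finset.mul_prod_erase _ _ (Finset.mem_univ l), Function.update_self,
      Finset.prod_eq_pow_card (b := (b l : B)) fun i hi => by
        rw [Function.update_of_ne (Finset.ne_of_mem_erase hi).symm],
      Finset.card_erase_of_mem (Finset.mem_univ l), Finset.card_univ, Fintype.card_fin]
  rw [key]
  simp only [hψ, Finset.prod_mul_distrib, Finset.prod_const, Finset.card_univ, Fintype.card_fin]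
  rw [mul_right_comm, ← pow_succ', Nat.sub_add_cancel hd]

theorem mem_mul_of_mem_succ (hgen : Algebra.adjoin A (𝒜 1 : Set B) = ⊤) (j : ℕ) {x : B} (hx : x ∈ 𝒜 (j + 1)) :
    x ∈ 𝒜 1 * 𝒜 j := by
  classical
  have mono : ∀ m ∈ Submonoid.closure (𝒜 1 : Set B), ∃ n, m ∈ 𝒜 n ∧ (n = 0 ∨ m ∈ 𝒜 1 * 𝒜 (n - 1)) := by
    intro m hm
    induction hm using Submonoid.closure_induction_left with
    | one => exact ⟨0, SetLike.one_mem_graded 𝒜, Or.inl rfl⟩
    | mul_left a ha m _ ih =>
      obtain ⟨n, hn, -⟩ := ih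
      exact ⟨1 + n, SetLike.mul_mem_graded ha hn, Or.inr (by simpa using Submodule.mul_mem_mul ha hn)⟩
  have main : ∀ y : B, GradedRing.proj 𝒜 (j + 1) y ∈ 𝒜 1 * 𝒜 j := by
    intro y
    have hy : y ∈ Submodule.span A (Submonoid.closure (𝒜 1 : Set B) : Set B) := by
      rw [← Algebra.adjoin_eq_span, hgen]
      exact Submodule.mem_top
    induction hy using Submodule.span_induction with
    | mem m hm =>
      obtain ⟨n, hn, hn'⟩ := mono m hm
      rw [GradedRing.proj_apply]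
      by_cases h : n = j + 1
      · subst h
        rw [DirectSum.decompose_of_mem_same 𝒜 hn]
        simpa using hn'
      · rw [DirectSum.decompose_of_mem_ne 𝒜 hn h]
        exact zero_mem _
    | zero => simp
    | add a b _ _ ha hb => rw [map_add]; exact add_mem ha hb
    | smul r a _ ha =>
      rw [GradedRing.proj_apply, DirectSum.decompose_smul] at *
      exact Submodule.smul_mem _ r ha
  have := main x
  rwa [GradedRing.proj_apply, DirectSum.decompose_of_mem_same 𝒜 hx] at this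

/-- A character killing degree one tensors kills all positive degrees. -/
theorem map_eq_zero_of_deg (hgen : Algebra.adjoin A (𝒜 1 : Set B) = ⊤) (χ : Cs 𝒜 d →ₐ[A] κ)
    (h : ∀ b, ev 𝒜 χ b = 0) {k : ℕ} (hk : 0 < k) {t : ⨂[A] _ : Fin d, B}
    (ht : t ∈ Submodule.span A {s | ∃ b : Fin d → B, (∀ i, b i ∈ 𝒜 k) ∧ s = PiTensorProduct.tprod A b})
    (htC : t ∈ Cs 𝒜 d) : χ ⟨t, htC⟩ = 0 := by
  classical
  obtain ⟨j, rfl⟩ : ∃ j, j + 1 = k := ⟨k - 1, by omega⟩
  let Z : Submodule A (⨂[A] _ : Fin d, B) := (LinearMap.ker χ.toLinearMap).map (Cs 𝒜 d).val.toLinearMap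
  suffices ∀ c : Fin d → B, (∀ i, c i ∈ 𝒜 (j + 1)) → tprod A c ∈ Z by
    obtain ⟨x, hx, hxt⟩ := Submodule.span_le.2 (by rintro _ ⟨c, hc, rfl⟩; exact this c hc) ht
    have : x = ⟨t, htC⟩ := Subtype.ext hxt
    rw [← this]
    exact hx
  suffices ∀ (s : Finset (Fin d)) (c : Fin d → B), (∀ i, c i ∈ 𝒜 (j + 1)) →
      (∀ i ∉ s, ∃ a ∈ 𝒜 1, ∃ e ∈ 𝒜 j, c i = a * e) → tprod A c ∈ Z from
    fun c hc => this Finset.univ c hc fun i hi => absurd (Finset.mem_univ i) hi
  intro s
  induction s using Finset.induction with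
  | empty =>
    intro c _ hc
    choose a ha e he hce using fun i => hc i (Finset.notMem_empty i)
    have he' : tprod A e ∈ Cs 𝒜 d := Algebra.subset_adjoin ⟨j, e, he, rfl⟩
    refine ⟨⟨_, (em 𝒜 fun i => ⟨a i, ha i⟩).2⟩ * ⟨_, he'⟩, ?_, ?_⟩
    · rw [SetLike.mem_coe, LinearMap.mem_ker, AlgHom.toLinearMap_apply, map_mul]
      exact mul_eq_zero_of_left (h fun i => ⟨a i, ha i⟩) _
    · show tprod A a * tprod A e = tprod A c
      rw [← tprodMonoidHom_apply, ← tprodMonoidHom_apply, ← map_mul, ← tprodMonoidHom_apply]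
      congr 1
      funext i
      exact (hce i).symm
  | insert i s hi ih =>
    intro c hc hc'
    suffices ∀ z ∈ 𝒜 1 * 𝒜 j, z ∈ 𝒜 (j + 1) ∧ tprod A (Function.update c i z) ∈ Z by
      simpa using (this _ (mem_mul_of_mem_succ 𝒜 hgen j (hc i))).2
    intro z hz
    induction hz using Submodule.mul_induction_on' with
    | mem_mul_mem a ha e he =>
      have hae : a * e ∈ 𝒜 (j + 1) := by simpa [add_comm] using SetLike.mul_mem_graded ha he
      refine ⟨hae, ih _ (fun l => ?_) (fun l hl => ?_)⟩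
      · by_cases hli : l = i
        · subst hli; rw [Function.update_self]; exact hae
        · rw [Function.update_of_ne hli]; exact hc l
      · by_cases hli : l = i
        · subst hli; exact ⟨a, ha, e, he, Function.update_self ..⟩
        · rw [Function.update_of_ne hli]; exact hc' l (by simp [hli, hl])
    | add x _ y _ hx hy => exact ⟨add_mem hx.1 hy.1, by rw [MultilinearMap.map_update_add]; exact add_mem hx.2 hy.2⟩

theorem gens_perm (σ : Equiv.Perm (Fin d)) {t : ⨂[A] _ : Fin d, B} (ht : t ∈ Cs 𝒜 d) :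
    SymTen.perm A B d σ t ∈ Cs 𝒜 d := by
  have : (Cs 𝒜 d).map (SymTen.perm A B d σ) ≤ Cs 𝒜 d := by
    rw [AlgHom.map_adjoin]
    refine Algebra.adjoin_mono ?_
    rintro _ ⟨_, ⟨k, b, hb, rfl⟩, rfl⟩
    exact ⟨k, _, fun i => hb _, SymTen.perm_tprod A B d σ b⟩
  exact this ⟨t, ht, rfl⟩

theorem perm_perm (τ σ : Equiv.Perm (Fin d)) (z : ⨂[A] _ : Fin d, B) :
    SymTen.perm A B d τ (SymTen.perm A B d σ z) = SymTen.perm A B d (τ * σ) z := by
  induction z using PiTensorProduct.induction_on with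
  | smul_tprod r f => simp [SymTen.perm_tprod, Equiv.Perm.mul_def]
  | add x y hx hy => simp only [map_add, hx, hy]

theorem isIntegral_inclusion (D : Subalgebra A (⨂[A] _ : Fin d, B))
    (hD : D = Cs 𝒜 d ⊓ SymTen.TS A B d) (hle : D ≤ Cs 𝒜 d) :
    (Subalgebra.inclusion hle).toRingHom.IsIntegral := by
  classical
  intro x
  let P : Polynomial (⨂[A] _ : Fin d, B) :=
    ∏ σ : Equiv.Perm (Fin d), (Polynomial.X - Polynomial.C (SymTen.perm A B d σ x.1))
  have hinv : ∀ n, P.coeff n ∈ D := by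
    intro n
    rw [hD]
    refine ⟨?_, ?_⟩
    · have : P ∈ Polynomial.lifts (Cs 𝒜 d).val.toRingHom :=
        prod_mem fun σ _ => (Polynomial.mem_lifts _).2
          ⟨Polynomial.X - Polynomial.C (⟨_, gens_perm 𝒜 σ x.2⟩ : Cs 𝒜 d), by simp⟩
      obtain ⟨y, hy⟩ := (Polynomial.lifts_iff_coeff_lifts _).1 this n
      rw [← hy]
      exact y.2
    · refine (SymTen.mem_TS_iff A B d _).2 fun τ => ?_
      have : P.map (SymTen.perm A B d τ).toRingHom = P := by
        simp only [P, Polynomial.map_prod, Polynomial.map_sub, Polynomial.map_X, Polynomial.map_C,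
          AlgHom.toRingHom_eq_coe, RingHom.coe_coe, perm_perm]
        exact Fintype.prod_equiv (Equiv.mulLeft τ) _ _ fun σ => rfl
      conv_rhs => rw [← this, Polynomial.coeff_map]
      rw [← SymTen.perm_apply]
      rfl
  have hP : P ∈ Polynomial.lifts D.val.toRingHom :=
    (Polynomial.lifts_iff_coeff_lifts _).2 fun n => ⟨⟨_, hinv n⟩, rfl⟩
  rcases subsingleton_or_nontrivial (⨂[A] _ : Fin d, B) with hsub | hnt
  · exact ⟨1, Polynomial.monic_one, Subtype.val_injective (Subsingleton.elim _ _)⟩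
  obtain ⟨Q, hQ, -, hQm⟩ := Polynomial.lifts_and_degree_eq_and_monic hP
    (Polynomial.monic_prod_of_monic _ _ fun σ _ => Polynomial.monic_X_sub_C _)
  refine ⟨Q, hQm, Subtype.val_injective ?_⟩
  show (Cs 𝒜 d).val.toRingHom _ = _
  rw [Polynomial.hom_eval₂, show (Cs 𝒜 d).val.toRingHom.comp (Subalgebra.inclusion hle).toRingHom = D.val.toRingHom
    from RingHom.ext fun _ => rfl, ← Polynomial.eval_map, hQ, Polynomial.eval_prod]
  refine Finset.prod_eq_zero (Finset.mem_univ 1) ?_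
  rw [Polynomial.eval_sub, Polynomial.eval_X, Polynomial.eval_C, SymTen.perm_apply, Equiv.Perm.one_def,
    PiTensorProduct.reindex_refl]
  simp

/-- The covering criterion: a family `S` of symmetric balanced tensors meets every positive degree up to radical
as soon as every character killing `S` kills the degree one tensors. -/
theorem exists_pow_mem (hgen : Algebra.adjoin A (𝒜 1 : Set B) = ⊤) (D : Subalgebra A (⨂[A] _ : Fin d, B))
    (hD : D = Cs 𝒜 d ⊓ SymTen.TS A B d) (p : (⨂[A] _ : Fin d, B) → Prop)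
    (hS : ∀ (κ : Type u) [Field κ] [Algebra A κ] (χ : Cs 𝒜 d →ₐ[A] κ),
      (∀ (z : ⨂[A] _ : Fin d, B) (hz : z ∈ Cs 𝒜 d), z ∈ SymTen.TS A B d → p z → χ ⟨z, hz⟩ = 0) →
        ∀ b, ev 𝒜 χ b = 0)
    {k : ℕ} (hk : 0 < k) (t : ⨂[A] _ : Fin d, B) (htD : t ∈ D)
    (htk : t ∈ Submodule.span A {s | ∃ b : Fin d → B, (∀ i, b i ∈ 𝒜 k) ∧ s = PiTensorProduct.tprod A b}) :
    ∃ m : ℕ, 0 < m ∧ (⟨t, htD⟩ : D) ^ m ∈ Ideal.span {x : D | p (x : ⨂[A] _ : Fin d, B)} := by
  set J : Ideal D := Ideal.span {x : D | p (x : ⨂[A] _ : Fin d, B)} with hJ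
  suffices (⟨t, htD⟩ : D) ∈ J.radical by
    obtain ⟨n, hn⟩ := this
    exact ⟨n + 1, n.succ_pos, by rw [pow_succ]; exact Ideal.mul_mem_right _ _ hn⟩
  rw [Ideal.radical_eq_sInf, Submodule.mem_sInf]
  rintro P ⟨hJP, hP⟩
  have hle : D ≤ Cs 𝒜 d := hD ▸ inf_le_left
  let alg : Algebra D (Cs 𝒜 d) := (Subalgebra.inclusion hle).toRingHom.toAlgebra
  have : Algebra.IsIntegral D (Cs 𝒜 d) := ⟨isIntegral_inclusion 𝒜 D hD hle⟩
  obtain ⟨Q, -, hQ, hQP⟩ := Ideal.exists_ideal_over_prime_of_isIntegral P (⊥ : Ideal (Cs 𝒜 d)) (fun z hz => by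
    have h0 : (Subalgebra.inclusion hle z : Cs 𝒜 d) = 0 := hz
    have h1 : z = 0 := Subalgebra.inclusion_injective hle (h0.trans (map_zero _).symm)
    rw [h1]; exact zero_mem _)
  let χ : Cs 𝒜 d →ₐ[A] FractionRing (Cs 𝒜 d ⧸ Q) :=
    (IsScalarTower.toAlgHom A (Cs 𝒜 d ⧸ Q) (FractionRing (Cs 𝒜 d ⧸ Q))).comp (Ideal.Quotient.mkₐ A Q)
  have hχ : ∀ z, χ z = 0 ↔ z ∈ Q := fun z => by
    simp only [χ, AlgHom.comp_apply, IsScalarTower.coe_toAlgHom', Ideal.Quotient.mkₐ_eq_mk,
      map_eq_zero_iff _ (IsFractionRing.injective (Cs 𝒜 d ⧸ Q) _), Ideal.Quotient.eq_zero_iff_mem]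
  have h := map_eq_zero_of_deg 𝒜 hgen χ (hS _ χ fun z hz hzs hp => (hχ _).2 ?_) hk htk (hle htD)
  · rw [← hQP]
    exact (hχ _).1 h
  · have hzD : z ∈ D := hD ▸ ⟨hz, hzs⟩
    have : (⟨z, hzD⟩ : D) ∈ Q.comap (algebraMap D (Cs 𝒜 d)) := hQP ▸ hJP (Ideal.subset_span hp)
    exact this

/-! ### Avoidance -/

open MvPolynomial in
theorem sum_eq_of_homog {σ : Type*} {F : MvPolynomial σ A} {n : ℕ} (hF : F.IsHomogeneous n) {μ : σ →₀ ℕ}
    (hμ : μ ∈ F.support) : ∑ j ∈ μ.support, μ j = n := by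
  simpa [Finsupp.weight_apply, Finsupp.sum] using hF (mem_support_iff.1 hμ)

open MvPolynomial in
theorem aeval_smul' {σ : Type*} {F : MvPolynomial σ A} {n : ℕ} (hF : F.IsHomogeneous n) (c : κ) (v : σ → κ) :
    aeval (fun j => c * v j) F = c ^ n * aeval v F := by
  conv_lhs => rw [F.as_sum]
  conv_rhs => rw [F.as_sum]
  simp only [map_sum, Finset.mul_sum, aeval_monomial, Finsupp.prod, mul_pow, Finset.prod_mul_distrib,
    Finset.prod_pow_eq_pow_sum]
  refine Finset.sum_congr rfl fun μ hμ => ?_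
  rw [sum_eq_of_homog hF hμ]
  ring

open MvPolynomial in
theorem exists_homogeneous_avoid {σ : Type*} {ι : Type*} (v : ι → σ → κ) (hv : ∀ i, ∃ j, v i j ≠ 0) (s : Finset ι) :
    ∃ (n : ℕ) (F : MvPolynomial σ A), 0 < n ∧ F.IsHomogeneous n ∧ (s.Nonempty → ∀ i ∈ s, aeval (v i) F ≠ 0) := by
  classical
  induction s using Finset.induction with
  | empty => exact ⟨1, 0, one_pos, isHomogeneous_zero _ _ _, by simp⟩
  | insert a s ha ih =>
    obtain ⟨j₀, hj₀⟩ := hv a
    obtain rfl | hs := s.eq_empty_or_nonempty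
    · exact ⟨1, X j₀, one_pos, isHomogeneous_X _ _, fun _ i hi => by
        obtain rfl : i = a := by simpa using hi
        simpa using hj₀⟩
    obtain ⟨n, F, hn, hF, hFs⟩ := ih
    by_cases hFa : aeval (v a) F ≠ 0
    · exact ⟨n, F, hn, hF, fun _ i hi => by
        rcases Finset.mem_insert.1 hi with rfl | hi
        exacts [hFa, hFs hs i hi]⟩
    push_neg at hFa
    let s' := s.filter fun w => ∃ (m : ℕ) (G : MvPolynomial σ A), G.IsHomogeneous m ∧
      aeval (v w) G = 0 ∧ aeval (v a) G ≠ 0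
    have hs' : ∀ w, w ∈ s' → ∃ (m : ℕ) (G : MvPolynomial σ A), G.IsHomogeneous m ∧
        aeval (v w) G = 0 ∧ aeval (v a) G ≠ 0 := fun w hw => (Finset.mem_filter.1 hw).2
    choose! m G hG hGw hGa using hs'
    let H : MvPolynomial σ A := X j₀ * ∏ w ∈ s', G w
    have hH : H.IsHomogeneous (1 + ∑ w ∈ s', m w) :=
      (isHomogeneous_X _ _).mul (IsHomogeneous.prod _ _ _ hG)
    have hHa : aeval (v a) H ≠ 0 := by
      simp only [H, map_mul, map_prod, aeval_X]
      exact mul_ne_zero hj₀ (Finset.prod_ne_zero_iff.2 hGa)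
    set e := 1 + ∑ w ∈ s', m w with he
    refine ⟨n * e, F ^ e + H ^ n, Nat.mul_pos hn (by omega), (hF.pow e).add (by simpa [mul_comm] using hH.pow n),
      fun _ i hi => ?_⟩
    rcases Finset.mem_insert.1 hi with rfl | hi
    · simp only [map_add, map_pow, hFa, zero_pow (show e ≠ 0 by omega), zero_add]
      exact pow_ne_zero _ hHa
    by_cases hi' : i ∈ s'
    · have : aeval (v i) H = 0 := by
        simp only [H, map_mul, map_prod]
        exact mul_eq_zero_of_right _ (Finset.prod_eq_zero hi' (hGw i hi'))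
      simp only [map_add, map_pow, this, zero_pow hn.ne', add_zero]
      exact pow_ne_zero _ (hFs hs i hi)
    · intro hzero
      refine hi' (Finset.mem_filter.2 ⟨hi, n * e, F ^ e + H ^ n,
        (hF.pow e).add (by simpa [mul_comm] using hH.pow n), hzero, ?_⟩)
      simp only [map_add, map_pow, hFa, zero_pow (show e ≠ 0 by omega), zero_add]
      exact pow_ne_zero _ hHa

open MvPolynomial in
theorem tprod_update_aeval {σ : Type*} (c : Fin d → B) (i : Fin d) (x : σ → B) {F : MvPolynomial σ A} {n : ℕ}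
    (hF : F.IsHomogeneous n) :
    tprod A (Function.update (fun l => c l ^ n) i (aeval x F)) =
      aeval (fun j => tprod A (Function.update c i (x j))) F := by
  classical
  conv_lhs => rw [F.as_sum]
  conv_rhs => rw [F.as_sum]
  simp only [map_sum, MultilinearMap.map_update_sum, aeval_monomial, ← Algebra.smul_def,
    MultilinearMap.map_update_smul]
  refine Finset.sum_congr rfl fun μ hμ => ?_
  congr 1
  simp only [Finsupp.prod, ← tprodMonoidHom_apply, ← map_pow, ← map_prod]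
  congr 1
  funext l
  simp only [Finset.prod_apply, Pi.pow_apply]
  by_cases hl : l = i
  · subst hl; simp
  · simp only [Function.update_of_ne hl, Finset.prod_pow_eq_pow_sum]
    rw [sum_eq_of_homog hF hμ]

open MvPolynomial in
theorem aeval_mem_deg {σ : Type*} (x : σ → 𝒜 1) {F : MvPolynomial σ A} {n : ℕ} (hF : F.IsHomogeneous n) :
    aeval (fun j => (x j : B)) F ∈ 𝒜 n := by
  rw [F.as_sum, map_sum]
  refine sum_mem fun μ hμ => ?_
  rw [aeval_monomial, ← Algebra.smul_def]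
  refine Submodule.smul_mem _ _ ?_
  have := SetLike.prod_pow_mem_graded 𝒜 (fun _ : σ => 1) (fun j => (x j : B)) μ (F := μ.support) fun j _ => (x j).2
  rw [← sum_eq_of_homog hF hμ]
  simpa [Finsupp.prod] using this

end Groth.Agent.Lib.ZeroCyc99.Cover

namespace Groth.Agent.Lib.ZeroCyc99.Cover

variable {A B : Type u} [CommRing A] [CommRing B] [Algebra A B] (𝒜 : ℕ → Submodule A B) [GradedAlgebra 𝒜] {d : ℕ}
variable {κ : Type u} [Field κ] [Algebra A κ]

theorem tprod_const_mem_TS (f : B) : tprod A (fun _ : Fin d => f) ∈ SymTen.TS A B d :=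
  (SymTen.tpow A B d f).2

theorem kills_of_homogeneous (χ : Cs 𝒜 d →ₐ[A] κ)
    (hkill : ∀ (n : ℕ) (f : B), 0 < n → f ∈ 𝒜 n → ∀ hz : tprod A (fun _ : Fin d => f) ∈ Cs 𝒜 d,
      χ ⟨_, hz⟩ = 0) (b : Fin d → 𝒜 1) : ev 𝒜 χ b = 0 := by
  classical
  by_contra hb
  rcases Nat.eq_zero_or_pos d with rfl | hd
  · refine hb ?_
    have := hkill 1 0 one_pos (zero_mem _) (Algebra.subset_adjoin ⟨1, _, fun _ => zero_mem _, rfl⟩)
    rw [← this, ev_apply]
    congr 3
    exact funext fun i => i.elim0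
  obtain ⟨ψ, hψ1, -, hψ⟩ := exists_chars 𝒜 χ b hb
  obtain ⟨n, F, hn, hF, hFv⟩ := exists_homogeneous_avoid (A := A) (fun i j => ψ i (b j))
    (fun i => ⟨i, by rw [hψ1]; exact one_ne_zero⟩) Finset.univ
  let f : B := MvPolynomial.aeval (fun j => (b j : B)) F
  have hf : f ∈ 𝒜 n := aeval_mem_deg 𝒜 b hF
  let z : Cs 𝒜 d := ⟨tprod A (fun _ : Fin d => f), Algebra.subset_adjoin ⟨n, _, fun _ => hf, rfl⟩⟩
  let y : Fin d → Fin d → Cs 𝒜 d := fun i j => ⟨_, (em 𝒜 (Function.update b i (b j))).2⟩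
  let e : Cs 𝒜 d := ⟨_, (em 𝒜 b).2⟩
  have key : z * (e ^ n) ^ (d - 1) = ∏ i, MvPolynomial.aeval (y i) F := by
    refine Subtype.ext ?_
    have h1 : ∀ i, ((MvPolynomial.aeval (y i) F : Cs 𝒜 d) : ⨂[A] _ : Fin d, B) =
        tprod A (Function.update (fun l => (b l : B) ^ n) i f) := fun i => by
      rw [tprod_update_aeval (fun l => (b l : B)) i (fun j => (b j : B)) hF, ← Subalgebra.coe_val,
        MvPolynomial.comp_aeval_apply]
      congr 2
      funext j
      show tprod A _ = tprod A _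
      congr 1
      funext l
      exact Function.apply_update (fun _ (x : 𝒜 1) => (x : B)) b i (b j) l
    simp only [MulMemClass.coe_mul, SubmonoidClass.coe_pow, SubmonoidClass.coe_finset_prod, h1]
    show tprod A _ * ((tprod A fun i => (b i : B)) ^ n) ^ (d - 1) = _
    simp only [← tprodMonoidHom_apply, ← map_pow, ← map_mul, ← map_prod]
    congr 1
    funext l
    simp only [Pi.mul_apply, Pi.pow_apply, Finset.prod_apply]
    rw [← Finset.mul_prod_erase _ _ (Finset.mem_univ l), Function.update_self,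
      Finset.prod_eq_pow_card (b := (b l : B) ^ n) fun i hi => by
        rw [Function.update_of_ne (Finset.ne_of_mem_erase hi).symm],
      Finset.card_erase_of_mem (Finset.mem_univ l), Finset.card_univ, Fintype.card_fin]
  have := congrArg χ key
  rw [map_mul, hkill n f hn hf z.2, zero_mul, map_prod] at this
  obtain ⟨i, -, hi⟩ := Finset.prod_eq_zero_iff.1 this.symm
  rw [MvPolynomial.comp_aeval_apply] at hi
  have hy : (fun j => χ (y i j)) = fun j => ev 𝒜 χ b * ψ i (b j) := funext fun j => hψ i (b j)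
  rw [hy, aeval_smul' hF] at hi
  exact mul_ne_zero (pow_ne_zero _ hb) (hFv ⟨i, Finset.mem_univ i⟩ i (Finset.mem_univ i)) hi

open MvPolynomial in
theorem kills_of_degree_one (χ : Cs 𝒜 d →ₐ[A] κ)
    (hkill : ∀ (z : ⨂[A] _ : Fin d, B) (hz : z ∈ Cs 𝒜 d), z ∈ SymTen.TS A B d →
      z ∈ Submodule.span A {s | ∃ b : Fin d → B, (∀ i, b i ∈ 𝒜 1) ∧ s = PiTensorProduct.tprod A b} →
      χ ⟨z, hz⟩ = 0) (b : Fin d → 𝒜 1) : ev 𝒜 χ b = 0 := by
  classical
  by_contra hb
  obtain ⟨ψ, hψ1, hψ, -⟩ := exists_chars 𝒜 χ b hb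
  let cnt : (Fin d → Fin d) → Fin d →₀ ℕ := fun g => ∑ i, Finsupp.single (g i) 1
  have hne : ∏ i, ∑ j, monomial (Finsupp.single j 1) (ψ i (b j)) ≠ 0 := by
    refine Finset.prod_ne_zero_iff.2 fun i _ h => ?_
    have := congrArg (coeff (Finsupp.single i 1)) h
    simp [coeff_sum, coeff_monomial, Finsupp.single_left_inj, hψ1] at this
  refine hne ?_
  rw [Finset.prod_univ_sum, Fintype.piFinset_univ]
  have hmon : ∀ g : Fin d → Fin d, ∏ i, monomial (Finsupp.single (g i) 1) (ψ i (b (g i))) =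
      monomial (cnt g) (∏ i, ψ i (b (g i))) := fun g => by
    rw [monomial_sum_index]
    simp only [map_prod, ← Finset.prod_mul_distrib, C_mul_monomial, mul_one]
  simp only [hmon]
  ext ν
  rw [coeff_sum, coeff_zero]
  simp only [coeff_monomial]
  rw [← Finset.sum_filter]
  refine (mul_eq_zero.1 ?_).resolve_left hb
  rw [Finset.mul_sum]
  rw [Finset.sum_congr rfl fun (g : Fin d → Fin d) _ => (hψ fun i => b (g i)).symm]
  simp only [ev_apply]
  rw [← map_sum]
  have hz := Subalgebra.sum_mem (Cs 𝒜 d) (t := Finset.univ.filter fun g : Fin d → Fin d => cnt g = ν)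
    (f := fun g => tprod A fun i => (b (g i) : B)) fun g _ => (em 𝒜 fun i => b (g i)).2
  refine Eq.trans ?_ (hkill _ hz ?_ ?_)
  · congr 1
    exact Subtype.ext (by simp)
  · refine (SymTen.mem_TS_iff A B d _).2 fun σ => ?_
    simp only [← SymTen.perm_apply, map_sum, SymTen.perm_tprod]
    refine Finset.sum_nbij' (fun g => g ∘ σ.symm) (fun g => g ∘ σ) ?_ ?_
      (fun g _ => by funext i; simp) (fun g _ => by funext i; simp) (fun g _ => rfl)
    · intro g hg
      simp only [Finset.mem_filter, Finset.mem_univ, true_and, Finset.mem_coe] at hg ⊢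
      rw [← hg]
      exact Equiv.sum_comp σ.symm (fun i => Finsupp.single (g i) 1)
    · intro g hg
      simp only [Finset.mem_filter, Finset.mem_univ, true_and, Finset.mem_coe] at hg ⊢
      rw [← hg]
      exact Equiv.sum_comp σ (fun i => Finsupp.single (g i) 1)
  · exact Submodule.sum_mem _ fun g _ => Submodule.subset_span ⟨fun i => (b (g i) : B), fun i => (b (g i)).2, rfl⟩

theorem kills_of_linear (hres : ∀ p : PrimeSpectrum A, (d : Cardinal.{u}) ≤ Cardinal.mk p.asIdeal.ResidueField)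
    (χ : Cs 𝒜 d →ₐ[A] κ)
    (hkill : ∀ f ∈ 𝒜 1, ∀ hz : tprod A (fun _ : Fin d => f) ∈ Cs 𝒜 d, χ ⟨_, hz⟩ = 0)
    (b : Fin d → 𝒜 1) : ev 𝒜 χ b = 0 := by
  classical
  by_contra hb
  obtain ⟨ψ, hψ1, hψ, -⟩ := exists_chars 𝒜 χ b hb
  let p : Ideal A := RingHom.ker (algebraMap A κ)
  have hp : p.IsPrime := RingHom.ker_isPrime _
  let ι : p.ResidueField →+* κ := IsFractionRing.lift (A := A ⧸ p) (K := p.ResidueField)
    (g := Ideal.Quotient.lift p (algebraMap A κ) fun a ha => ha) (RingHom.lift_injective_of_ker_le_ideal p _ le_rfl)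
  let alg : Algebra p.ResidueField κ := ι.toAlgebra
  have hcomp : ∀ a : A, algebraMap p.ResidueField κ (algebraMap A p.ResidueField a) = algebraMap A κ a := fun a => by
    show ι (algebraMap (A ⧸ p) p.ResidueField (Ideal.Quotient.mk p a)) = _
    rw [IsFractionRing.lift_algebraMap, Ideal.Quotient.lift_mk]
  obtain ⟨v, hv⟩ := Avoid.exists_forall_ne_zero
    (fun i => Fintype.linearCombination p.ResidueField (fun j => ψ i (b j))) Finset.univ
    (fun i _ h => by simpa [hψ1] using LinearMap.congr_fun h (Pi.single i 1))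
    (by simpa using hres ⟨p, hp⟩)
  obtain ⟨s, hs⟩ := IsLocalization.exist_integer_multiples_of_finite (nonZeroDivisors (A ⧸ p)) v
  choose r hr using hs
  choose r' hr' using fun j => Ideal.Quotient.mk_surjective (r j)
  let f : 𝒜 1 := ∑ j, r' j • b j
  have hval : ∀ i, ψ i f = algebraMap p.ResidueField κ (algebraMap (A ⧸ p) p.ResidueField s) *
      Fintype.linearCombination p.ResidueField (fun j => ψ i (b j)) v := fun i => by
    simp only [f, map_sum, map_smul, Fintype.linearCombination_apply, Finset.mul_sum, Algebra.smul_def, ← hcomp]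
    refine Finset.sum_congr rfl fun j _ => ?_
    rw [← mul_assoc, ← map_mul]
    congr 2
    show algebraMap (A ⧸ p) p.ResidueField (Ideal.Quotient.mk p (r' j)) = _
    rw [hr', hr, Algebra.smul_def]
  have hs0 : algebraMap p.ResidueField κ (algebraMap (A ⧸ p) p.ResidueField s) ≠ 0 := by
    rw [map_ne_zero]
    exact (map_ne_zero_iff _ (IsFractionRing.injective (A ⧸ p) p.ResidueField)).2 (nonZeroDivisors.coe_ne_zero s)
  have hf := hψ fun _ => f
  rw [ev_apply, hkill f f.2] at hf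
  refine mul_ne_zero hb (Finset.prod_ne_zero_iff.2 fun i hi => ?_) hf.symm
  rw [hval]
  exact mul_ne_zero hs0 (hv i hi)

end Groth.Agent.Lib.ZeroCyc99.Cover
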