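import Groth.Agent.Lib.PolLaw.Kernel
import Groth.Agent.Lib.PolLaw.CayleyHamilton
import Groth.Agent.Lib.Unram.TraceEtale
import Mathlib.RingTheory.TotallySplit
import Mathlib.RingTheory.IntegralDomain
import Mathlib.LinearAlgebra.Matrix.Charpoly.Coeff
import Mathlib.RingTheory.Norm.Defs
import Mathlib.RingTheory.Flat.FaithfullyFlat.Algebra

/-!
# Multiplicative laws of degree `d` on an étale algebra of rank `d`
-/

universe u

open scoped TensorProduct
open Polynomial

namespace Groth.Agent.Lib.ZeroCyc99.EtaleLaw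

open PolLaw.Val PolLaw.Kernel

variable {A B : Type u} [CommRing A] [CommRing B] [Algebra A B] {d : ℕ}

theorem ext_val₀ {F G : _root_.PolLaw.MulLaw A B A d}
    (h : ∀ (n : ℕ) (x : MvPolynomial (Fin n) A ⊗[A] B), val₀ F x = val₀ G x) : F = G :=
  _root_.PolLaw.MulLaw.ext (PolLaw.Coeff.ext_poly fun n x => by rw [toFun'_eq, toFun'_eq, h])

theorem aeval_chi_mem_ker (F : _root_.PolLaw.MulLaw A B A d) (b : B) :
    Polynomial.aeval b (chi F (Algebra.ofId A A) ((1 : A) ⊗ₜ[A] b)) ∈ _root_.PolLaw.ker F.law := by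
  rw [mem_ker_iff]
  intro n x w
  have h := PolLaw.CayleyHamilton.val_add_mul_aeval F (Algebra.ofId A (MvPolynomial (Fin n) A))
    ((1 : MvPolynomial (Fin n) A) ⊗ₜ[A] b) x w
  have h2 := chi_map F (Algebra.ofId A (MvPolynomial (Fin n) A)) (Algebra.ofId A A) ((1 : A) ⊗ₜ[A] b)
  rw [Algebra.comp_ofId, Algebra.TensorProduct.map_tmul, map_one] at h2
  simp only [AlgHom.id_apply] at h2
  rw [← h2, show (Algebra.ofId A (MvPolynomial (Fin n) A)).toRingHom = algebraMap A _ from rfl,
    Polynomial.aeval_map_algebraMap] at h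
  have h3 : Polynomial.aeval ((1 : MvPolynomial (Fin n) A) ⊗ₜ[A] b) (chi F (Algebra.ofId A A) ((1 : A) ⊗ₜ[A] b)) =
      (1 : MvPolynomial (Fin n) A) ⊗ₜ[A] Polynomial.aeval b (chi F (Algebra.ofId A A) ((1 : A) ⊗ₜ[A] b)) :=
    Polynomial.aeval_algHom_apply (Algebra.TensorProduct.includeRight : B →ₐ[A] MvPolynomial (Fin n) A ⊗[A] B) b _
  rw [h3] at h
  exact h

/-- At a field-valued point the Cayley-Hamilton element vanishes where `F (b - ψ b)` does. -/
theorem val₀_sub_eq_zero {κ : Type u} [Field κ] [Algebra A κ] (F : _root_.PolLaw.MulLaw A B A d)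
    (hF : _root_.PolLaw.ker F.law ≤ nilradical B) (ψ : B →ₐ[A] κ) (b : B) :
    val₀ F ((1 : κ) ⊗ₜ[A] b - ψ b • 1) = 0 := by
  have h := (mem_nilradical.1 (hF (aeval_chi_mem_ker F b))).map ψ
  rw [isNilpotent_iff_eq_zero, ← Polynomial.aeval_algHom_apply] at h
  have h2 := chi_map F (Algebra.ofId A κ) (Algebra.ofId A A) ((1 : A) ⊗ₜ[A] b)
  rw [Algebra.comp_ofId, Algebra.TensorProduct.map_tmul, map_one] at h2
  simp only [AlgHom.id_apply] at h2
  rw [val₀, ← chi_eval, ← h2]
  rwa [Polynomial.eval_map, show (Algebra.ofId A κ).toRingHom = algebraMap A κ from rfl, ← Polynomial.aeval_def]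

/-- An element separating one point from finitely many others. -/
theorem exists_separating [Module.Finite A B] {κ : Type u} [Field κ] [Algebra A κ] {ι : Type} [Fintype ι]
    (β : ι → B →ₐ[A] κ) (hβ : Function.Injective β) (i : ι) : ∃ b : B, ∀ j, β j b = β i b → j = i := by
  classical
  by_cases hinf : (Set.range (algebraMap A κ)).Infinite
  · suffices ∀ s : Finset ι, ∃ b : B, ∀ j ∈ s, β j b = β i b → j = i by
      obtain ⟨b, hb⟩ := this Finset.univ
      exact ⟨b, fun j => hb j (Finset.mem_univ j)⟩
    intro s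
    induction s using Finset.induction with
    | empty => exact ⟨0, by simp⟩
    | insert a s ha ih =>
      obtain ⟨b, hb⟩ := ih
      by_cases hai : a = i
      · exact ⟨b, fun j hj => by
          rcases Finset.mem_insert.1 hj with rfl | hj
          exacts [fun _ => hai, hb j hj]⟩
      obtain ⟨w, hw⟩ : ∃ w, β a w ≠ β i w := by
        by_contra hcon
        push Not at hcon
        exact hai (hβ (AlgHom.ext hcon))
      let bad : Finset κ := (insert a s).image fun j => (β i b - β j b) / (β j w - β i w)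
      obtain ⟨_, ⟨c, rfl⟩, hc⟩ := hinf.exists_notMem_finset (insert 0 bad)
      rw [Finset.mem_insert, not_or] at hc
      refine ⟨b + c • w, fun j hj he => ?_⟩
      by_contra hji
      simp only [map_add, map_smul] at he
      simp only [Algebra.smul_def] at he
      by_cases hjw : β j w = β i w
      · rw [hjw, add_left_inj] at he
        rcases Finset.mem_insert.1 hj with rfl | hj
        · exact hw hjw
        · exact hji (hb j hj he)
      · refine hc.2 (Finset.mem_image.2 ⟨j, hj, ?_⟩)
        rw [div_eq_iff (sub_ne_zero.2 hjw)]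
        linear_combination he.symm
  · have hfinA : (Set.range (algebraMap A κ)).Finite := Set.not_infinite.1 hinf
    have hfinite : ∀ j, (Set.range (β j)).Finite := fun j => by
      obtain ⟨n, g, hg⟩ := Module.Finite.exists_fin (R := A) (M := B)
      have := hfinA.to_subtype
      refine (Set.finite_range fun c : Fin n → Set.range (algebraMap A κ) => ∑ l, (c l : κ) * β j (g l)).subset ?_
      rintro _ ⟨z, rfl⟩
      obtain ⟨c, rfl⟩ := (Submodule.mem_span_range_iff_exists_fun A).1 (hg ▸ Submodule.mem_top : z ∈ _)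
      exact ⟨fun l => ⟨_, c l, rfl⟩, by simp [Algebra.smul_def]⟩
    have hmax : ∀ j, (RingHom.ker (β j)).IsMaximal := fun j => by
      have : Finite (β j).toRingHom.range := (hfinite j).to_subtype
      have hf : IsField (β j).toRingHom.range := Finite.isField_of_domain _
      have : (RingHom.ker (β j).toRingHom.rangeRestrict).IsMaximal := by
        let := hf.toField
        exact RingHom.ker_isMaximal_of_surjective _ (RingHom.rangeRestrict_surjective _)
      rwa [RingHom.ker_rangeRestrict] at this
    have : Finite (β i).toRingHom.range := (hfinite i).to_subtype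
    let := (Finite.isField_of_domain (β i).toRingHom.range).toField
    obtain ⟨g, hg⟩ := IsCyclic.exists_generator (α := (β i).toRingHom.rangeˣ)
    obtain ⟨b₀, hb₀⟩ := (g : (β i).toRingHom.range).2
    -- an element that is one at `i` and zero at the other kernels
    have hu : ∀ j, RingHom.ker (β j) ≠ RingHom.ker (β i) → ∃ u, β i u = 1 ∧ β j u = 0 := by
      intro j hj
      obtain ⟨u, hu, v, hv, huv⟩ := Submodule.mem_sup.1
        (Ideal.isMaximal_def.1 (hmax i) |>.2 _ (left_lt_sup.2 fun h => hj ((hmax j).eq_of_le (hmax i).ne_top h)) ▸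
          Submodule.mem_top : (1 : B) ∈ RingHom.ker (β i) ⊔ RingHom.ker (β j))
      refine ⟨v, ?_, hv⟩
      have := congrArg (β i) huv
      rwa [map_add, RingHom.mem_ker.1 hu, zero_add, map_one] at this
    choose! u hu1 hu0 using hu
    let J := Finset.univ.filter fun j => RingHom.ker (β j) ≠ RingHom.ker (β i)
    let b := b₀ * ∏ j ∈ J, u j
    have hbi : β i b = β i b₀ := by
      simp only [b, map_mul, map_prod]
      rw [Finset.prod_eq_one fun j hj => hu1 j (Finset.mem_filter.1 hj).2, mul_one]
    have hb₀0 : β i b₀ ≠ 0 := fun h => g.ne_zero (Subtype.ext (hb₀.symm.trans h))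
    refine ⟨b, fun j he => ?_⟩
    by_cases hker : RingHom.ker (β j) = RingHom.ker (β i)
    · have hsame : ∀ z, β i z = 0 → β j z = 0 := fun z hz => by
        have : z ∈ RingHom.ker (β j) := hker ▸ hz
        exact this
      have hone : ∀ z, β i z = 1 → β j z = 1 := fun z hz => by
        have := hsame (z - 1) (by rw [map_sub, hz, map_one, sub_self])
        rwa [map_sub, map_one, sub_eq_zero] at this
      have hj0 : β j b₀ = β i b₀ := by
        rw [← hbi, ← he]
        simp only [b, map_mul, map_prod]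
        rw [Finset.prod_eq_one fun l hl => hone _ (hu1 l (Finset.mem_filter.1 hl).2), mul_one]
      refine hβ (AlgHom.ext fun z => ?_)
      rcases eq_or_ne (β i z) 0 with hz | hz
      · rw [hz, hsame z hz]
      · let zu : (β i).toRingHom.rangeˣ := Units.mk0 ⟨β i z, z, rfl⟩ fun h => hz (congrArg Subtype.val h)
        obtain ⟨n, hn⟩ := (mem_powers_iff_mem_zpowers).2 (hg zu)
        have hn' : β i z = β i b₀ ^ n := by
          have := congrArg (fun w : (β i).toRingHom.rangeˣ => ((w : (β i).toRingHom.range) : κ)) hn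
          simp only [Units.val_pow_eq_pow_val, SubmonoidClass.coe_pow] at this
          rw [← hb₀] at this
          exact this.symm
        have := hsame (z - b₀ ^ n) (by rw [map_sub, map_pow, hn', sub_self])
        rw [map_sub, map_pow, hj0, sub_eq_zero] at this
        rw [this, hn']
    · exfalso
      refine hb₀0 ?_
      rw [← hbi, ← he]
      simp only [b, map_mul, map_prod]
      exact mul_eq_zero_of_right _ (Finset.prod_eq_zero (Finset.mem_filter.2 ⟨Finset.mem_univ j, hker⟩) (hu0 j hker))

/-- The monomial shape of a multiplicative polynomial over a domain. -/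
theorem eq_X_pow_of_mul {κ : Type u} [CommRing κ] [IsDomain κ] (c : ℕ → κ) (N : ℕ) (h1 : ∑ m ∈ Finset.range N, c m = 1)
    (horth : ∀ m < N, ∀ k < N, m ≠ k → c m * c k = 0) :
    ∃ m < N, c m = 1 ∧ ∀ k < N, k ≠ m → c k = 0 := by
  obtain ⟨m, hm, hne⟩ := Finset.exists_ne_zero_of_sum_ne_zero (h1.symm ▸ one_ne_zero : ∑ m ∈ Finset.range N, c m ≠ 0)
  rw [Finset.mem_range] at hm
  have hz : ∀ k < N, k ≠ m → c k = 0 := fun k hk hkm =>
    (mul_eq_zero.1 (horth m hm k hk hkm.symm)).resolve_left hne
  refine ⟨m, hm, ?_, hz⟩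
  rwa [Finset.sum_eq_single m (fun k hk hkm => hz k (Finset.mem_range.1 hk) hkm)
    (fun h => absurd (Finset.mem_range.2 hm) h)] at h1

section Split

variable {T : Type u} [CommRing T] [Algebra A T] {n : ℕ} (φ : T ⊗[A] B ≃ₐ[T] (Fin n → T))

/-- The points of a split algebra. -/
noncomputable def pt (j : Fin n) : B →ₐ[A] T :=
  ((Pi.evalAlgHom A (fun _ : Fin n => T) j).comp (φ.toAlgHom.restrictScalars A)).comp
    Algebra.TensorProduct.includeRight

/-- The idempotents of a split algebra, over a `T`-algebra. -/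
noncomputable def E (S : Type u) [CommRing S] [Algebra A S] [Algebra T S] [IsScalarTower A T S] (j : Fin n) :
    S ⊗[A] B :=
  Algebra.TensorProduct.map (IsScalarTower.toAlgHom A T S) (AlgHom.id A B) (φ.symm (Pi.single j 1))

variable (S : Type u) [CommRing S] [Algebra A S] [Algebra T S] [IsScalarTower A T S]

theorem E_mul_self (j : Fin n) : E φ S j * E φ S j = E φ S j := by
  rw [E, ← map_mul, ← map_mul, ← Pi.single_mul, one_mul]

theorem E_mul_ne {j k : Fin n} (h : j ≠ k) : E φ S j * E φ S k = 0 := by
  rw [E, E, ← map_mul, ← map_mul]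
  suffices (Pi.single j (1 : T) : Fin n → T) * Pi.single k 1 = 0 by rw [this, map_zero, map_zero]
  funext l
  rcases eq_or_ne l j with rfl | hl
  · simp [h]
  · simp [Pi.single_eq_of_ne hl]

theorem sum_E : ∑ j, E φ S j = 1 := by
  simp only [E, ← map_sum]
  rw [show (∑ j, Pi.single j (1 : T) : Fin n → T) = 1 from Finset.univ_sum_single (1 : Fin n → T), map_one, map_one]

theorem one_tmul_eq (b : B) :
    (1 : S) ⊗ₜ[A] b = ∑ j, algebraMap T S (pt φ j b) • E φ S j := by
  have h : (1 : T) ⊗ₜ[A] b = ∑ j, (pt φ j b ⊗ₜ[A] (1 : B)) * φ.symm (Pi.single j 1) := by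
    apply φ.injective
    rw [map_sum]
    refine (Finset.univ_sum_single (φ ((1 : T) ⊗ₜ[A] b))).symm.trans (Finset.sum_congr rfl fun j _ => ?_)
    rw [map_mul, AlgEquiv.apply_symm_apply, show pt φ j b ⊗ₜ[A] (1 : B) = algebraMap T (T ⊗[A] B) (pt φ j b) from rfl,
      AlgEquiv.commutes]
    funext l
    rcases eq_or_ne l j with rfl | hl
    · simp [pt]
    · simp [Pi.single_eq_of_ne hl]
  have h2 := congrArg (Algebra.TensorProduct.map (IsScalarTower.toAlgHom A T S) (AlgHom.id A B)) h
  rw [Algebra.TensorProduct.map_tmul, map_one, AlgHom.id_apply] at h2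
  refine h2.trans ?_
  rw [map_sum]
  refine Finset.sum_congr rfl fun j _ => ?_
  rw [map_mul, Algebra.TensorProduct.map_tmul, map_one, Algebra.smul_def]
  rfl

theorem exists_coords (x : S ⊗[A] B) : ∃ s : Fin n → S, x = ∑ j, s j • E φ S j := by
  induction x using TensorProduct.induction_on with
  | zero => exact ⟨0, by simp⟩
  | tmul r b =>
    refine ⟨fun j => r * algebraMap T S (pt φ j b), ?_⟩
    rw [show r ⊗ₜ[A] b = r • ((1 : S) ⊗ₜ[A] b) by rw [TensorProduct.smul_tmul', smul_eq_mul, mul_one],
      one_tmul_eq φ S b, Finset.smul_sum]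
    simp [mul_smul]
  | add x y hx hy =>
    obtain ⟨s, rfl⟩ := hx
    obtain ⟨t, rfl⟩ := hy
    exact ⟨s + t, by simp [add_smul, Finset.sum_add_distrib]⟩

theorem sum_smul_E (s : Fin n → S) : ∑ j, s j • E φ S j = ∏ j, (1 + (s j - 1) • E φ S j) := by
  classical
  have key : ∀ J : Finset (Fin n), ∏ j ∈ J, (1 + (s j - 1) • E φ S j) = 1 + ∑ j ∈ J, (s j - 1) • E φ S j := by
    intro J
    induction J using Finset.induction with
    | empty => simp
    | insert a J ha ih =>
      rw [Finset.prod_insert ha, ih, Finset.sum_insert ha, add_mul, one_mul, mul_add, mul_one, Finset.mul_sum,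
        Finset.sum_eq_zero (s := J) (f := fun j => (s a - 1) • E φ S a * ((s j - 1) • E φ S j)) fun j hj => by
          rw [smul_mul_smul_comm, E_mul_ne φ S (fun h : a = j => ha (h ▸ hj)), smul_zero],
        add_zero]
      abel
  rw [key]
  simp only [sub_smul, one_smul, Finset.sum_sub_distrib, sum_E]
  abel

variable (F : _root_.PolLaw.MulLaw A B A d)

/-- The value on the `j`-th factor. -/
noncomputable def fj (j : Fin n) (s : S) : S := val₀ F (1 + (s - 1) • E φ S j)

theorem val₀_eq_prod (s : Fin n → S) : val₀ F (∑ j, s j • E φ S j) = ∏ j, fj φ S F j (s j) := by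
  classical
  rw [sum_smul_E]
  have : ∀ J : Finset (Fin n), val₀ F (∏ j ∈ J, (1 + (s j - 1) • E φ S j)) = ∏ j ∈ J, fj φ S F j (s j) := by
    intro J
    induction J using Finset.induction with
    | empty => exact val_one F _
    | insert a J ha ih => rw [Finset.prod_insert ha, Finset.prod_insert ha, ← ih]; exact val_mul F _ _ _
  exact this _

theorem fj_one (j : Fin n) : fj φ S F j 1 = 1 := by
  rw [fj, sub_self, zero_smul, add_zero]
  exact val_one F _

theorem fj_mul (j : Fin n) (s t : S) : fj φ S F j (s * t) = fj φ S F j s * fj φ S F j t := by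
  rw [fj, fj, fj]
  refine Eq.trans ?_ (val_mul F _ _ _)
  congr 1
  rw [add_mul, one_mul, mul_add, mul_one, smul_mul_smul_comm, E_mul_self]
  simp only [mul_sub, sub_mul, one_mul, mul_one, sub_smul, one_smul]
  abel

theorem fj_map (S' : Type u) [CommRing S'] [Algebra A S'] [Algebra T S'] [IsScalarTower A T S'] (g : S →ₐ[T] S')
    (j : Fin n) (s : S) : g (fj φ S F j s) = fj φ S' F j (g s) := by
  rw [show g (fj φ S F j s) = g.restrictScalars A (fj φ S F j s) from rfl, fj, map_val₀, fj]
  congr 1
  rw [map_add, map_one, Algebra.smul_def, map_mul, Algebra.smul_def]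
  congr 2
  · simp
  · have : (Algebra.TensorProduct.map (g.restrictScalars A) (AlgHom.id A B)).comp
        (Algebra.TensorProduct.map (IsScalarTower.toAlgHom A T S) (AlgHom.id A B)) =
        Algebra.TensorProduct.map (IsScalarTower.toAlgHom A T S') (AlgHom.id A B) :=
      Algebra.TensorProduct.ext (AlgHom.ext fun r => by simp) (AlgHom.ext fun r => by simp)
    exact AlgHom.congr_fun this _

/-- The polynomial of the `j`-th factor. -/
noncomputable def Pj (j : Fin n) : T[X] := fj φ T[X] F j X

theorem fj_eq (j : Fin n) (s : S) : fj φ S F j s = Polynomial.aeval s (Pj φ F j) := by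
  have h := fj_map φ T[X] F S (Polynomial.aeval s) j X
  rw [Polynomial.aeval_X] at h
  exact h.symm

theorem Pj_orth (j : Fin n) (m k : ℕ) :
    (Pj φ F j).coeff m * (Pj φ F j).coeff k = if m = k then (Pj φ F j).coeff m else 0 := by
  have h := fj_mul φ T[X][X] F j (C X) X
  rw [fj_eq, fj_eq, fj_eq] at h
  have h2 := congrArg (fun z : T[X][X] => (z.coeff k).coeff m) h
  have e1 : Polynomial.aeval (C X * X : T[X][X]) (Pj φ F j) =
      ∑ i ∈ Finset.range ((Pj φ F j).natDegree + 1), C (monomial i ((Pj φ F j).coeff i)) * X ^ i := by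
    rw [Polynomial.aeval_eq_sum_range]
    refine Finset.sum_congr rfl fun i _ => ?_
    rw [mul_pow, ← map_pow, Algebra.smul_def, IsScalarTower.algebraMap_apply T T[X] T[X][X], ← mul_assoc,
      show algebraMap T[X] T[X][X] = C from rfl, ← map_mul, show algebraMap T T[X] = C from rfl]
    congr 2
    exact Polynomial.C_mul_X_pow_eq_monomial
  have e2 : Polynomial.aeval (C X : T[X][X]) (Pj φ F j) = C (Pj φ F j) := by
    rw [show (C X : T[X][X]) = (IsScalarTower.toAlgHom T T[X] T[X][X]) X from rfl, Polynomial.aeval_algHom_apply,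
      Polynomial.aeval_X_left_apply]
    rfl
  have e3 : Polynomial.aeval (X : T[X][X]) (Pj φ F j) = (Pj φ F j).map C := by
    generalize Pj φ F j = p
    induction p using Polynomial.induction_on' with
    | add p q hp hq => rw [map_add, Polynomial.map_add, hp, hq]
    | monomial l a => rw [Polynomial.aeval_monomial, Polynomial.map_monomial, ← Polynomial.C_mul_X_pow_eq_monomial]; rfl
  rw [e1, e2, e3] at h2
  simp only [Polynomial.finsetSum_coeff, Polynomial.coeff_C_mul, Polynomial.coeff_map, Polynomial.coeff_X_pow,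
    mul_ite, mul_one, mul_zero, Finset.sum_ite_eq, Polynomial.coeff_mul_C] at h2
  rw [← h2]
  by_cases hk : k ∈ Finset.range ((Pj φ F j).natDegree + 1)
  · rw [if_pos hk, Polynomial.coeff_monomial]
    rcases eq_or_ne m k with rfl | hne
    · simp
    · simp [hne, hne.symm]
  · rw [if_neg hk, Polynomial.coeff_zero]
    have : (Pj φ F j).coeff k = 0 := Polynomial.coeff_eq_zero_of_natDegree_lt (by simpa using hk)
    rcases eq_or_ne m k with rfl | hne
    · simp [this]
    · simp [hne]

theorem Pj_sum (j : Fin n) : ∑ i ∈ Finset.range ((Pj φ F j).natDegree + 1), (Pj φ F j).coeff i = 1 := by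
  have h := fj_one φ T F j
  rw [fj_eq, Polynomial.coe_aeval_eq_eval, Polynomial.eval_eq_sum_range] at h
  simpa using h

variable [Module.Free A B] [Module.Finite A B]

theorem Pj_eq_X (hd : Module.finrank A B = d) (hF : _root_.PolLaw.ker F.law ≤ nilradical B) (i : Fin n) :
    Pj φ F i = X := by
  classical
  -- at every prime the linear coefficient is one
  have key : ∀ q : Ideal T, q.IsPrime → (Pj φ F i).coeff 1 ∉ q := by
    intro q hq hmem
    let κ := q.ResidueField
    have hmono : ∀ j, ∃ m : ℕ, (Pj φ F j).map (algebraMap T κ) = X ^ m := fun j => by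
      obtain ⟨m, hm, hm1, hm0⟩ := eq_X_pow_of_mul (fun l => algebraMap T κ ((Pj φ F j).coeff l))
        ((Pj φ F j).natDegree + 1) (by rw [← map_sum, Pj_sum, map_one])
        (fun a _ b _ hab => by rw [← map_mul, Pj_orth, if_neg hab, map_zero])
      refine ⟨m, Polynomial.ext fun l => ?_⟩
      rw [Polynomial.coeff_map, Polynomial.coeff_X_pow]
      rcases eq_or_ne l m with rfl | hl
      · rw [if_pos rfl]; exact hm1
      · rw [if_neg hl]
        by_cases hlt : l < (Pj φ F j).natDegree + 1
        · exact hm0 l hlt hl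
        · rw [Polynomial.coeff_eq_zero_of_natDegree_lt (by omega), map_zero]
    choose m hm using hmono
    have hfj : ∀ (S : Type u) [CommRing S] [Algebra A S] [Algebra T S] [IsScalarTower A T S] [Algebra κ S]
        [IsScalarTower T κ S] (j : Fin n) (s : S), fj φ S F j s = s ^ m j := fun S _ _ _ _ _ _ j s => by
      rw [fj_eq, ← Polynomial.aeval_map_algebraMap κ, hm, map_pow, Polynomial.aeval_X]
    have : Nontrivial T := ⟨⟨0, 1, fun h => hq.ne_top ((Ideal.eq_top_iff_one q).2 (h ▸ zero_mem _))⟩⟩
    have : Nontrivial A := (algebraMap A T).domain_nontrivial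
    have hn : n = d := by
      rw [← hd, ← Module.finrank_baseChange (R := T) (S := A) (M' := B), φ.toLinearEquiv.finrank_eq,
        Module.finrank_fin_fun]
    have hsum : ∑ j, m j = d := by
      have h := val₀_eq_prod φ κ[X] F (fun _ => X)
      simp only [← Finset.smul_sum, sum_E, hfj κ[X], Finset.prod_pow_eq_pow_sum] at h
      rw [val₀, val_smul, val_one, mul_one] at h
      simpa using (congrArg Polynomial.natDegree h).symm
    have hpos : ∀ j, m j ≠ 0 := by
      intro j hj0
      let β : Fin n → B →ₐ[A] κ := fun l => (IsScalarTower.toAlgHom A T κ).comp (pt φ l)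
      have hβ : Function.Injective β := fun l l' hll => by
        by_contra hne
        have h2 : ∀ (a : Fin n) (z : T ⊗[A] B), Algebra.TensorProduct.lift (Algebra.ofId T κ) (β a)
            (fun _ _ => Commute.all _ _) z = algebraMap T κ (φ z a) := fun a z => by
          induction z using TensorProduct.induction_on with
          | zero => simp
          | tmul t b =>
            rw [show t ⊗ₜ[A] b = t • ((1 : T) ⊗ₜ[A] b) by rw [TensorProduct.smul_tmul', smul_eq_mul, mul_one],
              map_smul, map_smul, Pi.smul_apply, smul_eq_mul, map_mul, Algebra.smul_def,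
              Algebra.TensorProduct.lift_tmul, map_one, one_mul]
            rfl
          | add z w hz hw => simp only [map_add, Pi.add_apply, hz, hw]
        have h3 := h2 l (φ.symm (Pi.single l 1))
        rw [hll, h2, φ.apply_symm_apply, Pi.single_eq_same, Pi.single_eq_of_ne (Ne.symm hne), map_zero, map_one] at h3
        exact zero_ne_one h3
      obtain ⟨b, hb⟩ := exists_separating β hβ j
      have h := val₀_sub_eq_zero F hF (β j) b
      rw [show (1 : κ) ⊗ₜ[A] b - β j b • 1 = ∑ l, (β l b - β j b) • E φ κ l by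
        simp only [sub_smul, Finset.sum_sub_distrib, ← Finset.smul_sum, sum_E]
        rw [one_tmul_eq φ κ b]
        rfl, val₀_eq_prod] at h
      obtain ⟨l, -, hl⟩ := Finset.prod_eq_zero_iff.1 h
      rw [hfj κ l] at hl
      obtain ⟨hl1, hl2⟩ := pow_eq_zero_iff'.1 hl
      exact hl2 ((hb l (sub_eq_zero.1 hl1)) ▸ hj0)
    have hone : m i = 1 := by
      have h1 : ∀ j, 1 ≤ m j := fun j => Nat.one_le_iff_ne_zero.2 (hpos j)
      have h2 := Finset.single_le_sum (f := fun j => m j - 1) (fun j _ => Nat.zero_le _) (Finset.mem_univ i)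
      have h3 : ∑ j, (m j - 1) = 0 := by
        rw [Finset.sum_tsub_distrib _ fun j _ => h1 j, hsum]
        simp [hn]
      have := h1 i
      simp only [h3] at h2
      omega
    have h1 : ((Pj φ F i).map (algebraMap T κ)).coeff 1 = (X ^ m i : κ[X]).coeff 1 := by rw [hm i]
    rw [Polynomial.coeff_map, hone, pow_one, Polynomial.coeff_X_one,
      Ideal.algebraMap_residueField_eq_zero.2 hmem] at h1
    exact zero_ne_one h1
  have hu : IsUnit ((Pj φ F i).coeff 1) := by
    by_contra hu
    obtain ⟨q, hq, hmem⟩ := exists_max_ideal_of_mem_nonunits hu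
    exact key q hq.isPrime hmem
  ext l
  rw [Polynomial.coeff_X]
  rcases eq_or_ne 1 l with rfl | hl
  · rw [if_pos rfl]
    refine hu.mul_left_cancel ?_
    rw [Pj_orth, if_pos rfl, mul_one]
  · rw [if_neg hl]
    refine hu.mul_left_cancel ?_
    rw [Pj_orth, if_neg hl, mul_zero]

include φ in
theorem val₀_eq_of_split (hd : Module.finrank A B = d) {F G : _root_.PolLaw.MulLaw A B A d}
    (hF : _root_.PolLaw.ker F.law ≤ nilradical B) (hG : _root_.PolLaw.ker G.law ≤ nilradical B)
    (x : S ⊗[A] B) : val₀ F x = val₀ G x := by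
  obtain ⟨s, rfl⟩ := exists_coords φ S x
  rw [val₀_eq_prod, val₀_eq_prod]
  refine Finset.prod_congr rfl fun j _ => ?_
  rw [fj_eq, fj_eq, Pj_eq_X φ F hd hF, Pj_eq_X φ G hd hG]

end Split

theorem eq_of_ker_le [Module.Free A B] [Module.Finite A B] [Algebra.Etale A B] (hd : Module.finrank A B = d)
    {F G : _root_.PolLaw.MulLaw A B A d}
    (hF : _root_.PolLaw.ker F.law ≤ nilradical B) (hG : _root_.PolLaw.ker G.law ≤ nilradical B) : F = G := by
  rcases subsingleton_or_nontrivial A with hA | hA
  · refine ext_val₀ fun n x => ?_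
    exact Subsingleton.elim _ _
  have hrk : Module.rankAtStalk (R := A) B = (d : PrimeSpectrum A → ℕ) := by
    rw [Module.rankAtStalk_eq_finrank_of_free, hd]
  obtain ⟨T, _, _, _, _, _, hsplit⟩ := Algebra.IsFiniteSplit.exists_tensorProduct_of_etale (R := A) (S := B) hrk
  obtain ⟨n, ⟨φ⟩⟩ := hsplit.nonempty_algEquiv_fun
  refine ext_val₀ fun k x => ?_
  have hinj : Function.Injective (algebraMap A T) := by
    have := (inferInstance : FaithfulSMul A T)
    exact FaithfulSMul.algebraMap_injective A T
  let g : MvPolynomial (Fin k) A →ₐ[A] MvPolynomial (Fin k) T := MvPolynomial.mapAlgHom (Algebra.ofId A T)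
  have hg : Function.Injective g := MvPolynomial.map_injective _ hinj
  apply hg
  rw [map_val₀, map_val₀]
  exact val₀_eq_of_split φ _ hd hF hG _

theorem ker_eq_bot [Module.Free A B] [Module.Finite A B] [Algebra.Etale A B] (N : _root_.PolLaw.MulLaw A B A d)
    (hN : ∀ (S : Type u) [CommRing S] [Algebra A S] (x : S ⊗[A] B),
      N.law.toFun' S x = Algebra.norm S x ⊗ₜ[A] (1 : A)) :
    _root_.PolLaw.ker N.law = ⊥ := by
  classical
  rcases subsingleton_or_nontrivial A with hA | hA
  · have := Module.subsingleton A B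
    exact Subsingleton.elim _ _
  rw [eq_bot_iff]
  intro b hb
  rw [Submodule.mem_bot]
  refine ((Unram.TraceEtale.etale_iff_bijective_traceForm A B).1 inferInstance).1 ?_
  rw [map_zero]
  ext c
  rw [Algebra.traceForm_apply, LinearMap.zero_apply]
  have hbc : b * c ∈ _root_.PolLaw.ker N.law := Ideal.mul_mem_right _ _ hb
  have h := hbc A[X] 1 ((X : A[X]) • (1 : A[X] ⊗[A] B))
  rw [hN, hN, map_one] at h
  have h1 : Algebra.norm A[X] (1 + (X : A[X]) • (1 : A[X] ⊗[A] B) * (1 ⊗ₜ[A] (b * c))) = 1 := by
    have := congrArg (Algebra.TensorProduct.rid A A A[X]) h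
    simpa using this
  let bs := Module.Free.chooseBasis A B
  have h2 : Algebra.leftMulMatrix (bs.baseChange A[X]) ((1 : A[X]) ⊗ₜ[A] (b * c)) =
      (Algebra.leftMulMatrix bs (b * c)).map C := by
    ext i j
    rw [Matrix.map_apply, Algebra.leftMulMatrix_eq_repr_mul, Algebra.leftMulMatrix_eq_repr_mul,
      Module.Basis.baseChange_apply, Algebra.TensorProduct.tmul_mul_tmul, mul_one,
      Module.Basis.baseChange_repr_tmul, ← Polynomial.algebraMap_eq, Algebra.algebraMap_eq_smul_one]
  rw [Algebra.norm_eq_matrix_det (bs.baseChange A[X]), map_add, map_one, smul_mul_assoc, one_mul, map_smul, h2] at h1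
  have h3 := congrArg (fun P : A[X] => P.coeff 1) h1
  simp only [Matrix.coeff_det_one_add_X_smul_one, Polynomial.coeff_one, one_ne_zero, if_false] at h3
  rw [Algebra.trace_eq_matrix_trace bs]
  exact h3

end Groth.Agent.Lib.ZeroCyc99.EtaleLaw
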