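import Groth.Agent.Lib.PolLaw.OfPoly
import Groth.Agent.Lib.PolLaw.Coeff
import Mathlib.FieldTheory.PurelyInseparable.Basic
import Mathlib.FieldTheory.IsSepClosed
import Mathlib.FieldTheory.PrimitiveElement
import Mathlib.FieldTheory.Galois.Basic
import Mathlib.RingTheory.Norm.Basic
import Mathlib.RingTheory.Flat.Basic
import Mathlib.RingTheory.TensorProduct.Free
import Mathlib.LinearAlgebra.Dual.Lemmas

/-!
# Multiplicative homogeneous laws on a finite field extension
-/

noncomputable section

open scoped TensorProduct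

set_option maxSynthPendingDepth 3
set_option synthInstance.maxHeartbeats 100000

universe u

namespace Groth.Agent.Lib.ZeroCyc99.FieldLaw

variable (k : Type u) [Field k] (K : Type u) [Field K] [Algebra k K]

/-- The separable closure of `k` in `K`. -/
abbrev Ks := ↥(separableClosure k K)

/-- The inclusion after extension of scalars. -/
def iS (S : Type u) [CommRing S] [Algebra k S] : S ⊗[k] Ks k K →ₐ[S] S ⊗[k] K :=
  Algebra.TensorProduct.map (AlgHom.id S S) (separableClosure k K).val

theorem iS_tmul (S : Type u) [CommRing S] [Algebra k S] (s : S) (a : Ks k K) :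
    iS k K S (s ⊗ₜ a) = s ⊗ₜ (a : K) := rfl

theorem iS_injective (S : Type u) [CommRing S] [Algebra k S] : Function.Injective (iS k K S) := by
  intro x y h
  have hl : ∀ z, iS k K S z = (separableClosure k K).val.toLinearMap.lTensor S z := fun z => by
    induction z using TensorProduct.induction_on with
    | zero => simp
    | tmul s a => rfl
    | add a b ha hb => simp only [map_add, ha, hb]
  rw [hl, hl] at h
  exact Module.Flat.lTensor_preserves_injective_linearMap (M := S) (separableClosure k K).val.toLinearMap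
    Subtype.val_injective h

variable {k K}

/-- The value of a law in the test algebra. -/
def val (F : K →ₚₗ[k] k) (S : Type u) [CommRing S] [Algebra k S] (z : S ⊗[k] K) : S :=
  Algebra.TensorProduct.rid k S S (F.toFun' S z)

theorem val_map (F : K →ₚₗ[k] k) {S S' : Type u} [CommRing S] [Algebra k S] [CommRing S'] [Algebra k S']
    (φ : S →ₐ[k] S') (z : S ⊗[k] K) :
    val F S' (Algebra.TensorProduct.map φ (AlgHom.id k K) z) = φ (val F S z) := by
  have h : ∀ w : S ⊗[k] k, Algebra.TensorProduct.rid k S' S' (φ.toLinearMap.rTensor k w) =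
      φ (Algebra.TensorProduct.rid k S S w) := fun w => by
    induction w using TensorProduct.induction_on with
    | zero => simp
    | tmul s a => simp
    | add a b ha hb => simp only [map_add, ha, hb]
  rw [val, ← PolLaw.OfPoly.rTensor_eq_map, ← F.isCompat_apply', h]
  rfl

/-- The hypotheses on a law. -/
def IsMH (F : K →ₚₗ[k] k) (d : ℕ) : Prop :=
  (∀ (S : Type u) [CommRing S] [Algebra k S], F.toFun' S 1 = 1 ∧
      ∀ x y : S ⊗[k] K, F.toFun' S (x * y) = F.toFun' S x * F.toFun' S y) ∧
    ∀ (S : Type u) [CommRing S] [Algebra k S] (a : S) (z : S ⊗[k] K), F.toFun' S (a • z) = a ^ d • F.toFun' S z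

namespace IsMH

variable {F : K →ₚₗ[k] k} {d : ℕ} (hF : IsMH F d) (S : Type u) [CommRing S] [Algebra k S]

include hF

theorem val_one : val F S 1 = 1 := by rw [val, (hF.1 S).1, map_one]

theorem val_mul (x y : S ⊗[k] K) : val F S (x * y) = val F S x * val F S y := by
  rw [val, (hF.1 S).2, map_mul, val, val]

theorem val_smul (a : S) (z : S ⊗[k] K) : val F S (a • z) = a ^ d * val F S z := by
  rw [val, hF.2, map_smul, smul_eq_mul, val]

/-- The value as a monoid homomorphism. -/
def valHom : S ⊗[k] K →* S where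
  toFun := val F S
  map_one' := hF.val_one S
  map_mul' := hF.val_mul S

theorem valHom_apply (z : S ⊗[k] K) : hF.valHom S z = val F S z := rfl

theorem val_pow (z : S ⊗[k] K) (n : ℕ) : val F S (z ^ n) = val F S z ^ n :=
  map_pow (hF.valHom S) z n

end IsMH

section Emb

variable (k K)

/-- A separable closure of `k`. -/
abbrev Sep := SeparableClosure k

/-- The embeddings of `Ks` in the separable closure. -/
abbrev Emb := Ks k K →ₐ[k] Sep k

variable [FiniteDimensional k K]

theorem card_emb : Fintype.card (Emb k K) = Module.finrank k (Ks k K) :=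
  AlgHom.card_of_splits (F := k) (E := Ks k K) (Sep k) fun x => IsSepClosed.splits_codomain _
    (Algebra.IsSeparable.isSeparable k x)

instance : Nonempty (Emb k K) :=
  Fintype.card_pos_iff.1 (by rw [card_emb]; exact Module.finrank_pos)

variable {k K}

/-- Evaluation at an embedding. -/
def ev (S : Type u) [CommRing S] [Algebra (Sep k) S] [Algebra k S] [IsScalarTower k (Sep k) S] (σ : Emb k K) :
    S ⊗[k] Ks k K →ₐ[S] S :=
  Algebra.TensorProduct.lift (Algebra.ofId S S) ((IsScalarTower.toAlgHom k (Sep k) S).comp σ) fun _ _ => Commute.all _ _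

theorem ev_tmul (S : Type u) [CommRing S] [Algebra (Sep k) S] [Algebra k S] [IsScalarTower k (Sep k) S] (σ : Emb k K)
    (s : S) (a : Ks k K) : ev S σ (s ⊗ₜ a) = s * algebraMap (Sep k) S (σ a) := by
  simp [ev]

variable (k K)

/-- All evaluations. -/
def evs : Sep k ⊗[k] Ks k K →ₐ[Sep k] (Emb k K → Sep k) :=
  AlgHom.ofLinearMap (LinearMap.pi fun σ => (ev (Sep k) σ).toLinearMap)
    (funext fun σ => map_one (ev (Sep k) σ)) (fun x y => funext fun σ => map_mul (ev (Sep k) σ) x y)

theorem evs_apply (x : Sep k ⊗[k] Ks k K) (σ : Emb k K) : evs k K x σ = ev (Sep k) σ x := rfl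

theorem evs_bijective : Function.Bijective (evs k K) := by
  classical
  have hsurj : Function.Surjective (evs k K) := by
    by_contra hns
    have hlt : LinearMap.range (evs k K).toLinearMap < ⊤ :=
      lt_top_iff_ne_top.2 fun h => hns (LinearMap.range_eq_top.1 h)
    obtain ⟨f, hf0, hf⟩ := Submodule.exists_le_ker_of_lt_top _ hlt
    have hlin := linearIndependent_toLinearMap k (Ks k K) (Sep k)
    rw [Fintype.linearIndependent_iff] at hlin
    have hc := hlin (fun σ => f (Pi.single σ 1)) (LinearMap.ext fun a => by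
      have h1 : f (evs k K ((1 : Sep k) ⊗ₜ[k] a)) = 0 := hf ⟨(1 : Sep k) ⊗ₜ[k] a, rfl⟩
      rw [pi_eq_sum_univ' (evs k K (1 ⊗ₜ a)), map_sum] at h1
      simpa [evs_apply, ev_tmul, mul_comm] using h1)
    apply hf0
    refine LinearMap.pi_ext' fun σ => LinearMap.ext_ring ?_
    simpa using hc σ
  refine ⟨?_, hsurj⟩
  exact (LinearMap.injective_iff_surjective_of_finrank_eq_finrank (f := (evs k K).toLinearMap)
    (by rw [Module.finrank_baseChange, Module.finrank_fintype_fun_eq_card, card_emb])).2 hsurj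

/-- The idempotent of an embedding. -/
def eps (σ : Emb k K) : Sep k ⊗[k] Ks k K :=
  letI := Classical.decEq (Emb k K)
  (AlgEquiv.ofBijective (evs k K) (evs_bijective k K)).symm (Pi.single σ 1)

theorem evs_eps [DecidableEq (Emb k K)] (σ : Emb k K) : evs k K (eps k K σ) = Pi.single σ 1 := by
  rw [eps]
  refine ((AlgEquiv.ofBijective (evs k K) (evs_bijective k K)).apply_symm_apply _).trans ?_
  congr!

theorem eps_mul [DecidableEq (Emb k K)] (σ τ : Emb k K) :
    eps k K σ * eps k K τ = if σ = τ then eps k K σ else 0 := by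
  apply (evs_bijective k K).1
  rw [map_mul, evs_eps, evs_eps]
  split_ifs with h
  · subst h; rw [evs_eps, ← Pi.single_mul, mul_one]
  · rw [map_zero]; ext ρ; simp [Pi.single_apply]; grind

theorem sum_eps : ∑ σ, eps k K σ = 1 := by
  classical
  apply (evs_bijective k K).1
  rw [map_sum, map_one]
  simp only [evs_eps]
  exact Finset.univ_sum_single _

theorem one_tmul_eq (a : Ks k K) : (1 : Sep k) ⊗ₜ[k] a = ∑ σ, σ a • eps k K σ := by
  classical
  apply (evs_bijective k K).1
  rw [map_sum]
  funext τ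
  simp [evs_apply, ev_tmul, map_smul, evs_eps, Finset.sum_apply, Pi.single_apply]

section Test

variable (S : Type u) [CommRing S] [Algebra (Sep k) S] [Algebra k S] [IsScalarTower k (Sep k) S]

/-- The idempotent of an embedding, in a test algebra. -/
def epsS (σ : Emb k K) : S ⊗[k] K :=
  Algebra.TensorProduct.map (IsScalarTower.toAlgHom k (Sep k) S) (separableClosure k K).val (eps k K σ)

theorem epsS_mul [DecidableEq (Emb k K)] (σ τ : Emb k K) :
    epsS k K S σ * epsS k K S τ = if σ = τ then epsS k K S σ else 0 := by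
  rw [epsS, epsS, ← map_mul, eps_mul]
  split_ifs
  · rfl
  · exact map_zero _

theorem sum_epsS : ∑ σ, epsS k K S σ = 1 := by
  simp only [epsS]
  rw [← map_sum, sum_eps, map_one]

theorem iS_eq (w : S ⊗[k] Ks k K) : iS k K S w = ∑ σ : Emb k K, ev S σ w • epsS k K S σ := by
  induction w using TensorProduct.induction_on with
  | zero => simp
  | add a b ha hb => simp only [map_add, add_smul, Finset.sum_add_distrib, ha, hb]
  | tmul s a =>
    have h : (1 : S) ⊗ₜ[k] (a : K) = ∑ σ : Emb k K, algebraMap (Sep k) S (σ a) • epsS k K S σ := by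
      have h1 := congrArg (Algebra.TensorProduct.map (IsScalarTower.toAlgHom k (Sep k) S)
        (separableClosure k K).val) (one_tmul_eq k K a)
      rw [Algebra.TensorProduct.map_tmul, map_one, map_sum] at h1
      refine h1.trans (Finset.sum_congr rfl fun σ _ => ?_)
      rw [epsS, Algebra.smul_def, map_mul, Algebra.smul_def, Algebra.TensorProduct.algebraMap_apply,
        Algebra.TensorProduct.map_tmul, map_one, Algebra.TensorProduct.algebraMap_apply]
      rfl
    rw [iS_tmul, show s ⊗ₜ[k] (a : K) = s • ((1 : S) ⊗ₜ[k] (a : K)) by rw [TensorProduct.smul_tmul', smul_eq_mul, mul_one],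
      h, Finset.smul_sum]
    exact Finset.sum_congr rfl fun σ _ => by rw [ev_tmul, smul_smul]

theorem sum_smul_eq_prod (v : Emb k K → S) :
    ∑ σ, v σ • epsS k K S σ = ∏ σ, (1 + (v σ - 1) • epsS k K S σ) := by
  classical
  have h : ∀ T : Finset (Emb k K),
      ∏ σ ∈ T, (1 + (v σ - 1) • epsS k K S σ) = 1 + ∑ σ ∈ T, (v σ - 1) • epsS k K S σ := by
    intro T
    induction T using Finset.induction with
    | empty => simp
    | insert a T ha ih =>
      have h0 : (v a - 1) • epsS k K S a * ∑ σ ∈ T, (v σ - 1) • epsS k K S σ = 0 := by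
        rw [Finset.mul_sum]
        refine Finset.sum_eq_zero fun σ hσ => ?_
        rw [smul_mul_smul_comm, epsS_mul, if_neg (by rintro rfl; exact ha hσ), smul_zero]
      rw [Finset.prod_insert ha, ih, Finset.sum_insert ha, add_mul, one_mul, mul_add, mul_one, h0]
      abel
  rw [h, Finset.sum_congr rfl fun σ _ => sub_smul (v σ) 1 (epsS k K S σ)]
  simp [sum_epsS]

theorem epsS_map {S' : Type u} [CommRing S'] [Algebra (Sep k) S'] [Algebra k S'] [IsScalarTower k (Sep k) S']
    (φ : S →ₐ[Sep k] S') (σ : Emb k K) :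
    Algebra.TensorProduct.map (φ.restrictScalars k) (AlgHom.id k K) (epsS k K S σ) = epsS k K S' σ := by
  rw [epsS, epsS]
  generalize eps k K σ = w
  induction w using TensorProduct.induction_on with
  | zero => simp
  | tmul s a => simp
  | add a b ha hb => simp only [map_add, ha, hb]

end Test

end Emb

section Degrees

variable [FiniteDimensional k K] {F : K →ₚₗ[k] k} {d : ℕ} (hF : IsMH F d)

/-- The value along an idempotent, as a polynomial. -/
def P (F : K →ₚₗ[k] k) (σ : Emb k K) : Polynomial (Sep k) :=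
  val F (Polynomial (Sep k)) (1 + ((Polynomial.X : Polynomial (Sep k)) - 1) • epsS k K (Polynomial (Sep k)) σ)

theorem val_one_add (S : Type u) [CommRing S] [Algebra (Sep k) S] [Algebra k S] [IsScalarTower k (Sep k) S]
    (F : K →ₚₗ[k] k) (σ : Emb k K) (t : S) :
    val F S (1 + (t - 1) • epsS k K S σ) = Polynomial.aeval t (P F σ) := by
  have h : Algebra.TensorProduct.map ((Polynomial.aeval (R := Sep k) t).restrictScalars k) (AlgHom.id k K)
      (1 + ((Polynomial.X : Polynomial (Sep k)) - 1) • epsS k K (Polynomial (Sep k)) σ) =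
      1 + (t - 1) • epsS k K S σ := by
    rw [map_add, map_one, Algebra.smul_def, map_mul, epsS_map, Algebra.TensorProduct.algebraMap_apply,
      Algebra.TensorProduct.map_tmul, map_one, Algebra.smul_def, Algebra.TensorProduct.algebraMap_apply]
    simp
  rw [← h, val_map]
  rfl

include hF in
theorem prod_P : ∏ σ : Emb k K, P F σ = Polynomial.X ^ d := by
  have h := congrArg (val F (Polynomial (Sep k)))
    (sum_smul_eq_prod k K (Polynomial (Sep k)) fun _ => Polynomial.X)
  rw [← Finset.smul_sum, sum_epsS, hF.val_smul, hF.val_one, mul_one, ← hF.valHom_apply, map_prod] at h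
  exact h.symm

include hF in
theorem exists_exponent (σ : Emb k K) : ∃ i, P F σ = Polynomial.X ^ i := by
  obtain ⟨i, -, hi⟩ := (dvd_prime_pow Polynomial.prime_X d).1
    (prod_P hF ▸ Finset.dvd_prod_of_mem (P F) (Finset.mem_univ σ))
  obtain ⟨w, hw⟩ := hi.symm
  obtain ⟨r, hr, hr'⟩ := Polynomial.isUnit_iff.1 w.isUnit
  refine ⟨i, ?_⟩
  have h1 : Polynomial.aeval (1 : Sep k) (P F σ) = 1 := by
    rw [← val_one_add, sub_self, zero_smul, add_zero, hF.val_one]
  rw [← hw, ← hr', map_mul, map_pow, Polynomial.aeval_X, one_pow, one_mul, Polynomial.aeval_C,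
    Algebra.algebraMap_self_apply] at h1
  rw [← hw, ← hr', h1, map_one, mul_one]

theorem eps_map (ρ : Sep k ≃ₐ[k] Sep k) (σ : Emb k K) :
    Algebra.TensorProduct.map ρ.toAlgHom (AlgHom.id k (Ks k K)) (eps k K σ) = eps k K (ρ.toAlgHom.comp σ) := by
  classical
  apply (evs_bijective k K).1
  funext τ
  have h : ∀ w : Sep k ⊗[k] Ks k K, ev (Sep k) τ (Algebra.TensorProduct.map ρ.toAlgHom (AlgHom.id k (Ks k K)) w) =
      ρ (ev (Sep k) (ρ.symm.toAlgHom.comp τ) w) := fun w => by
    induction w using TensorProduct.induction_on with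
    | zero => simp
    | tmul s a => simp [ev_tmul]
    | add a b ha hb => simp only [map_add, ha, hb]
  rw [evs_apply, h, evs_eps, ← evs_apply k K, evs_eps, Pi.single_apply, Pi.single_apply]
  by_cases hs : ρ.symm.toAlgHom.comp τ = σ
  · subst hs
    rw [if_pos rfl, map_one, if_pos]
    ext a
    simp
  · rw [if_neg hs, map_zero, if_neg]
    rintro rfl
    exact hs (AlgHom.ext fun a => by simp)

theorem P_map (F : K →ₚₗ[k] k) (ρ : Sep k ≃ₐ[k] Sep k) (σ : Emb k K) :
    (P F σ).map (ρ : Sep k →+* Sep k) = P F (ρ.toAlgHom.comp σ) := by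
  let φ : Polynomial (Sep k) →ₐ[k] Polynomial (Sep k) := Polynomial.mapAlgHom ρ.toAlgHom
  have h : Algebra.TensorProduct.map φ (AlgHom.id k K) (epsS k K (Polynomial (Sep k)) σ) =
      epsS k K (Polynomial (Sep k)) (ρ.toAlgHom.comp σ) := by
    rw [epsS, epsS, ← eps_map]
    generalize eps k K σ = w
    induction w using TensorProduct.induction_on with
    | zero => simp
    | tmul s a => simp [φ]
    | add a b ha hb => simp only [map_add, ha, hb]
  show φ (P F σ) = _
  rw [P, ← val_map, map_add, map_one, Algebra.smul_def, map_mul, h, Algebra.TensorProduct.algebraMap_apply,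
    Algebra.TensorProduct.map_tmul, map_one, P, Algebra.smul_def, Algebra.TensorProduct.algebraMap_apply]
  simp [φ]

theorem exists_algEquiv (σ τ : Emb k K) : ∃ ρ : Sep k ≃ₐ[k] Sep k, ρ.toAlgHom.comp σ = τ := by
  letI := σ.toRingHom.toAlgebra
  haveI : IsScalarTower k (Ks k K) (Sep k) := IsScalarTower.of_algebraMap_eq fun r => (σ.commutes r).symm
  refine ⟨AlgEquiv.ofBijective (τ.liftNormal (Sep k)) (Algebra.IsAlgebraic.algHom_bijective _), AlgHom.ext fun a => ?_⟩
  exact τ.liftNormal_commutes (Sep k) a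

include hF in
theorem exists_common : ∃ c, d = Module.finrank k (Ks k K) * c ∧ ∀ σ, P F σ = Polynomial.X ^ c := by
  obtain ⟨σ₀⟩ := (inferInstance : Nonempty (Emb k K))
  obtain ⟨c, hc⟩ := exists_exponent hF σ₀
  have hall : ∀ σ, P F σ = Polynomial.X ^ c := fun σ => by
    obtain ⟨ρ, rfl⟩ := exists_algEquiv σ₀ σ
    rw [← P_map, hc, Polynomial.map_pow, Polynomial.map_X]
  refine ⟨c, ?_, hall⟩
  have h := congrArg Polynomial.natDegree (prod_P hF)
  rw [Finset.prod_congr rfl fun σ _ => hall σ, Finset.prod_const, ← pow_mul, Polynomial.natDegree_X_pow,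
    Polynomial.natDegree_X_pow, Finset.card_univ, card_emb, mul_comm] at h
  exact h.symm

include hF in
theorem val_iS {c : ℕ} (hc : ∀ σ, P F σ = Polynomial.X ^ c) (S : Type u) [CommRing S] [Algebra (Sep k) S]
    [Algebra k S] [IsScalarTower k (Sep k) S] (w : S ⊗[k] Ks k K) :
    val F S (iS k K S w) = ∏ σ : Emb k K, ev S σ w ^ c := by
  rw [iS_eq, sum_smul_eq_prod, ← hF.valHom_apply, map_prod]
  exact Finset.prod_congr rfl fun σ _ => by rw [hF.valHom_apply, val_one_add, hc, map_pow, Polynomial.aeval_X]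

end Degrees

section Exponent

variable {e : ℕ}

theorem exp_dvd (he : 0 < e) (hexp : ∀ x : K, x ^ e ∈ separableClosure k K)
    (hmin : ∀ n : ℕ, 0 < n → (∀ x : K, x ^ n ∈ separableClosure k K) → e ≤ n) {n : ℕ}
    (h : ∀ x : K, x ^ n ∈ separableClosure k K) : e ∣ n := by
  have hg := Nat.gcd_pos_of_pos_left n he
  have hle : e ≤ Nat.gcd e n := hmin _ hg fun x => by
    by_cases hx : x = 0
    · rw [hx, zero_pow hg.ne']; exact zero_mem _
    rw [← zpow_natCast, Nat.gcd_eq_gcd_ab, zpow_add₀ hx, zpow_mul, zpow_mul, zpow_natCast, zpow_natCast]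
    exact mul_mem (zpow_mem (hexp x) _) (zpow_mem (h x) _)
  rw [le_antisymm hle (Nat.le_of_dvd he (Nat.gcd_dvd_left e n))]
  exact Nat.gcd_dvd_right e n

theorem exists_eq_pow [FiniteDimensional k K] (he : 0 < e) (hexp : ∀ x : K, x ^ e ∈ separableClosure k K)
    (hmin : ∀ n : ℕ, 0 < n → (∀ x : K, x ^ n ∈ separableClosure k K) → e ≤ n) (p : ℕ) [ExpChar k p] :
    ∃ r, e = p ^ r := by
  haveI : ExpChar (Ks k K) p := expChar_of_injective_algebraMap (algebraMap k (Ks k K)).injective p
  haveI : ExpChar K p := expChar_of_injective_algebraMap (algebraMap k K).injective p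
  let b := Module.finBasis k K
  have h1 : ∀ x : K, ∃ n : ℕ, x ^ p ^ n ∈ separableClosure k K := fun x => by
    obtain ⟨n, y, hy⟩ := IsPurelyInseparable.pow_mem (Ks k K) p x
    exact ⟨n, hy ▸ y.2⟩
  choose f hf using fun i => h1 (b i)
  have hN : ∀ x : K, x ^ p ^ (∑ i, f i) ∈ separableClosure k K := fun x => by
    rw [← b.sum_repr x, sum_pow_char_pow]
    refine sum_mem fun i _ => ?_
    rw [smul_pow]
    refine IntermediateField.smul_mem _ ?_
    obtain ⟨g, hg⟩ := Nat.exists_eq_add_of_le (Finset.single_le_sum (fun j _ => Nat.zero_le (f j)) (Finset.mem_univ i))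
    rw [hg, pow_add, pow_mul]
    exact pow_mem (hf i) _
  have hd := exp_dvd he hexp hmin hN
  rcases (inferInstance : ExpChar k p) with _ | hp
  · exact ⟨0, by simpa using hd⟩
  · obtain ⟨r, -, hr⟩ := (Nat.dvd_prime_pow hp).1 hd
    exact ⟨r, hr⟩

theorem exists_root (he : 0 < e) (hexp : ∀ x : K, x ^ e ∈ separableClosure k K) (p : ℕ) [ExpChar k p] {r : ℕ}
    (hr : e = p ^ r) (S : Type u) [CommRing S] [Algebra k S] (z : S ⊗[k] K) : ∃ w, iS k K S w = z ^ e := by
  rcases subsingleton_or_nontrivial (S ⊗[k] K) with h | h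
  · exact ⟨0, Subsingleton.elim _ _⟩
  haveI : ExpChar (S ⊗[k] K) p := expChar_of_injective_algebraMap (algebraMap k (S ⊗[k] K)).injective p
  induction z using TensorProduct.induction_on with
  | zero => exact ⟨0, by rw [map_zero, zero_pow he.ne']⟩
  | tmul s x => exact ⟨(s ^ e) ⊗ₜ ⟨x ^ e, hexp x⟩, by rw [iS_tmul, Algebra.TensorProduct.tmul_pow]⟩
  | add a b ha hb =>
    obtain ⟨u, hu⟩ := ha
    obtain ⟨v, hv⟩ := hb
    exact ⟨u + v, by rw [map_add, hu, hv, hr, add_pow_expChar_pow]⟩

end Exponent

section Main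

variable [FiniteDimensional k K] {e d : ℕ}

theorem unique (he : 0 < e) (hexp : ∀ x : K, x ^ e ∈ separableClosure k K)
    (hmin : ∀ n : ℕ, 0 < n → (∀ x : K, x ^ n ∈ separableClosure k K) → e ≤ n)
    {F F' : K →ₚₗ[k] k} (hF : IsMH F d) (hF' : IsMH F' d) : F = F' := by
  obtain ⟨p, hp⟩ := ExpChar.exists k
  obtain ⟨r, hr⟩ := exists_eq_pow he hexp hmin p
  obtain ⟨c, hd, hc⟩ := exists_common hF
  obtain ⟨c', hd', hc'⟩ := exists_common hF'
  have hcc : c = c' := Nat.eq_of_mul_eq_mul_left Module.finrank_pos (hd.symm.trans hd')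
  refine Groth.Agent.Lib.PolLaw.Coeff.ext_poly fun n z => (Algebra.TensorProduct.rid k (MvPolynomial (Fin n) k) (MvPolynomial (Fin n) k)).injective ?_
  show val F (MvPolynomial (Fin n) k) z = val F' _ z
  let φ : MvPolynomial (Fin n) k →ₐ[k] MvPolynomial (Fin n) (Sep k) := MvPolynomial.mapAlgHom (Algebra.ofId k (Sep k))
  refine MvPolynomial.map_injective _ (algebraMap k (Sep k)).injective ?_
  show φ (val F _ z) = φ (val F' _ z)
  rw [← val_map, ← val_map]
  set z' := Algebra.TensorProduct.map φ (AlgHom.id k K) z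
  obtain ⟨w, hw⟩ := exists_root he hexp p hr _ z'
  have h : val F (MvPolynomial (Fin n) (Sep k)) z' ^ e = val F' _ z' ^ e := by
    rw [← hF.val_pow, ← hF'.val_pow, ← hw, val_iS hF hc, val_iS hF' hc', hcc]
  haveI : ExpChar (MvPolynomial (Fin n) (Sep k)) p :=
    expChar_of_injective_algebraMap (algebraMap k (MvPolynomial (Fin n) (Sep k))).injective p
  rw [hr] at h
  exact iterateFrobenius_inj (MvPolynomial (Fin n) (Sep k)) p r h

theorem dvd_of_exists (he : 0 < e) (hexp : ∀ x : K, x ^ e ∈ separableClosure k K)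
    (hmin : ∀ n : ℕ, 0 < n → (∀ x : K, x ^ n ∈ separableClosure k K) → e ≤ n)
    {F : K →ₚₗ[k] k} (hF : IsMH F d) : Module.finrank k (Ks k K) * e ∣ d := by
  classical
  obtain ⟨p, hp⟩ := ExpChar.exists k
  obtain ⟨r, hr⟩ := exists_eq_pow he hexp hmin p
  obtain ⟨c, hd, hc⟩ := exists_common hF
  rw [hd]
  refine Nat.mul_dvd_mul_left _ (exp_dvd he hexp hmin fun y => ?_)
  obtain ⟨σ⟩ := (inferInstance : Nonempty (Emb k K))
  let a : Ks k K := ⟨y ^ e, hexp y⟩
  set ε := epsS k K (Sep k) σ with hε
  have hεε : ε * ε = ε := by rw [hε, epsS_mul, if_pos rfl]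
  have hpow : ∀ n : ℕ, (1 - ε + ε * ((1 : Sep k) ⊗ₜ[k] y)) ^ n = 1 - ε + ε * ((1 : Sep k) ⊗ₜ[k] (y ^ n)) := by
    intro n
    induction n with
    | zero => simp [← Algebra.TensorProduct.one_def]
    | succ n ih =>
      rw [pow_succ, ih, pow_succ, show (1 : Sep k) ⊗ₜ[k] (y ^ n * y) = ((1 : Sep k) ⊗ₜ[k] (y ^ n)) * ((1 : Sep k) ⊗ₜ[k] y)
        by rw [Algebra.TensorProduct.tmul_mul_tmul, mul_one]]
      generalize (1 : Sep k) ⊗ₜ[k] (y ^ n) = A
      generalize (1 : Sep k) ⊗ₜ[k] y = B
      linear_combination (1 + A * B - A - B) * hεε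
  have hεa : ε * ((1 : Sep k) ⊗ₜ[k] (y ^ e)) = σ a • ε := by
    have h1 := iS_eq k K (Sep k) ((1 : Sep k) ⊗ₜ a)
    rw [iS_tmul] at h1
    rw [show (1 : Sep k) ⊗ₜ[k] (y ^ e) = (1 : Sep k) ⊗ₜ[k] (a : K) from rfl, h1, Finset.mul_sum,
      Finset.sum_eq_single σ (fun τ _ hτ => by rw [mul_smul_comm, epsS_mul, if_neg hτ.symm, smul_zero])
        (by simp), mul_smul_comm, hεε, ev_tmul, one_mul, Algebra.algebraMap_self_apply]
  have hre : val F (Sep k) (1 - ε + ε * ((1 : Sep k) ⊗ₜ[k] y)) ^ e = σ a ^ c := by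
    rw [← hF.val_pow, hpow, hεa, show 1 - ε + σ a • ε = 1 + (σ a - 1) • ε by rw [sub_smul, one_smul]; abel, hε,
      val_one_add, hc, map_pow, Polynomial.aeval_X]
  letI := (((separableClosure k (AlgebraicClosure k)).val).comp σ).toRingHom.toAlgebra
  haveI : IsScalarTower k (Ks k K) (AlgebraicClosure k) :=
    IsScalarTower.of_algebraMap_eq fun x => (((separableClosure k (AlgebraicClosure k)).val).comp σ).commutes x |>.symm
  haveI : Algebra.IsAlgebraic (Ks k K) K := Algebra.IsAlgebraic.tower_top (K := k) (Ks k K)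
  let τ : K →ₐ[Ks k K] AlgebraicClosure k := IsAlgClosed.lift
  set rr := val F (Sep k) (1 - ε + ε * ((1 : Sep k) ⊗ₜ[k] y))
  haveI : ExpChar (AlgebraicClosure k) p :=
    expChar_of_injective_algebraMap (algebraMap k (AlgebraicClosure k)).injective p
  have hy : (rr : AlgebraicClosure k) = τ (y ^ c) := by
    refine iterateFrobenius_inj (AlgebraicClosure k) p r ?_
    rw [iterateFrobenius_def, iterateFrobenius_def, ← hr]
    have h2 : τ (a : K) = (σ a : AlgebraicClosure k) := τ.commutes a
    rw [← map_pow, ← pow_mul, mul_comm c e, pow_mul, show y ^ e = (a : K) from rfl, map_pow, h2]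
    exact congrArg Subtype.val hre
  have hs : IsSeparable k (τ (y ^ c)) := hy ▸ mem_separableClosure_iff.1 rr.2
  rw [mem_separableClosure_iff]
  exact IsSeparable.of_algHom (τ.restrictScalars k) hs

/-- The norm from the separable closure, after extension of scalars. -/
def nrm (k : Type u) [Field k] (K : Type u) [Field K] [Algebra k K] (S : Type u) [CommRing S] [Algebra k S] : S ⊗[k] Ks k K →* S := Algebra.norm S

theorem nrm_map {S S' : Type u} [CommRing S] [Algebra k S] [CommRing S'] [Algebra k S'] (φ : S →ₐ[k] S')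
    (z : S ⊗[k] Ks k K) : nrm k K S' (Algebra.TensorProduct.map φ (AlgHom.id k (Ks k K)) z) = φ (nrm k K S z) := by
  classical
  let b := Module.finBasis k (Ks k K)
  have hrepr : ∀ w i, (Algebra.TensorProduct.basis S' b).repr
      (Algebra.TensorProduct.map φ (AlgHom.id k (Ks k K)) w) i = φ ((Algebra.TensorProduct.basis S b).repr w i) := by
    intro w i
    induction w using TensorProduct.induction_on with
    | zero => simp
    | tmul s a => simp [Algebra.TensorProduct.basis_repr_tmul]
    | add x y hx hy => simp only [map_add, Finsupp.add_apply, hx, hy]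
  rw [nrm, nrm, Algebra.norm_eq_matrix_det (Algebra.TensorProduct.basis S' b),
    Algebra.norm_eq_matrix_det (Algebra.TensorProduct.basis S b), AlgHom.map_det]
  congr 1
  ext i j
  rw [AlgHom.mapMatrix_apply, Matrix.map_apply, Algebra.leftMulMatrix_eq_repr_mul, Algebra.leftMulMatrix_eq_repr_mul,
    ← hrepr, map_mul (Algebra.TensorProduct.map φ (AlgHom.id k (Ks k K))), Algebra.TensorProduct.basis_apply, Algebra.TensorProduct.basis_apply,
    Algebra.TensorProduct.map_tmul, map_one]
  rfl

theorem nrm_smul (S : Type u) [CommRing S] [Algebra k S] (a : S) (z : S ⊗[k] Ks k K) :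
    nrm k K S (a • z) = a ^ Module.finrank k (Ks k K) * nrm k K S z := by
  classical
  rw [Algebra.smul_def, map_mul, nrm,
    Algebra.norm_algebraMap_of_basis (Algebra.TensorProduct.basis S (Module.finBasis k (Ks k K))), Fintype.card_fin]

theorem exists_of_dvd (he : 0 < e) (hexp : ∀ x : K, x ^ e ∈ separableClosure k K)
    (hmin : ∀ n : ℕ, 0 < n → (∀ x : K, x ^ n ∈ separableClosure k K) → e ≤ n)
    (h : Module.finrank k (Ks k K) * e ∣ d) : ∃ F : K →ₚₗ[k] k, IsMH F d := by
  obtain ⟨p, hp⟩ := ExpChar.exists k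
  obtain ⟨r, hr⟩ := exists_eq_pow he hexp hmin p
  obtain ⟨j, rfl⟩ := h
  choose root hroot using fun (n : ℕ) => exists_root he hexp p hr (MvPolynomial (Fin n) k)
  have hmul : ∀ n x y, root n (x * y) = root n x * root n y := fun n x y =>
    iS_injective k K _ (by rw [map_mul, hroot, hroot, hroot, mul_pow])
  have hone : ∀ n, root n 1 = 1 := fun n => iS_injective k K _ (by rw [map_one, hroot, one_pow])
  have hsmul : ∀ n (a : MvPolynomial (Fin n) k) z, root n (a • z) = a ^ e • root n z := fun n a z =>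
    iS_injective k K _ (by rw [map_smul, hroot, hroot, smul_pow])
  have hnat : ∀ (n m : ℕ) (φ : MvPolynomial (Fin n) k →ₐ[k] MvPolynomial (Fin m) k) z,
      root m (φ.toLinearMap.rTensor K z) = Algebra.TensorProduct.map φ (AlgHom.id k (Ks k K)) (root n z) :=
    fun n m φ z => iS_injective k K _ <| by
      rw [hroot, PolLaw.OfPoly.rTensor_eq_map, ← map_pow, ← hroot]
      generalize root n z = w
      induction w using TensorProduct.induction_on with
      | zero => simp
      | tmul s a => rfl
      | add x y hx hy => simp only [map_add, hx, hy]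
  let L := PolLaw.OfPoly.mulLaw (A := k) (B := K) (C := k) (d := Module.finrank k (Ks k K) * e * j)
    (fun n z => (nrm k K _ (root n z) ^ j) ⊗ₜ[k] (1 : k))
    (fun n m φ z => by rw [LinearMap.rTensor_tmul, hnat, nrm_map]; simp)
    (fun n => by rw [hone, map_one, one_pow]; rfl)
    (fun n x y => by rw [hmul, map_mul, mul_pow, Algebra.TensorProduct.tmul_mul_tmul, mul_one])
    (fun n a x => by
      rw [hsmul, nrm_smul, mul_pow, ← pow_mul, ← pow_mul, TensorProduct.smul_tmul', smul_eq_mul]
      congr 3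
      ring)
  exact ⟨L.law, fun S _ _ => L.mult S, fun S _ _ => L.homog S⟩

theorem main (d e : ℕ) (he : 0 < e) (hexp : ∀ x : K, x ^ e ∈ separableClosure k K)
    (hmin : ∀ n : ℕ, 0 < n → (∀ x : K, x ^ n ∈ separableClosure k K) → e ≤ n) :
    (∀ F F' : K →ₚₗ[k] k, IsMH F d → IsMH F' d → F = F') ∧
      ((∃ F : K →ₚₗ[k] k, IsMH F d) ↔ Field.finSepDegree k K * e ∣ d) := by
  rw [show Field.finSepDegree k K = Module.finrank k (Ks k K) from Field.finSepDegree_eq k K]
  exact ⟨fun F F' hF hF' => unique he hexp hmin hF hF',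
    fun ⟨F, hF⟩ => dvd_of_exists he hexp hmin hF, exists_of_dvd he hexp hmin⟩

end Main

end Groth.Agent.Lib.ZeroCyc99.FieldLaw
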