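import Mathlib.AlgebraicGeometry.Morphisms.FlatDescent
import Mathlib.AlgebraicGeometry.Morphisms.UniversallyOpen
import Mathlib.AlgebraicGeometry.Morphisms.Affine
import Mathlib.AlgebraicGeometry.Morphisms.QuasiSeparated
import Mathlib.AlgebraicGeometry.Stalk

/-!
# Descent along flat surjections which are not quasi-compact
-/

universe u

open CategoryTheory Limits AlgebraicGeometry

namespace Groth.Agent.Lib.ZeroCyc99.FlatLocal

variable {X Y : Scheme.{u}} (f : X ⟶ Y)

theorem isHomeomorph_of_forall [QuasiCompact f]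
    (h : ∀ y : Y, ∃ (T : Scheme.{u}) (g : T ⟶ Y), Flat g ∧ y ∈ Set.range g.base ∧
      IsHomeomorph (pullback.snd f g).base) : IsHomeomorph f.base := by
  have hcomm : ∀ (T : Scheme.{u}) (g : T ⟶ Y) (z : (pullback f g : Scheme.{u})),
      f.base ((pullback.fst f g).base z) = g.base ((pullback.snd f g).base z) := fun T g z => by
    rw [← Scheme.Hom.comp_apply, ← Scheme.Hom.comp_apply, pullback.condition]
  have hbij : Function.Bijective f.base := by
    refine ⟨fun x₁ x₂ hx => ?_, fun y => ?_⟩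
    · obtain ⟨T, g, -, ⟨t, ht⟩, hh⟩ := h (f.base x₁)
      obtain ⟨z₁, hz₁, hz₁'⟩ := Scheme.Pullback.exists_preimage_pullback (f := f) (g := g) x₁ t ht.symm
      obtain ⟨z₂, hz₂, hz₂'⟩ := Scheme.Pullback.exists_preimage_pullback (f := f) (g := g) x₂ t (hx ▸ ht.symm)
      rw [← hz₁, ← hz₂, hh.bijective.injective (hz₁'.trans hz₂'.symm)]
    · obtain ⟨T, g, -, ⟨t, ht⟩, hh⟩ := h y
      obtain ⟨z, hz⟩ := hh.bijective.surjective t
      exact ⟨(pullback.fst f g).base z, by rw [hcomm, hz, ht]⟩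
  have hclosed : IsClosedMap f.base := by
    refine (isClosedMap_iff_specializingMap f).mpr ?_
    intro x y hxy
    obtain ⟨T, g, hg, ⟨t, ht⟩, hh⟩ := h y
    obtain ⟨t₀, ht₀, ht₀'⟩ := (Flat.generalizingMap g) (a := t) (show f.base x ⤳ g.base t from ht.symm ▸ hxy)
    obtain ⟨z₀, hz₀, hz₀'⟩ := Scheme.Pullback.exists_preimage_pullback (f := f) (g := g) x t₀ ht₀'.symm
    obtain ⟨z, hz⟩ := hh.bijective.surjective t
    have hsp : z₀ ⤳ z := hh.isInducing.specializes_iff.mp (by rw [hz₀', hz]; exact ht₀)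
    refine ⟨(pullback.fst f g).base z, ?_, by rw [hcomm, hz, ht]⟩
    rw [← hz₀]
    exact hsp.map (pullback.fst f g).continuous
  exact isHomeomorph_iff_continuous_isClosedMap_bijective.mpr ⟨f.continuous, hclosed, hbij⟩

theorem isIso_of_forall [QuasiCompact f]
    (h : ∀ y : Y, ∃ (T : Scheme.{u}) (g : T ⟶ Y), Flat g ∧ y ∈ Set.range g.base ∧
      IsIso (pullback.snd f g)) : IsIso f := by
  have hhom : IsHomeomorph f.base := isHomeomorph_of_forall f fun y => by
    obtain ⟨T, g, hg, hy, hi⟩ := h y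
    exact ⟨T, g, hg, hy, (pullback.snd f g).homeomorph.isHomeomorph⟩
  refine (isIso_iff_isIso_stalkMap f).mpr ⟨?_, fun x => ?_⟩
  · exact (TopCat.isIso_iff_isHomeomorph f.base).mpr hhom
  obtain ⟨T, g, hg, ⟨t, ht⟩, hi⟩ := h (f.base x)
  let j := Y.fromSpecStalk (f.base x)
  let π : Spec (T.presheaf.stalk t) ⟶ Spec (Y.presheaf.stalk (f.base x)) :=
    Spec.map ((Y.presheaf.stalkCongr (.of_eq ht.symm)).hom ≫ g.stalkMap t)
  have hπ : π ≫ j = T.fromSpecStalk t ≫ g := by
    simp only [π, j, Spec.map_comp, Category.assoc, TopCat.Presheaf.stalkCongr_hom,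
      Scheme.SpecMap_stalkSpecializes_fromSpecStalk, Scheme.SpecMap_stalkMap_fromSpecStalk]
  have hff : (((Y.presheaf.stalkCongr (.of_eq ht.symm)).hom ≫ g.stalkMap t)).hom.FaithfullyFlat := by
    have hfl : (((Y.presheaf.stalkCongr (.of_eq ht.symm)).hom ≫ g.stalkMap t)).hom.Flat :=
      RingHom.Flat.comp (RingHom.Flat.of_bijective
        (ConcreteCategory.bijective_of_isIso (Y.presheaf.stalkCongr (.of_eq ht.symm)).hom)) (Flat.stalkMap g t)
    algebraize [(((Y.presheaf.stalkCongr (.of_eq ht.symm)).hom ≫ g.stalkMap t)).hom]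
    have : IsLocalHom (algebraMap (Y.presheaf.stalk (f.base x)) (T.presheaf.stalk t)) :=
      inferInstanceAs (IsLocalHom ((Y.presheaf.stalkCongr (.of_eq ht.symm)).hom ≫ g.stalkMap t).hom)
    exact RingHom.faithfullyFlat_algebraMap_iff.mpr Module.FaithfullyFlat.of_flat_of_isLocalHom
  obtain ⟨hπf, hπs⟩ := (flat_and_surjective_SpecMap_iff _).mpr hff
  have hpb : IsIso (pullback.snd f (π ≫ j)) := by
    rw [hπ, ← pullbackLeftPullbackSndIso_inv_snd_snd f g (T.fromSpecStalk t)]
    infer_instance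
  have hj : IsIso (pullback.snd f j) := by
    have h2 : IsIso (pullback.snd (pullback.snd f j) π) := by
      rw [← pullbackLeftPullbackSndIso_hom_snd f j π]
      infer_instance
    exact MorphismProperty.of_pullback_snd_of_descendsAlong (P := MorphismProperty.isomorphisms Scheme.{u})
      (Q := @Surjective ⊓ @Flat ⊓ @QuasiCompact) (f := pullback.snd f j) (g := π)
      ⟨⟨hπs, hπf⟩, inferInstance⟩ h2
  let s : Spec (Y.presheaf.stalk (f.base x)) ⟶ X := inv (pullback.snd f j) ≫ pullback.fst f j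
  have hsf : s ≫ f = j := by simp [s, pullback.condition]
  have hs : Spec.map (f.stalkMap x) ≫ s = X.fromSpecStalk x := by
    have hw : X.fromSpecStalk x ≫ f = Spec.map (f.stalkMap x) ≫ j :=
      (Scheme.SpecMap_stalkMap_fromSpecStalk f).symm
    have h1 : pullback.lift (X.fromSpecStalk x) (Spec.map (f.stalkMap x)) hw ≫ pullback.snd f j =
        Spec.map (f.stalkMap x) := pullback.lift_snd _ _ _
    conv_lhs => rw [← h1]
    simp only [s, Category.assoc, IsIso.hom_inv_id_assoc]
    exact pullback.lift_fst _ _ _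
  have hsx : s.base (IsLocalRing.closedPoint _) = x := by
    apply hhom.bijective.injective
    rw [← Scheme.Hom.comp_apply, hsf]
    exact Scheme.fromSpecStalk_closedPoint
  obtain ⟨b, hb⟩ : ∃ b, b ≫ X.fromSpecStalk x = s := by
    have := Scheme.Spec_stalkClosedPointTo_fromSpecStalk s
    revert this
    generalize Spec.map (Scheme.stalkClosedPointTo s) = b
    revert b
    rw [hsx]
    exact fun b hb => ⟨b, hb⟩
  have h1 : Spec.map (f.stalkMap x) ≫ b = 𝟙 _ := by
    rw [← cancel_mono (X.fromSpecStalk x), Category.assoc, hb, hs, Category.id_comp]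
  have h2 : b ≫ Spec.map (f.stalkMap x) = 𝟙 _ := by
    rw [← cancel_mono j, Category.assoc, show Spec.map (f.stalkMap x) ≫ j = X.fromSpecStalk x ≫ f from
      Scheme.SpecMap_stalkMap_fromSpecStalk f, ← Category.assoc, hb, hsf, Category.id_comp]
  have : IsIso (Spec.map (f.stalkMap x)) := ⟨⟨b, h1, h2⟩⟩
  exact (ConcreteCategory.isIso_iff_bijective _).mpr (isIso_SpecMap_iff.mp this)

end Groth.Agent.Lib.ZeroCyc99.FlatLocal
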