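import Groth.Prelude.Def_PolLaw2
import Groth.Agent.Lib.PolLaw.OfPoly
import Groth.Agent.Lib.PolLaw.Coeff
import Groth.Agent.Lib.Excellent.GenericNormal
import Mathlib.LinearAlgebra.Determinant
import Mathlib.LinearAlgebra.TensorProduct.Basis
import Mathlib.RingTheory.IntegralClosure.IntegrallyClosed
import Mathlib.RingTheory.Localization.FractionRing
import Mathlib.RingTheory.MvPolynomial.Localization

/-!
# The determinant law of a module of given generic rank over a normal domain
-/

universe u

open scoped TensorProduct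

namespace Groth.Agent.Lib.ZeroCyc99.GenericDet

attribute [local instance] MvPolynomial.algebraMvPolynomial

variable {A : Type u} [CommRing A] {B : Type u} [CommRing B] [Algebra A B]
  {M : Type u} [AddCommGroup M] [Module A M] [Module B M] [IsScalarTower A B M]

variable {S S' : Type u} [CommRing S] [Algebra A S] [CommRing S'] [Algebra A S']

theorem rTensor_smul (g : S →ₐ[A] S') (s : S) (z : S ⊗[A] M) :
    g.toLinearMap.rTensor M (s • z) = g s • g.toLinearMap.rTensor M z :=
  PolLaw.OfPoly.rTensor_smul_scalar g s z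

theorem actEnd_map (g : S →ₐ[A] S') (x : S ⊗[A] B) (z : S ⊗[A] M) :
    _root_.PolLaw.actEnd M S' (Algebra.TensorProduct.map g (AlgHom.id A B) x) (g.toLinearMap.rTensor M z) =
      g.toLinearMap.rTensor M (_root_.PolLaw.actEnd M S x z) := by
  induction x using TensorProduct.induction_on with
  | zero => simp
  | tmul s b =>
    induction z using TensorProduct.induction_on with
    | zero => simp
    | tmul t m => simp
    | add a c ha hc => simp only [map_add, ha, hc]
  | add a c ha hc => simp only [map_add, LinearMap.add_apply, ha, hc]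

variable (A) in
/-- A basis of `S ⊗ M` made of pure tensors `1 ⊗ m`. -/
def IsBasisFam {d : ℕ} (m : Fin d → M) (S : Type u) [CommRing S] [Algebra A S] : Prop :=
  ∃ e : Module.Basis (Fin d) S (S ⊗[A] M), ∀ j, e j = (1 : S) ⊗ₜ[A] m j

theorem det_map {d : ℕ} {m : Fin d → M} (hS : IsBasisFam A m S) (hS' : IsBasisFam A m S') (g : S →ₐ[A] S')
    (x : S ⊗[A] B) :
    g (LinearMap.det (_root_.PolLaw.actEnd M S x)) =
      LinearMap.det (_root_.PolLaw.actEnd M S' (Algebra.TensorProduct.map g (AlgHom.id A B) x)) := by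
  classical
  obtain ⟨e, he⟩ := hS
  obtain ⟨e', he'⟩ := hS'
  have hg : ∀ j, g.toLinearMap.rTensor M (e j) = e' j := fun j => by simp [he, he']
  rw [← LinearMap.det_toMatrix e, ← LinearMap.det_toMatrix e', show g (Matrix.det _) = g.toRingHom (Matrix.det _) from rfl,
    RingHom.map_det]
  congr 1
  ext i j
  rw [RingHom.mapMatrix_apply, Matrix.map_apply, LinearMap.toMatrix_apply, LinearMap.toMatrix_apply, ← hg j,
    actEnd_map]
  conv_rhs => rw [← e.sum_repr (_root_.PolLaw.actEnd M S x (e j)), map_sum]
  simp only [rTensor_smul, hg, e'.repr_sum_self]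
  rfl

theorem isBasisFam_of_algHom {d : ℕ} {K : Type u} [Field K] [Algebra A K] {m : Fin d → M}
    (hK : IsBasisFam A m K) (ρ : K →ₐ[A] S) : IsBasisFam A m S := by
  obtain ⟨e, he⟩ := hK
  let alg : Algebra K S := ρ.toRingHom.toAlgebra
  have : IsScalarTower A K S := IsScalarTower.of_algebraMap_eq fun a => (ρ.commutes a).symm
  refine ⟨(e.baseChange S).map (TensorProduct.AlgebraTensorModule.cancelBaseChange A K S S M), fun j => ?_⟩
  rw [Module.Basis.map_apply, Module.Basis.baseChange_apply, he]
  simp

theorem exists_basisFam (K : Type u) [Field K] [Algebra A K] [Module.Finite A M] {d : ℕ}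
    (hd : Module.finrank K (K ⊗[A] M) = d) : ∃ m : Fin d → M, IsBasisFam A m K := by
  classical
  have hspan : Submodule.span K (Set.range fun m : M => (1 : K) ⊗ₜ[A] m) = ⊤ := by
    refine eq_top_iff.2 fun z hz => ?_
    clear hz
    induction z using TensorProduct.induction_on with
    | zero => exact zero_mem _
    | tmul c m =>
      rw [show c ⊗ₜ[A] m = c • ((1 : K) ⊗ₜ[A] m) by rw [TensorProduct.smul_tmul', smul_eq_mul, mul_one]]
      exact Submodule.smul_mem _ _ (Submodule.subset_span ⟨m, rfl⟩)
    | add a c ha hc => exact add_mem ha hc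
  obtain ⟨t, ht, htspan, hli⟩ := exists_linearIndependent K (Set.range fun m : M => (1 : K) ⊗ₜ[A] m)
  rw [hspan] at htspan
  let e₀ := Module.Basis.mk hli (by rw [Subtype.range_coe, htspan])
  have : Fintype t := FiniteDimensional.fintypeBasisIndex e₀
  have hcard : Fintype.card t = d := by rw [← hd, Module.finrank_eq_card_basis e₀]
  let σ : t ≃ Fin d := Fintype.equivFinOfCardEq hcard
  choose m hm using fun j => ht (σ.symm j).2
  exact ⟨m, e₀.reindex σ, fun j => by simp [e₀, hm]⟩

/-- The determinant is integral. -/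
theorem isIntegral_det [Module.Finite A M] {R L : Type u} [CommRing R] [Algebra A R] [Field L] [Algebra A L]
    [Algebra R L] [IsScalarTower A R L] {d : ℕ} {m : Fin d → M} (hL : IsBasisFam A m L) (x : R ⊗[A] B) :
    IsIntegral R (LinearMap.det (_root_.PolLaw.actEnd M L
      (Algebra.TensorProduct.map (IsScalarTower.toAlgHom A R L) (AlgHom.id A B) x))) := by
  classical
  obtain ⟨k, g₀, hg₀⟩ := Module.Finite.exists_fin (R := A) (M := M)
  obtain ⟨e, he⟩ := hL
  let g : Fin k → L ⊗[A] M := fun l => (1 : L) ⊗ₜ[A] g₀ l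
  let Λ : Submodule R (L ⊗[A] M) := Submodule.span R (Set.range g)
  have hΛ : ∀ m₀ : M, (1 : L) ⊗ₜ[A] m₀ ∈ Λ := fun m₀ => by
    have : m₀ ∈ Submodule.span A (Set.range g₀) := hg₀ ▸ Submodule.mem_top
    induction this using Submodule.span_induction with
    | mem y hy => obtain ⟨l, rfl⟩ := hy; exact Submodule.subset_span ⟨l, rfl⟩
    | zero => simp
    | add a b _ _ ha hb => rw [TensorProduct.tmul_add]; exact add_mem ha hb
    | smul r a _ ha => rw [TensorProduct.tmul_smul]; exact Submodule.smul_of_tower_mem _ r ha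
  set E := _root_.PolLaw.actEnd M L (Algebra.TensorProduct.map (IsScalarTower.toAlgHom A R L) (AlgHom.id A B) x) with hE
  have hEΛ : ∀ l, E (g l) ∈ Λ := fun l => by
    rw [hE]
    clear hE E
    induction x using TensorProduct.induction_on with
    | zero => simp
    | tmul r b =>
      rw [Algebra.TensorProduct.map_tmul, _root_.PolLaw.actEnd_tmul_tmul, mul_one, AlgHom.id_apply,
        IsScalarTower.coe_toAlgHom',
        show algebraMap R L r ⊗ₜ[A] (b • g₀ l) = r • ((1 : L) ⊗ₜ[A] (b • g₀ l)) by
          rw [TensorProduct.smul_tmul', Algebra.smul_def, mul_one]]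
      exact Submodule.smul_mem _ r (hΛ _)
    | add a b ha hb => rw [map_add, map_add, LinearMap.add_apply]; exact add_mem ha hb
  let G : Submodule R L := Submodule.span R (Set.range fun c : Fin d → Fin k => e.det fun j => g (c j))
  have hG : ∀ v : Fin d → L ⊗[A] M, (∀ j, v j ∈ Λ) → e.det v ∈ G := fun v hv => by
    choose r hr using fun j => (Submodule.mem_span_range_iff_exists_fun R).1 (hv j)
    rw [show v = fun j => ∑ l, r j l • g l from funext fun j => (hr j).symm]
    show e.det.toMultilinearMap _ ∈ G
    simp only [← algebraMap_smul L (r _ _)]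
    rw [MultilinearMap.map_sum]
    refine sum_mem fun c _ => ?_
    rw [MultilinearMap.map_smul_univ, ← map_prod, algebraMap_smul]
    exact Submodule.smul_mem _ _ (Submodule.subset_span ⟨c, rfl⟩)
  have h1 : (1 : L) ∈ G := by
    rw [← e.det_self]
    exact hG _ fun j => he j ▸ hΛ _
  refine isIntegral_of_smul_mem_submodule G (fun h => one_ne_zero ((Submodule.eq_bot_iff _).1 h 1 h1))
    ⟨Finset.univ.image fun c : Fin d → Fin k => e.det fun j => g (c j), by simp [G]⟩ _ fun y hy => ?_
  induction hy using Submodule.span_induction with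
  | mem y hy =>
    obtain ⟨c, rfl⟩ := hy
    rw [smul_eq_mul, ← Module.Basis.det_comp]
    exact hG _ fun j => hEΛ _
  | zero => simp
  | add a b _ _ ha hb => rw [smul_add]; exact add_mem ha hb
  | smul r a _ ha => rw [smul_comm]; exact Submodule.smul_mem _ r ha

section Law

variable [IsDomain A] [IsIntegrallyClosed A] [Module.Finite A M] {d : ℕ}
  (hd : Module.finrank (FractionRing A) (FractionRing A ⊗[A] M) = d)

/-- The fraction field of a polynomial ring. -/
abbrev Lf (A : Type u) [CommRing A] (n : ℕ) : Type u := FractionRing (MvPolynomial (Fin n) A)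

variable (A) in
theorem inj_Lf (n : ℕ) : Function.Injective (algebraMap A (Lf A n)) := by
  rw [IsScalarTower.algebraMap_eq A (MvPolynomial (Fin n) A) (Lf A n)]
  rw [MvPolynomial.algebraMap_eq]
  exact (IsFractionRing.injective (MvPolynomial (Fin n) A) (Lf A n)).comp (MvPolynomial.C_injective _ _)

variable (A) in
/-- The constants. -/
noncomputable def ρK (n : ℕ) : FractionRing A →ₐ[A] Lf A n :=
  IsFractionRing.liftAlgHom (g := Algebra.ofId A (Lf A n)) (inj_Lf A n)

variable (A) in
/-- `K[t] → Frac A[t]`. -/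
noncomputable def polyToL (n : ℕ) : MvPolynomial (Fin n) (FractionRing A) →ₐ[A] Lf A n where
  toRingHom := MvPolynomial.eval₂Hom (ρK A n).toRingHom fun i => algebraMap (MvPolynomial (Fin n) A) _ (MvPolynomial.X i)
  commutes' a := by
    rw [IsScalarTower.algebraMap_apply A (FractionRing A) (MvPolynomial (Fin n) (FractionRing A)),
      MvPolynomial.algebraMap_eq]
    simp

variable (A) in
/-- `A[t] → K[t]`. -/
noncomputable def polyInK (n : ℕ) : MvPolynomial (Fin n) A →ₐ[A] MvPolynomial (Fin n) (FractionRing A) :=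
  MvPolynomial.mapAlgHom (Algebra.ofId A (FractionRing A))

theorem polyToL_comp (n : ℕ) :
    (polyToL A n).comp (polyInK A n) = IsScalarTower.toAlgHom A (MvPolynomial (Fin n) A) (Lf A n) :=
  MvPolynomial.algHom_ext fun i => by simp [polyToL, polyInK]

include hd

theorem exists_detVal (n : ℕ) (x : MvPolynomial (Fin n) A ⊗[A] B) :
    ∃ t : MvPolynomial (Fin n) A, algebraMap _ (Lf A n) t = LinearMap.det (_root_.PolLaw.actEnd M (Lf A n)
      (Algebra.TensorProduct.map (IsScalarTower.toAlgHom A (MvPolynomial (Fin n) A) (Lf A n)) (AlgHom.id A B) x)) := by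
  have := Excellent.GenericNormal.isIntegrallyClosed_mvPolynomial_fin (R := A) n
  obtain ⟨m, hm⟩ := exists_basisFam (FractionRing A) hd
  exact IsIntegrallyClosed.isIntegral_iff.1 (isIntegral_det (isBasisFam_of_algHom hm (ρK A n)) x)

/-- The value of the law on a polynomial ring. -/
noncomputable def detVal (n : ℕ) (x : MvPolynomial (Fin n) A ⊗[A] B) : MvPolynomial (Fin n) A :=
  (exists_detVal hd n x).choose

theorem detVal_spec (n : ℕ) (x : MvPolynomial (Fin n) A ⊗[A] B) :
    algebraMap _ (Lf A n) (detVal hd n x) = LinearMap.det (_root_.PolLaw.actEnd M (Lf A n)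
      (Algebra.TensorProduct.map (IsScalarTower.toAlgHom A (MvPolynomial (Fin n) A) (Lf A n)) (AlgHom.id A B) x)) :=
  (exists_detVal hd n x).choose_spec

theorem detVal_inK (n : ℕ) (x : MvPolynomial (Fin n) A ⊗[A] B) {m : Fin d → M} (hm : IsBasisFam A m (FractionRing A)) :
    polyInK A n (detVal hd n x) = LinearMap.det (M := MvPolynomial (Fin n) (FractionRing A) ⊗[A] M) (_root_.PolLaw.actEnd M (MvPolynomial (Fin n) (FractionRing A))
      (Algebra.TensorProduct.map (polyInK A n) (AlgHom.id A B) x)) := by
  have hP : IsBasisFam A m (MvPolynomial (Fin n) (FractionRing A)) :=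
    isBasisFam_of_algHom hm (IsScalarTower.toAlgHom A (FractionRing A) _)
  have hinj : Function.Injective (polyToL A n) := by
    refine (injective_iff_map_eq_zero _).2 fun p hp => ?_
    obtain ⟨⟨q, ⟨_, s, hs, rfl⟩⟩, h⟩ := IsLocalization.surj
      (M := (nonZeroDivisors A).map (MvPolynomial.C (σ := Fin n))) p
    have hq : q = 0 := by
      refine IsFractionRing.injective (MvPolynomial (Fin n) A) (Lf A n) ?_
      rw [map_zero, ← IsScalarTower.coe_toAlgHom' A, ← polyToL_comp, AlgHom.comp_apply,
        show polyInK A n q = algebraMap (MvPolynomial (Fin n) A) (MvPolynomial (Fin n) (FractionRing A)) q from rfl,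
        ← h, map_mul, hp, zero_mul]
    rw [hq, map_zero] at h
    refine (mul_eq_zero.1 h).resolve_right ?_
    show MvPolynomial.map (algebraMap A (FractionRing A)) (MvPolynomial.C s) ≠ 0
    rw [MvPolynomial.map_C, ne_eq, MvPolynomial.C_eq_zero]
    exact (map_ne_zero_iff _ (IsFractionRing.injective A (FractionRing A))).2 (nonZeroDivisors.ne_zero hs)
  apply hinj
  rw [det_map hP (isBasisFam_of_algHom hm (ρK A n)) (polyToL A n), ← AlgHom.comp_apply (polyToL A n), polyToL_comp,
    IsScalarTower.coe_toAlgHom', detVal_spec, ← AlgHom.comp_apply (Algebra.TensorProduct.map (polyToL A n) _),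
    ← Algebra.TensorProduct.map_comp, polyToL_comp, AlgHom.id_comp]

theorem map_detVal (n n' : ℕ) (φ : MvPolynomial (Fin n) A →ₐ[A] MvPolynomial (Fin n') A)
    (x : MvPolynomial (Fin n) A ⊗[A] B) :
    φ (detVal hd n x) = detVal hd n' (Algebra.TensorProduct.map φ (AlgHom.id A B) x) := by
  obtain ⟨m, hm⟩ := exists_basisFam (FractionRing A) hd
  let ψ : MvPolynomial (Fin n) (FractionRing A) →ₐ[A] MvPolynomial (Fin n') (FractionRing A) :=
    (MvPolynomial.aeval fun i => polyInK A n' (φ (MvPolynomial.X i))).restrictScalars A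
  have hψ : ψ.comp (polyInK A n) = (polyInK A n').comp φ :=
    MvPolynomial.algHom_ext fun i => by simp [ψ, polyInK]
  apply MvPolynomial.map_injective (algebraMap A (FractionRing A)) (IsFractionRing.injective A (FractionRing A))
  show polyInK A n' (φ (detVal hd n x)) = polyInK A n' (detVal hd n' _)
  rw [← AlgHom.comp_apply (polyInK A n'), ← hψ, AlgHom.comp_apply, detVal_inK hd n x hm, detVal_inK hd n' _ hm,
    det_map (isBasisFam_of_algHom hm (IsScalarTower.toAlgHom A (FractionRing A) _))
      (isBasisFam_of_algHom hm (IsScalarTower.toAlgHom A (FractionRing A) _)) ψ,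
    ← AlgHom.comp_apply (Algebra.TensorProduct.map ψ _), ← Algebra.TensorProduct.map_comp, hψ,
    ← AlgHom.comp_apply (Algebra.TensorProduct.map (polyInK A n') _), ← Algebra.TensorProduct.map_comp]

theorem existsUnique_law :
    ∃! N : _root_.PolLaw.MulLaw A B A d, ∀ (n : ℕ) (x : MvPolynomial (Fin n) A ⊗[A] B),
      algebraMap (MvPolynomial (Fin n) A) (Lf A n)
          (TensorProduct.rid A (MvPolynomial (Fin n) A) (N.law.toFun' (MvPolynomial (Fin n) A) x)) =
        LinearMap.det (_root_.PolLaw.actEnd M (Lf A n)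
          (Algebra.TensorProduct.map (IsScalarTower.toAlgHom A (MvPolynomial (Fin n) A) (Lf A n)) (AlgHom.id A B) x)) := by
  let T : ∀ n, MvPolynomial (Fin n) A ⊗[A] B → MvPolynomial (Fin n) A ⊗[A] A := fun n x =>
    detVal hd n x ⊗ₜ[A] (1 : A)
  have hinj : ∀ n, Function.Injective (algebraMap (MvPolynomial (Fin n) A) (Lf A n)) :=
    fun n => IsFractionRing.injective _ _
  obtain ⟨m, hm⟩ := exists_basisFam (FractionRing A) hd
  refine ⟨PolLaw.OfPoly.mulLaw T (fun n n' φ z => ?_) (fun n => ?_) (fun n x y => ?_) (fun n a x => ?_), ?_, ?_⟩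
  · simp only [T, LinearMap.rTensor_tmul, AlgHom.toLinearMap_apply, map_detVal hd n n' φ z,
      PolLaw.OfPoly.rTensor_eq_map]
  · have : detVal (B := B) hd n 1 = 1 := hinj n (by simp [detVal_spec])
    simp only [T, this]
    exact Algebra.TensorProduct.one_def.symm
  · have : detVal hd n (x * y) = detVal hd n x * detVal hd n y := hinj n (by simp [detVal_spec])
    simp only [T, this, Algebra.TensorProduct.tmul_mul_tmul, mul_one]
  · have : detVal hd n (a • x) = a ^ d * detVal hd n x := hinj n (by
      obtain ⟨e, -⟩ := isBasisFam_of_algHom hm (ρK A n)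
      rw [detVal_spec, map_mul, map_pow, detVal_spec, ← PolLaw.OfPoly.rTensor_eq_map,
        PolLaw.OfPoly.rTensor_smul_scalar, PolLaw.OfPoly.rTensor_eq_map, IsScalarTower.coe_toAlgHom',
        map_smul, LinearMap.det_smul, Module.finrank_eq_card_basis e, Fintype.card_fin])
    simp only [T, this, TensorProduct.smul_tmul', smul_eq_mul]
  · intro n x
    rw [PolLaw.OfPoly.mulLaw_apply, TensorProduct.rid_tmul, one_smul, detVal_spec]
  · intro N hN
    refine _root_.PolLaw.MulLaw.ext (PolLaw.Coeff.ext_poly fun n x => ?_)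
    rw [PolLaw.OfPoly.mulLaw_apply]
    apply (TensorProduct.rid A _).injective
    apply hinj n
    rw [hN, TensorProduct.rid_tmul, one_smul, detVal_spec]

end Law

end Groth.Agent.Lib.ZeroCyc99.GenericDet
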