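import Mathlib.RingTheory.GradedAlgebra.Basic
import Mathlib.RingTheory.Adjoin.Basic
import Mathlib.Algebra.MvPolynomial.Basic
import Mathlib.RingTheory.Adjoin.Polynomial.Basic
import Mathlib.Algebra.GCDMonoid.Finset
import Mathlib.Algebra.GCDMonoid.Nat
import Mathlib.RingTheory.MvPolynomial.Basic

/-!
# Graded algebras generated by homogeneous elements
-/

universe u

namespace Groth.Agent.Lib.ZeroCyc99.Monomial

variable {R A : Type u} [CommRing R] [CommRing A] [Algebra R A] (𝒜 : ℕ → Submodule R A) [GradedAlgebra 𝒜]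
  {s : ℕ} (f : Fin s → A) (deg : Fin s → ℕ)

theorem mono_mem (hf : ∀ i, f i ∈ 𝒜 (deg i)) (e : Fin s → ℕ) : ∏ i, f i ^ e i ∈ 𝒜 (∑ i, e i * deg i) := by
  refine SetLike.prod_mem_graded 𝒜 (fun i => e i * deg i) _ fun i _ => ?_
  simpa [smul_eq_mul] using SetLike.pow_mem_graded (e i) (hf i)

theorem le_span (hf : ∀ i, f i ∈ 𝒜 (deg i)) (hgen : Algebra.adjoin R (Set.range f) = ⊤) (N : ℕ) :
    𝒜 N ≤ Submodule.span R {x | ∃ e : Fin s → ℕ, ∑ i, e i * deg i = N ∧ x = ∏ i, f i ^ e i} := by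
  classical
  intro x hx
  have hmem : x ∈ (MvPolynomial.aeval (R := R) f).range := by
    rw [← Algebra.adjoin_range_eq_range_aeval, hgen]
    trivial
  obtain ⟨P, rfl⟩ := hmem
  rw [← DirectSum.decompose_of_mem_same 𝒜 hx, ← GradedAlgebra.proj_apply]
  generalize hQ : P = Q
  clear hx hQ
  induction Q using MvPolynomial.induction_on' with
  | monomial e c =>
    have h : (MvPolynomial.aeval (R := R) f).toRingHom (MvPolynomial.monomial e c) = c • ∏ i, f i ^ e i := by
      simp [MvPolynomial.aeval_monomial, Algebra.smul_def, Finsupp.prod_fintype]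
    change GradedAlgebra.proj 𝒜 N ((MvPolynomial.aeval (R := R) f).toRingHom (MvPolynomial.monomial e c)) ∈ _
    rw [h, map_smul, GradedAlgebra.proj_apply]
    refine Submodule.smul_mem _ c ?_
    by_cases hN : ∑ i, e i * deg i = N
    · rw [DirectSum.decompose_of_mem_same 𝒜 (hN ▸ mono_mem 𝒜 f deg hf _)]
      exact Submodule.subset_span ⟨_, hN, rfl⟩
    · rw [DirectSum.decompose_of_mem_ne 𝒜 (mono_mem 𝒜 f deg hf _) hN]
      exact zero_mem _
  | add p q hp hq => rw [map_add, map_add]; exact add_mem hp hq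

theorem zero_le_one (hdeg : ∀ i, 0 < deg i) (hf : ∀ i, f i ∈ 𝒜 (deg i))
    (hgen : Algebra.adjoin R (Set.range f) = ⊤) : 𝒜 0 ≤ 1 := by
  refine (le_span 𝒜 f deg hf hgen 0).trans (Submodule.span_le.mpr ?_)
  rintro _ ⟨e, he, rfl⟩
  have h0 : ∀ i, e i = 0 := fun i => by
    have := (Finset.sum_eq_zero_iff.mp he) i (Finset.mem_univ i)
    exact (Nat.mul_eq_zero.mp this).resolve_right (hdeg i).ne'
  simp [h0, Submodule.one_le.mp le_rfl]

theorem mul_le (m n : ℕ) : 𝒜 m * 𝒜 n ≤ 𝒜 (m + n) :=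
  Submodule.mul_le.mpr fun _ ha _ hb => SetLike.mul_mem_graded ha hb

theorem add_lcm_eq (hdeg : ∀ i, 0 < deg i) (hf : ∀ i, f i ∈ 𝒜 (deg i))
    (hgen : Algebra.adjoin R (Set.range f) = ⊤) (n : ℕ) (hn : (s - 1) * (Finset.univ.lcm deg - 1) ≤ n) :
    𝒜 (n + Finset.univ.lcm deg) = 𝒜 n * 𝒜 (Finset.univ.lcm deg) := by
  classical
  refine le_antisymm ?_ (mul_le 𝒜 n _)
  refine (le_span 𝒜 f deg hf hgen _).trans (Submodule.span_le.mpr ?_)
  rintro _ ⟨e, he, rfl⟩
  set l := Finset.univ.lcm deg with hl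
  have hdvd : ∀ i, deg i ∣ l := fun i => Finset.dvd_lcm (Finset.mem_univ i)
  have hlpos : 0 < l := Nat.pos_of_ne_zero fun h0 => by
    rw [hl, Finset.lcm_eq_zero_iff] at h0
    obtain ⟨i, -, hi⟩ := h0
    exact (hdeg i).ne' hi
  obtain ⟨j, hj⟩ : ∃ j, l / deg j ≤ e j := by
    by_contra hcon
    simp only [not_exists, not_le] at hcon
    have hb : ∀ i, e i * deg i ≤ l - 1 := fun i => by
      have h1 : (e i + 1) * deg i ≤ l / deg i * deg i := Nat.mul_le_mul_right _ (hcon i)
      rw [Nat.div_mul_cancel (hdvd i), add_mul, one_mul] at h1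
      have := hdeg i
      omega
    have h2 : ∑ i, e i * deg i ≤ s * (l - 1) := by
      refine (Finset.sum_le_sum fun i _ => hb i).trans ?_
      simp
    rcases Nat.eq_zero_or_pos s with hs | hs
    · have hs' : s * (l - 1) = 0 := by simp [hs]
      omega
    · obtain ⟨s', rfl⟩ : ∃ s', s = s' + 1 := ⟨s - 1, by omega⟩
      rw [Nat.add_sub_cancel] at hn
      rw [add_mul, one_mul] at h2
      omega
  let e' : Fin s → ℕ := Function.update e j (e j - l / deg j)
  have hsplit : ∏ i, f i ^ e i = (∏ i, f i ^ e' i) * f j ^ (l / deg j) := by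
    rw [← Finset.mul_prod_erase _ _ (Finset.mem_univ j), ← Finset.mul_prod_erase _ (fun i => f i ^ e' i) (Finset.mem_univ j),
      Finset.prod_congr rfl (fun i hi => show f i ^ e' i = f i ^ e i by
        rw [show e' i = e i from Function.update_of_ne (Finset.ne_of_mem_erase hi) _ _]),
      show e' j = e j - l / deg j from Function.update_self _ _ _, mul_right_comm, ← pow_add, Nat.sub_add_cancel hj]
  have hsum : ∑ i, e' i * deg i + l = ∑ i, e i * deg i := by
    rw [← Finset.add_sum_erase _ _ (Finset.mem_univ j), ← Finset.add_sum_erase _ (fun i => e i * deg i) (Finset.mem_univ j),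
      Finset.sum_congr rfl (fun i hi => show e' i * deg i = e i * deg i by
        rw [show e' i = e i from Function.update_of_ne (Finset.ne_of_mem_erase hi) _ _]),
      show e' j = e j - l / deg j from Function.update_self _ _ _]
    have h3 : (e j - l / deg j) * deg j + l = e j * deg j := by
      conv_lhs => arg 2; rw [← Nat.div_mul_cancel (hdvd j)]
      rw [← add_mul, Nat.sub_add_cancel hj]
    omega
  have hdj : f j ^ (l / deg j) ∈ 𝒜 l := by
    have := SetLike.pow_mem_graded (l / deg j) (hf j)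
    rwa [smul_eq_mul, Nat.div_mul_cancel (hdvd j)] at this
  rw [SetLike.mem_coe, hsplit]
  refine Submodule.mul_mem_mul ?_ hdj
  have hn' : ∑ i, e' i * deg i = n := by omega
  exact hn' ▸ mono_mem 𝒜 f deg hf e'

theorem mul_eq_pow (hdeg : ∀ i, 0 < deg i) (hf : ∀ i, f i ∈ 𝒜 (deg i))
    (hgen : Algebra.adjoin R (Set.range f) = ⊤) (a : ℕ) (ha : s - 1 ≤ a) (k : ℕ) :
    𝒜 (k * (a * Finset.univ.lcm deg)) = 𝒜 (a * Finset.univ.lcm deg) ^ k := by
  set l := Finset.univ.lcm deg with hl
  have hjl : ∀ (m : ℕ), (s - 1) * (l - 1) ≤ m → ∀ j, 𝒜 (m + j * l) = 𝒜 m * 𝒜 l ^ j := by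
    intro m hm j
    induction j with
    | zero => simp
    | succ j ih =>
      rw [show m + (j + 1) * l = m + j * l + l by ring, add_lcm_eq 𝒜 f deg hdeg hf hgen _ (hm.trans (Nat.le_add_right _ _)), ih, pow_succ,
        mul_assoc]
  have hpl : ∀ j, 𝒜 l ^ j ≤ 𝒜 (j * l) := by
    intro j
    induction j with
    | zero => rw [pow_zero, zero_mul]; exact Submodule.one_le.mpr (SetLike.one_mem_graded 𝒜)
    | succ j ih =>
      rw [pow_succ, show (j + 1) * l = j * l + l by ring]
      exact (mul_le_mul' ih le_rfl).trans (mul_le 𝒜 _ _)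
  induction k with
  | zero =>
    rw [zero_mul, pow_zero]
    exact le_antisymm (zero_le_one 𝒜 f deg hdeg hf hgen) (Submodule.one_le.mpr (SetLike.one_mem_graded 𝒜))
  | succ k ih =>
    refine le_antisymm ?_ ?_
    · rcases Nat.eq_zero_or_pos k with hk | hk
      · subst hk; simp
      · have hb : (s - 1) * (l - 1) ≤ k * (a * l) :=
          (Nat.mul_le_mul ha (Nat.sub_le l 1)).trans (Nat.le_mul_of_pos_left _ hk)
        rw [show (k + 1) * (a * l) = k * (a * l) + a * l by ring, hjl _ hb a, pow_succ, ih]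
        exact mul_le_mul' le_rfl (hpl a)
    · rw [pow_succ, ← ih, show (k + 1) * (a * l) = k * (a * l) + a * l by ring]
      exact mul_le 𝒜 _ _

end Groth.Agent.Lib.ZeroCyc99.Monomial
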