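import Groth.Prelude.Def_W4c5normfunctorschNorm
import Groth.Agent.Lib.ZeroCyc99.GenericDet
import Mathlib.RingTheory.IsTensorProduct
import Mathlib.RingTheory.Norm.Basic

/-!
# Base change of universal normic pairs
-/

universe u

open scoped TensorProduct

namespace Groth.Agent.Lib.ZeroCyc99.NormicBC

variable {R Q : Type u} [CommRing R] [CommRing Q] [Algebra R Q]
  {X : Type u} [AddCommGroup X] [Module R X]
  {Y : Type u} [AddCommGroup Y] [Module R Y] [Module Q Y] [IsScalarTower R Q Y]

section

variable (g : X →ₗ[R] Y) (P : Type u) [CommSemiring P] [Algebra R P] [Algebra Q P] [IsScalarTower R Q P]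

/-- `p ⊗ x ↦ p ⊗ g x`. -/
noncomputable def bc : P ⊗[R] X →ₗ[P] P ⊗[Q] Y :=
  TensorProduct.AlgebraTensorModule.lift
    { toFun := fun p =>
        { toFun := fun x => p ⊗ₜ[Q] g x
          map_add' := fun x y => by rw [map_add, TensorProduct.tmul_add]
          map_smul' := fun r x => by rw [map_smul, TensorProduct.tmul_smul, RingHom.id_apply] }
      map_add' := fun p q => LinearMap.ext fun x => TensorProduct.add_tmul p q (g x)
      map_smul' := fun r p => LinearMap.ext fun x => (TensorProduct.smul_tmul' r p (g x)).symm }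

@[simp] theorem bc_tmul (p : P) (x : X) : bc (Q := Q) g P (p ⊗ₜ[R] x) = p ⊗ₜ[Q] g x := rfl

/-- Inverse of `bc` along a base change. -/
noncomputable def bcInv (hg : IsBaseChange Q g) : P ⊗[Q] Y →ₗ[P] P ⊗[R] X :=
  TensorProduct.AlgebraTensorModule.lift
    { toFun := fun p => p • hg.lift (TensorProduct.mk R P X 1)
      map_add' := fun p q => add_smul p q _
      map_smul' := fun r p => mul_smul r p _ }

theorem bc_bijective (hg : IsBaseChange Q g) : Function.Bijective (bc (Q := Q) g P) := by
  have h1 : ∀ z, bcInv (Q := Q) g P hg (bc (Q := Q) g P z) = z := fun z => by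
    induction z using TensorProduct.induction_on with
    | zero => simp
    | tmul p x =>
      simp [bcInv, hg.lift_eq, TensorProduct.smul_tmul']
    | add a b ha hb => simp only [map_add, ha, hb]
  refine Function.bijective_iff_has_inverse.2 ⟨bcInv (Q := Q) g P hg, h1, fun z => ?_⟩
  induction z using TensorProduct.induction_on with
  | zero => simp
  | tmul p y =>
    simp only [bcInv, TensorProduct.AlgebraTensorModule.lift_apply, TensorProduct.lift.tmul]
    induction y using hg.inductionOn with
    | zero => simp
    | tmul x => simp [hg.lift_eq, TensorProduct.smul_tmul']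
    | smul q y hy =>
      change bc (Q := Q) g P (p • hg.lift _ (q • y)) = _
      change bc (Q := Q) g P (p • hg.lift _ y) = _ at hy
      rw [map_smul, TensorProduct.tmul_smul, ← hy]
      simp only [map_smul]
      rw [← algebraMap_smul P q, ← algebraMap_smul P q]
      simp only [map_smul, smul_smul, mul_comm]
    | add y y' hy hy' =>
      change bc (Q := Q) g P (p • hg.lift _ (y + y')) = _
      change bc (Q := Q) g P (p • hg.lift _ y) = _ at hy
      change bc (Q := Q) g P (p • hg.lift _ y') = _ at hy'
      rw [map_add, smul_add, map_add, hy, hy', TensorProduct.tmul_add]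
  | add a b ha hb => simp only [map_add, ha, hb]

theorem bc_natural {P' : Type u} [CommSemiring P'] [Algebra R P'] [Algebra Q P'] [IsScalarTower R Q P']
    (φ : P →ₐ[Q] P') (z : P ⊗[R] X) :
    φ.toLinearMap.rTensor Y (bc (Q := Q) g P z) = bc (Q := Q) g P' ((φ.restrictScalars R).toLinearMap.rTensor X z) := by
  induction z using TensorProduct.induction_on with
  | zero => simp
  | tmul p x => simp
  | add a b ha hb => simp only [map_add, ha, hb]

end

theorem bc_eq_bcAlong (g : X →ₗ[R] Y) (P : Type u) [CommRing P] [Algebra R P] [Algebra Q P] [IsScalarTower R Q P]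
    (z : P ⊗[R] X) : _root_.PolLaw.bcAlong g P z = bc (Q := Q) g P z := by
  induction z using TensorProduct.induction_on with
  | zero => simp
  | tmul p x => simp [_root_.PolLaw.bcAlong]
  | add a b ha hb => simp only [map_add, ha, hb]

section Down

variable (S : Type u) [CommSemiring S] [Algebra R S]
variable (Y)

/-- `(Q ⊗ S) ⊗_Q Y → S ⊗_R Y`. -/
noncomputable def down : (Q ⊗[R] S) ⊗[Q] Y →ₗ[R] S ⊗[R] Y :=
  (TensorProduct.comm R Y S).toLinearMap ∘ₗ
    (((TensorProduct.comm Q (Q ⊗[R] S) Y).trans
      (TensorProduct.AlgebraTensorModule.cancelBaseChange R Q Q Y S)).toLinearMap.restrictScalars R)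

@[simp] theorem down_tmul (q : Q) (s : S) (y : Y) : down Y S ((q ⊗ₜ[R] s) ⊗ₜ[Q] y) = s ⊗ₜ[R] (q • y) := by
  simp [down]

theorem down_smul (s : S) (w : (Q ⊗[R] S) ⊗[Q] Y) :
    down Y S (((1 : Q) ⊗ₜ[R] s) • w) = s • down Y S w := by
  induction w using TensorProduct.induction_on with
  | zero => simp
  | tmul t y =>
    induction t using TensorProduct.induction_on with
    | zero => simp
    | tmul q t => simp [TensorProduct.smul_tmul']
    | add a b ha hb =>
      rw [TensorProduct.add_tmul, smul_add, map_add, map_add, smul_add, ha, hb]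
  | add a b ha hb => simp only [smul_add, map_add, ha, hb]

theorem down_natural {S' : Type u} [CommSemiring S'] [Algebra R S'] (φ : S →ₐ[R] S') (w : (Q ⊗[R] S) ⊗[Q] Y) :
    down Y S' ((Algebra.TensorProduct.map (AlgHom.id Q Q) φ).toLinearMap.rTensor Y w) =
      φ.toLinearMap.rTensor Y (down Y S w) := by
  induction w using TensorProduct.induction_on with
  | zero => simp
  | tmul t y =>
    induction t using TensorProduct.induction_on with
    | zero => simp
    | tmul q t => simp
    | add a b ha hb => simp only [TensorProduct.add_tmul, map_add, ha, hb]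
  | add a b ha hb => simp only [map_add, ha, hb]

theorem down_lTensor {Z : Type u} [AddCommGroup Z] [Module R Z] [Module Q Z] [IsScalarTower R Q Z] (v : Y →ₗ[Q] Z)
    (w : (Q ⊗[R] S) ⊗[Q] Y) :
    down Z S (v.lTensor _ w) = (v.restrictScalars R).lTensor S (down Y S w) := by
  induction w using TensorProduct.induction_on with
  | zero => simp
  | tmul t y =>
    induction t using TensorProduct.induction_on with
    | zero => simp
    | tmul q t => simp
    | add a b ha hb => simp only [TensorProduct.add_tmul, map_add, ha, hb]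
  | add a b ha hb => simp only [map_add, ha, hb]

variable {Y}

/-- `S → Q ⊗ S`. -/
noncomputable abbrev incl : S →ₐ[R] Q ⊗[R] S := Algebra.TensorProduct.includeRight

theorem down_bc_incl (g : X →ₗ[R] Y) (z : S ⊗[R] X) :
    down Y S (bc (Q := Q) g (Q ⊗[R] S) ((incl (Q := Q) S).toLinearMap.rTensor X z)) = g.lTensor S z := by
  induction z using TensorProduct.induction_on with
  | zero => simp
  | tmul s x => simp
  | add a b ha hb => simp only [map_add, ha, hb]

end Down

section Norm

variable {R' : Type u} [CommRing R'] [Algebra R R'] [Module.Free R R'] [Module.Finite R R']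

theorem norm_map {P P' : Type u} [CommRing P] [Algebra R P] [CommRing P'] [Algebra R P'] (g : P →ₐ[R] P')
    (x : P ⊗[R] R') :
    g (Algebra.norm P x) = Algebra.norm P' (Algebra.TensorProduct.map g (AlgHom.id R R') x) := by
  classical
  let e := Module.Free.chooseBasis R R'
  let σ := Fintype.equivFin (Module.Free.ChooseBasisIndex R R')
  have hb : ∀ (S : Type u) [CommRing S] [Algebra R S],
      GenericDet.IsBasisFam R (fun j => e (σ.symm j)) S := fun S _ _ =>
    ⟨(e.baseChange S).reindex σ, fun j => by simp⟩
  have hact : ∀ (S : Type u) [CommRing S] [Algebra R S] (y : S ⊗[R] R'),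
      _root_.PolLaw.actEnd R' S y = Algebra.lmul S (S ⊗[R] R') y := by
    intro S _ _ y
    refine LinearMap.ext fun z => ?_
    induction y using TensorProduct.induction_on with
    | zero => simp
    | tmul s b =>
      induction z using TensorProduct.induction_on with
      | zero => simp
      | tmul t c => simp
      | add a c ha hc => simp only [map_add, ha, hc]
    | add a c ha hc => simp only [map_add, LinearMap.add_apply, ha, hc]
  rw [Algebra.norm_apply, Algebra.norm_apply, ← hact, ← hact]
  exact GenericDet.det_map (hb P) (hb P') g x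

variable {Q' : Type u} [CommRing Q'] [Algebra R Q'] [Algebra Q Q'] [Algebra R' Q'] [IsScalarTower R Q Q']
  [IsScalarTower R R' Q'] [Algebra.IsPushout R R' Q Q'] (P : Type u) [CommRing P] [Algebra R P] [Algebra Q P]
  [IsScalarTower R Q P]

theorem isBaseChange_alg : IsBaseChange Q (IsScalarTower.toAlgHom R R' Q').toLinearMap :=
  (Algebra.IsPushout.symm (inferInstance : Algebra.IsPushout R R' Q Q')).out

/-- `P ⊗_R R' ≅ P ⊗_Q Q'`. -/
noncomputable def bcA : P ⊗[R] R' ≃ₐ[P] P ⊗[Q] Q' :=
  AlgEquiv.ofBijective
    (AlgHom.ofLinearMap (bc (IsScalarTower.toAlgHom R R' Q').toLinearMap P)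
      (by rw [Algebra.TensorProduct.one_def, bc_tmul, AlgHom.toLinearMap_apply, map_one]; rfl)
      (fun x y => by
        induction x using TensorProduct.induction_on with
        | zero => simp
        | tmul s b =>
          induction y using TensorProduct.induction_on with
          | zero => simp
          | tmul t c => simp
          | add a c ha hc => simp only [mul_add, map_add, ha, hc]
        | add a c ha hc => simp only [add_mul, map_add, ha, hc]))
    (bc_bijective _ P isBaseChange_alg)

@[simp] theorem bcA_tmul (p : P) (b : R') : bcA (Q := Q) (Q' := Q') P (p ⊗ₜ[R] b) = p ⊗ₜ[Q] algebraMap R' Q' b := rfl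

variable {M' : Type u} [AddCommGroup M'] [Module R M'] [Module R' M'] [IsScalarTower R R' M']
  {M'' : Type u} [AddCommGroup M''] [Module R M''] [Module R' M''] [Module Q M''] [Module Q' M'']
  [IsScalarTower R R' M''] [IsScalarTower R Q M''] [IsScalarTower R' Q' M''] [IsScalarTower Q Q' M'']
  (f : M' →ₗ[R'] M'')

theorem bc_act (x : P ⊗[R] R') (m : P ⊗[R] M') :
    bc (Q := Q) (f.restrictScalars R) P (_root_.PolLaw.actEnd M' P x m) =
      _root_.PolLaw.actEnd M'' P (bcA (Q := Q) (Q' := Q') P x) (bc (Q := Q) (f.restrictScalars R) P m) := by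
  induction x using TensorProduct.induction_on with
  | zero => simp
  | tmul s b =>
    induction m using TensorProduct.induction_on with
    | zero => simp
    | tmul t c => simp [algebraMap_smul]
    | add a c ha hc => simp only [map_add, ha, hc]
  | add a c ha hc => simp only [map_add, LinearMap.add_apply, ha, hc]

end Norm

section Main

variable {R' Q' : Type u} [CommRing R'] [Algebra R R']
  [CommRing Q'] [Algebra R Q'] [Algebra Q Q'] [Algebra R' Q']
  [IsScalarTower R Q Q'] [IsScalarTower R R' Q'] [Algebra.IsPushout R R' Q Q']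
  [Module.Free R R'] [Module.Finite R R']
  {M' : Type u} [AddCommGroup M'] [Module R M'] [Module R' M'] [IsScalarTower R R' M']
  {M'' : Type u} [AddCommGroup M''] [Module R M''] [Module R' M''] [Module Q M''] [Module Q' M'']
  [IsScalarTower R R' M''] [IsScalarTower R Q M''] [IsScalarTower R' Q' M''] [IsScalarTower Q Q' M'']

theorem isBaseChange_restrict {f : M' →ₗ[R'] M''} (hf : IsBaseChange Q' f) :
    IsBaseChange Q (f.restrictScalars R) := by
  have := Algebra.IsPushout.symm (inferInstance : Algebra.IsPushout R R' Q Q')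
  refine IsBaseChange.of_equiv ((Algebra.IsPushout.cancelBaseChange R Q R' Q' M').symm ≪≫ₗ
    (hf.equiv.restrictScalars Q)) fun x => ?_
  simp [IsBaseChange.equiv_tmul]

variable (f : M' →ₗ[R'] M'') {N'' : Type u} [AddCommGroup N''] [Module R N''] [Module Q N''] [IsScalarTower R Q N'']
  (ν'' : M'' →ₚₗ[Q] N'')

/-- The restriction of scalars of a law. -/
noncomputable def res : M' →ₚₗ[R] N'' where
  toFun' S _ _ z :=
    down N'' S (ν''.toFun' (Q ⊗[R] S) (bc (Q := Q) (f.restrictScalars R) (Q ⊗[R] S) ((incl (Q := Q) S).toLinearMap.rTensor M' z)))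
  isCompat' {S} _ _ {S'} _ _ φ := by
    funext z
    simp only [Function.comp_apply]
    rw [← down_natural, ν''.isCompat_apply', bc_natural, ← LinearMap.rTensor_comp_apply, ← LinearMap.rTensor_comp_apply,
      ← AlgHom.comp_toLinearMap, ← AlgHom.comp_toLinearMap]
    congr 5

theorem isNormic_res (h : _root_.PolLaw.IsNormic Q' ν'') : _root_.PolLaw.IsNormic R' (res (R := R) f ν'') := by
  intro S _ _ x m
  show down N'' S _ = _ • down N'' S _
  rw [← GenericDet.actEnd_map (incl (Q := Q) S) x m, bc_act (Q := Q) (Q' := Q'), h,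
    Algebra.norm_eq_of_algEquiv (bcA (Q := Q) (Q' := Q') (Q ⊗[R] S)), ← norm_map, ← down_smul]
  rfl

variable {N : Type u} [AddCommGroup N] [Module R N] (ν : M' →ₚₗ[R] N) {f} (hf : IsBaseChange Q (f.restrictScalars R))

/-- The algebra structure through `Q`. -/
@[reducible] noncomputable def algR (P : Type u) [CommSemiring P] [Algebra Q P] : Algebra R P :=
  ((algebraMap Q P).comp (algebraMap R Q)).toAlgebra

theorem towerR (P : Type u) [CommSemiring P] [Algebra Q P] :
    letI := algR (R := R) (Q := Q) P
    IsScalarTower R Q P :=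
  letI := algR (R := R) (Q := Q) P
  IsScalarTower.of_algebraMap_eq' rfl

/-- The extension of scalars of a law. -/
noncomputable def ext : M'' →ₚₗ[Q] (Q ⊗[R] N) where
  toFun' P _ _ y :=
    letI := algR (R := R) (Q := Q) P
    haveI := towerR (R := R) (Q := Q) P
    bc (Q := Q) (TensorProduct.mk R Q N 1) P (ν.toFun' P (Function.surjInv (bc_bijective (Q := Q) (f.restrictScalars R) P hf).2 y))
  isCompat' {P} _ _ {P'} _ _ φ := by
    let := algR (R := R) (Q := Q) P
    have := towerR (R := R) (Q := Q) P
    let := algR (R := R) (Q := Q) P'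
    have := towerR (R := R) (Q := Q) P'
    funext y
    simp only [Function.comp_apply]
    rw [bc_natural, ν.isCompat_apply']
    congr 2
    apply (bc_bijective (Q := Q) (f.restrictScalars R) P' hf).1
    rw [← bc_natural, Function.surjInv_eq (bc_bijective (Q := Q) (f.restrictScalars R) P hf).2,
      Function.surjInv_eq (bc_bijective (Q := Q) (f.restrictScalars R) P' hf).2]

theorem ext_bc (P : Type u) [CommSemiring P] [inst : Algebra R P] [Algebra Q P] [IsScalarTower R Q P]
    (z : P ⊗[R] M') :
    (ext ν hf).toFun' P (bc (Q := Q) (f.restrictScalars R) P z) = bc (Q := Q) (TensorProduct.mk R Q N 1) P (ν.toFun' P z) := by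
  obtain rfl : inst = algR (R := R) (Q := Q) P := Algebra.algebra_ext _ _ fun r =>
    (IsScalarTower.algebraMap_apply R Q P r).trans rfl
  letI := algR (R := R) (Q := Q) P
  refine congrArg (fun w => bc _ P (ν.toFun' P w)) ?_
  exact (bc_bijective (Q := Q) (f.restrictScalars R) P hf).1 (Function.surjInv_eq (bc_bijective (Q := Q) (f.restrictScalars R) P hf).2 _)

theorem isNormic_ext (h : _root_.PolLaw.IsNormic R' ν) : _root_.PolLaw.IsNormic Q' (ext ν hf) := by
  intro P _ _ x m
  let := algR (R := R) (Q := Q) P
  have := towerR (R := R) (Q := Q) P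
  obtain ⟨x, rfl⟩ := (bcA (R := R) (R' := R') (Q := Q) (Q' := Q') P).surjective x
  obtain ⟨m, rfl⟩ := (bc_bijective (Q := Q) (f.restrictScalars R) P hf).2 m
  rw [← bc_act (Q := Q) (Q' := Q'), ext_bc, ext_bc, h, map_smul, Algebra.norm_eq_of_algEquiv]

theorem exists_isBaseChange (hν : _root_.PolLaw.IsUnivNormic R' ν) (hν'' : _root_.PolLaw.IsUnivNormic Q' ν'')
    (hf : IsBaseChange Q (f.restrictScalars R)) :
    ∃ u : N →ₗ[R] N'',
      (∀ (P : Type u) [CommRing P] [Algebra R P] [Algebra Q P] [IsScalarTower R Q P] (m : P ⊗[R] M'),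
          ν''.toFun' P (_root_.PolLaw.bcAlong (f.restrictScalars R) P m) =
            _root_.PolLaw.bcAlong u P (ν.toFun' P m)) ∧
      IsBaseChange Q u := by
  obtain ⟨u, hu, -⟩ := hν.2 N'' (res f ν'') (isNormic_res f ν'' hν''.1)
  have prop : ∀ (P : Type u) [CommSemiring P] [Algebra R P] [Algebra Q P] [IsScalarTower R Q P] (m : P ⊗[R] M'),
      ν''.toFun' P (bc (Q := Q) (f.restrictScalars R) P m) = bc (Q := Q) u P (ν.toFun' P m) := by
    intro P _ _ _ _ m
    let π : Q ⊗[R] P →ₐ[Q] P :=
      Algebra.TensorProduct.lift (Algebra.ofId Q P) (AlgHom.id R P) fun _ _ => Commute.all _ _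
    have hπ : (π.restrictScalars R).comp (incl (Q := Q) P) = AlgHom.id R P := AlgHom.ext fun p => by simp [π]
    have h1 : ∀ (w : (Q ⊗[R] P) ⊗[Q] N''),
        π.toLinearMap.rTensor N'' w = bc (Q := Q) (LinearMap.id : N'' →ₗ[R] N'') P (down N'' P w) := by
      intro w
      induction w using TensorProduct.induction_on with
      | zero => simp
      | tmul t y =>
        induction t using TensorProduct.induction_on with
        | zero => simp
        | tmul q p =>
          simp [π, TensorProduct.smul_tmul', Algebra.smul_def]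
        | add a b ha hb => simp only [TensorProduct.add_tmul, map_add, ha, hb]
      | add a b ha hb => simp only [map_add, ha, hb]
    have h2 := congrArg (fun F : M' →ₚₗ[R] N'' => bc (Q := Q) (LinearMap.id : N'' →ₗ[R] N'') P (F.toFun' P m)) hu
    have h3 : bc (Q := Q) (LinearMap.id : N'' →ₗ[R] N'') P (u.lTensor P (ν.toFun' P m)) = bc (Q := Q) u P (ν.toFun' P m) := by
      induction ν.toFun' P m using TensorProduct.induction_on with
      | zero => simp
      | tmul p x => simp
      | add a b ha hb => simp only [map_add, ha, hb]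
    refine Eq.trans ?_ ((h3.symm.trans h2).symm)
    show _ = bc (Q := Q) (LinearMap.id : N'' →ₗ[R] N'') P (down N'' P _)
    rw [← h1, ν''.isCompat_apply', bc_natural, ← LinearMap.rTensor_comp_apply, ← AlgHom.comp_toLinearMap, hπ]
    simp
  refine ⟨u, fun P _ _ _ _ m => ?_, ?_⟩
  · rw [bc_eq_bcAlong, bc_eq_bcAlong, prop]
  obtain ⟨v, hv, -⟩ := hν''.2 _ (ext ν hf) (isNormic_ext ν hf hν.1)
  let U : Q ⊗[R] N →ₗ[Q] N'' := u.liftBaseChange Q
  have hUv : U ∘ₗ v = LinearMap.id := by
    obtain ⟨φ, -, huniq⟩ := hν''.2 N'' ν'' hν''.1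
    rw [huniq (U ∘ₗ v) ?_, huniq LinearMap.id ?_]
    · refine PolynomialLaw.ext (funext fun P => funext fun _ => funext fun _ => funext fun y => ?_)
      show (LinearMap.id : N'' →ₗ[Q] N'').lTensor P _ = _
      rw [LinearMap.lTensor_id, LinearMap.id_apply]
    · refine PolynomialLaw.ext (funext fun P => funext fun _ => funext fun _ => funext fun y => ?_)
      let := algR (R := R) (Q := Q) P
      have := towerR (R := R) (Q := Q) P
      obtain ⟨z, rfl⟩ := (bc_bijective (Q := Q) (f.restrictScalars R) P hf).2 y
      have h4 := congrArg (fun F : M'' →ₚₗ[Q] Q ⊗[R] N => U.lTensor P (F.toFun' P (bc (Q := Q) (f.restrictScalars R) P z))) hv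
      show (U ∘ₗ v).lTensor P _ = _
      rw [LinearMap.lTensor_comp_apply]
      refine h4.trans ?_
      rw [ext_bc, prop]
      induction ν.toFun' P z using TensorProduct.induction_on with
      | zero => simp
      | tmul p x => simp [U]
      | add a b ha hb => simp only [map_add, ha, hb]
  have hvu : (v.restrictScalars R) ∘ₗ u = TensorProduct.mk R Q N 1 := by
    have hn : _root_.PolLaw.IsNormic R' (_root_.PolLaw.postcomp (TensorProduct.mk R Q N 1) ν) := fun S _ _ x m => by
      show (TensorProduct.mk R Q N 1).lTensor S _ = _ • (TensorProduct.mk R Q N 1).lTensor S _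
      rw [hν.1]
      induction ν.toFun' S m using TensorProduct.induction_on with
      | zero => simp
      | tmul p x => simp [TensorProduct.smul_tmul']
      | add a b ha hb => simp only [smul_add, map_add, ha, hb]
    obtain ⟨φ, -, huniq⟩ := hν.2 _ _ hn
    rw [huniq ((v.restrictScalars R) ∘ₗ u) ?_, huniq (TensorProduct.mk R Q N 1) rfl]
    refine PolynomialLaw.ext (funext fun S => funext fun _ => funext fun _ => funext fun m => ?_)
    show ((v.restrictScalars R) ∘ₗ u).lTensor S _ = (TensorProduct.mk R Q N 1).lTensor S _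
    rw [LinearMap.lTensor_comp_apply]
    have h5 := congrArg (fun F : M' →ₚₗ[R] N'' => (v.restrictScalars R).lTensor S (F.toFun' S m)) hu
    refine h5.trans ?_
    show (v.restrictScalars R).lTensor S (down N'' S _) = _
    rw [← down_lTensor]
    have h6 := congrArg (fun F : M'' →ₚₗ[Q] Q ⊗[R] N =>
      down (Q ⊗[R] N) S (F.toFun' (Q ⊗[R] S) (bc (Q := Q) (f.restrictScalars R) (Q ⊗[R] S)
        ((incl (Q := Q) S).toLinearMap.rTensor M' m)))) hv
    refine h6.trans ?_
    rw [ext_bc, ← ν.isCompat_apply', down_bc_incl]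
  refine IsBaseChange.of_equiv (LinearEquiv.ofLinear U v hUv ?_) fun x => ?_
  · refine TensorProduct.AlgebraTensorModule.curry_injective (LinearMap.ext_ring (LinearMap.ext fun x => ?_))
    simpa [U] using LinearMap.congr_fun hvu x
  · simp [U]

end Main

end Groth.Agent.Lib.ZeroCyc99.NormicBC
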