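import Groth.Agent.Lib.SchQuot.Local
import Mathlib.AlgebraicGeometry.ProjectiveSpectrum.Functor
import Mathlib.Algebra.Polynomial.BigOperators

/-!
# The quotient of `Proj` by a finite group of graded automorphisms
-/

noncomputable section

universe u

open CategoryTheory AlgebraicGeometry TopologicalSpace Opposite HomogeneousLocalization

namespace Groth.Agent.Lib.ZeroCyc99.ProjQuot

variable {R A : Type u} [CommRing R] [CommRing A] [Algebra R A] {𝒜 : ℕ → Submodule R A} [GradedAlgebra 𝒜]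
  {C : Type u} [CommRing C] [Algebra R C] {𝒞 : ℕ → Submodule R C} [GradedAlgebra 𝒞]

section Chart

theorem basicOpenToSpec_eq {f : A} {n : ℕ} (hf : f ∈ 𝒜 n) (hn : 0 < n) :
    (Proj.basicOpen 𝒜 f).ι = Proj.basicOpenToSpec 𝒜 f ≫ Proj.awayι 𝒜 f hf hn := by
  rw [Proj.awayι, ← Proj.basicOpenIsoSpec_hom 𝒜 f hf hn, Iso.hom_inv_id_assoc]

variable {φ : Proj 𝒜 ⟶ Proj 𝒞} {b : A} {d : C} {m n : ℕ} (hb : b ∈ 𝒜 m) (hm : 0 < m) (hd : d ∈ 𝒞 n) (hn : 0 < n)
  {θ : CommRingCat.of (Away 𝒞 d) ⟶ CommRingCat.of (Away 𝒜 b)}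
  (h : Proj.awayι 𝒜 b hb hm ≫ φ = Spec.map θ ≫ Proj.awayι 𝒞 d hd hn)

include h in
theorem chart_le : Proj.basicOpen 𝒜 b ≤ φ ⁻¹ᵁ Proj.basicOpen 𝒞 d := by
  rintro x hx
  rw [← Proj.opensRange_awayι 𝒜 b hb hm] at hx
  obtain ⟨p, rfl⟩ := hx
  have e := congrArg (fun ψ : Spec (CommRingCat.of (Away 𝒜 b)) ⟶ Proj 𝒞 => ψ p) h
  show φ (Proj.awayι 𝒜 b hb hm p) ∈ Proj.basicOpen 𝒞 d
  rw [← Proj.opensRange_awayι 𝒞 d hd hn]
  exact ⟨Spec.map θ p, e.symm⟩

include h in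
theorem chart_appLE (le : Proj.basicOpen 𝒜 b ≤ φ ⁻¹ᵁ Proj.basicOpen 𝒞 d) (z : Away 𝒞 d) :
    φ.appLE (Proj.basicOpen 𝒞 d) (Proj.basicOpen 𝒜 b) le (Proj.awayToSection 𝒞 d z) =
      Proj.awayToSection 𝒜 b (θ z) := by
  let e := φ.resLE (Proj.basicOpen 𝒞 d) (Proj.basicOpen 𝒜 b) le
  have he : e ≫ Proj.basicOpenToSpec 𝒞 d = Proj.basicOpenToSpec 𝒜 b ≫ Spec.map θ := by
    rw [← cancel_mono (Proj.awayι 𝒞 d hd hn), Category.assoc, Category.assoc, ← h, ← basicOpenToSpec_eq hd hn,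
      Scheme.Hom.resLE_comp_ι, ← Category.assoc, ← basicOpenToSpec_eq hb hm]
  have h1 := congrArg Scheme.Hom.appTop he
  rw [Scheme.Hom.comp_appTop, Scheme.Hom.comp_appTop] at h1
  simp only [e, Scheme.Hom.appTop] at h1
  rw [Proj.basicOpenToSpec_app_top, Proj.basicOpenToSpec_app_top, Scheme.Hom.resLE_app_top] at h1
  simp only [Category.assoc, Iso.inv_hom_id_assoc] at h1
  erw [Scheme.ΓSpecIso_naturality_assoc, cancel_epi] at h1
  rw [← Category.assoc, ← Category.assoc, cancel_mono] at h1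
  exact congrArg (fun ψ : CommRingCat.of (Away 𝒞 d) ⟶ _ => ψ z) h1

end Chart

theorem awayToSection_injective {f : A} {n : ℕ} (hf : f ∈ 𝒜 n) (hn : 0 < n) :
    Function.Injective (Proj.awayToSection 𝒜 f) :=
  (ConcreteCategory.bijective_of_isIso (Proj.basicOpenIsoAway 𝒜 f hf hn).hom).1

theorem awayToSection_surjective {f : A} {n : ℕ} (hf : f ∈ 𝒜 n) (hn : 0 < n) :
    Function.Surjective (Proj.awayToSection 𝒜 f) :=
  (ConcreteCategory.bijective_of_isIso (Proj.basicOpenIsoAway 𝒜 f hf hn).hom).2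

variable {G : Type u} [Group G] [Finite G] [MulSemiringAction G A]

section Cover

variable (hGdeg : ∀ (σ : G) (i : ℕ) (a : A), a ∈ 𝒜 i → σ • a ∈ 𝒜 i)

include hGdeg in
/-- A degree-one element is integral over the invariants of positive degree. -/
theorem mem_of_invariants_mem (x : ProjectiveSpectrum 𝒜)
    (h : ∀ j, 0 < j → ∀ a ∈ 𝒜 j, (∀ σ : G, σ • a = a) → a ∈ x.asHomogeneousIdeal) {b : A} (hb : b ∈ 𝒜 1) :
    b ∈ x.asHomogeneousIdeal := by
  classical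
  cases nonempty_fintype G
  cases subsingleton_or_nontrivial A
  · rw [Subsingleton.elim b 0]; exact zero_mem _
  let P : Polynomial A := ∏ σ : G, (Polynomial.X - Polynomial.C (σ • b))
  have hdeg : ∀ (T : Finset G) (k d : ℕ), d + k = T.card →
      (∏ σ ∈ T, (Polynomial.X - Polynomial.C (σ • b))).coeff k ∈ 𝒜 d := by
    intro T
    induction T using Finset.induction_on with
    | empty =>
      intro k d hkd
      simp only [Finset.card_empty, add_eq_zero] at hkd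
      rw [hkd.1, hkd.2, Finset.prod_empty, Polynomial.coeff_one_zero]
      exact SetLike.GradedOne.one_mem
    | insert σ T hσ ih =>
      intro k d hkd
      rw [Finset.card_insert_of_notMem hσ] at hkd
      rw [Finset.prod_insert hσ, sub_mul, Polynomial.coeff_sub, Polynomial.coeff_C_mul]
      refine sub_mem ?_ ?_
      · cases k with
        | zero => simp
        | succ k => rw [Polynomial.coeff_X_mul]; exact ih k d (by omega)
      · cases d with
        | zero =>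
          rw [Polynomial.coeff_eq_zero_of_natDegree_lt (p := ∏ τ ∈ T, _), mul_zero]
          · exact zero_mem _
          · rw [Polynomial.natDegree_prod_of_monic _ _ fun τ _ => Polynomial.monic_X_sub_C _]
            simp; omega
        | succ d =>
          rw [add_comm d 1]
          exact SetLike.mul_mem_graded (hGdeg σ 1 b hb) (ih k d (by omega))
  have hinv : ∀ (σ : G) (k : ℕ), σ • P.coeff k = P.coeff k := fun σ k => by
    have : P.map (MulSemiringAction.toRingHom G A σ) = P := by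
      simp only [P, Polynomial.map_prod, Polynomial.map_sub, Polynomial.map_X, Polynomial.map_C,
        MulSemiringAction.toRingHom_apply, smul_smul]
      exact Fintype.prod_equiv (Equiv.mulLeft σ) _ _ fun τ => rfl
    conv_rhs => rw [← this]
    rw [Polynomial.coeff_map, MulSemiringAction.toRingHom_apply]
  have hroot : P.eval b = 0 := by
    rw [Polynomial.eval_prod]
    exact Finset.prod_eq_zero (Finset.mem_univ 1) (by simp)
  have hmonic : P.Monic := Polynomial.monic_prod_of_monic _ _ fun τ _ => Polynomial.monic_X_sub_C _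
  have hnd : P.natDegree = Fintype.card G := by
    simp [P, Polynomial.natDegree_prod_of_monic _ _ fun (τ : G) _ => Polynomial.monic_X_sub_C (τ • b)]
  rw [Polynomial.eval_eq_sum_range, Finset.sum_range_succ, Polynomial.coeff_natDegree, hmonic.leadingCoeff,
    one_mul, hnd] at hroot
  refine x.isPrime.mem_of_pow_mem (Fintype.card G) ?_
  rw [show b ^ Fintype.card G = -∑ k ∈ Finset.range (Fintype.card G), P.coeff k * b ^ k from
    eq_neg_of_add_eq_zero_right hroot]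
  refine neg_mem (Ideal.sum_mem _ fun k hk => Ideal.mul_mem_right _ _ ?_)
  have hk' := Finset.mem_range.1 hk
  exact h (Fintype.card G - k) (by omega) _ (hdeg Finset.univ k _ (by simp; omega)) fun σ => hinv σ k

variable (hgen : Algebra.adjoin R (𝒜 1 : Set A) = ⊤)

include hgen in
theorem exists_degOne (x : ProjectiveSpectrum 𝒜) : ∃ b ∈ 𝒜 1, b ∉ x.asHomogeneousIdeal := by
  have hcov := Proj.iSup_basicOpen_eq_top' 𝒜 (ι := 𝒜 1) (fun b => (b : A)) (fun b => ⟨1, b.2⟩) (by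
    refine top_le_iff.1 ?_
    rintro z -
    have hz : z ∈ Algebra.adjoin R (𝒜 1 : Set A) := by rw [hgen]; exact Algebra.mem_top
    induction hz using Algebra.adjoin_induction with
    | mem y hy => exact Algebra.subset_adjoin ⟨⟨y, hy⟩, rfl⟩
    | algebraMap r => exact Subalgebra.algebraMap_mem _ (⟨algebraMap R A r, SetLike.algebraMap_mem_graded 𝒜 r⟩ : 𝒜 0)
    | add a b _ _ ha hb => exact add_mem ha hb
    | mul a b _ _ ha hb => exact mul_mem ha hb)
  obtain ⟨b, hb⟩ := Opens.mem_iSup.1 (hcov.ge (Opens.mem_top (show (Proj 𝒜) from x)))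
  exact ⟨b, b.2, hb⟩

variable (ι : C →ₐ[R] A) (hιdeg : ∀ (i : ℕ) (a : A), a ∈ (𝒞 i).map ι.toLinearMap ↔ (a ∈ 𝒜 i ∧ ∀ σ : G, σ • a = a))

include hGdeg hgen hιdeg in
theorem exists_chart (x : ProjectiveSpectrum 𝒜) :
    ∃ (m : ℕ) (c : C), 0 < m ∧ c ∈ 𝒞 m ∧ ι c ∉ x.asHomogeneousIdeal := by
  by_contra hcon
  push Not at hcon
  obtain ⟨b, hb, hbx⟩ := exists_degOne hgen x
  refine hbx (mem_of_invariants_mem hGdeg x (fun j hj a ha hfix => ?_) hb)
  obtain ⟨c, hc, rfl⟩ := Submodule.mem_map.1 ((hιdeg j a).2 ⟨ha, hfix⟩)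
  exact hcon j c hj hc

end Cover

section Maps

variable (hGdeg : ∀ (σ : G) (i : ℕ) (a : A), a ∈ 𝒜 i → σ • a ∈ 𝒜 i)

/-- `σ` as a graded ring endomorphism. -/
def actHom (σ : G) : 𝒜 →+*ᵍ 𝒜 where
  toRingHom := MulSemiringAction.toRingHom G A σ
  map_mem h := hGdeg σ _ _ h

theorem actHom_apply (σ : G) (a : A) : actHom hGdeg σ a = σ • a := rfl

/-- `A_(f) → A_(g)`, `g = σ f`. -/
def actAway (σ : G) {f g : A} (hg : σ • f = g) : Away 𝒜 f →+* Away 𝒜 g :=
  HomogeneousLocalization.map (actHom hGdeg σ) (by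
    rintro _ ⟨n, rfl⟩
    exact ⟨n, by rw [← hg]; exact (map_pow (actHom hGdeg σ) f n).symm⟩)

theorem actAway_mk (σ : G) {f g : A} (hg : σ • f = g) {n : ℕ} (hf : f ∈ 𝒜 n) (hgm : g ∈ 𝒜 n) (k : ℕ) (a : A)
    (ha : a ∈ 𝒜 (k • n)) :
    actAway hGdeg σ hg (Away.mk 𝒜 hf k a ha) = Away.mk 𝒜 hgm k (σ • a) (hGdeg σ _ _ ha) := by
  subst hg
  apply HomogeneousLocalization.val_injective
  rw [actAway, Away.mk, HomogeneousLocalization.map_mk, HomogeneousLocalization.val_mk, Away.val_mk]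
  exact congrArg (Localization.mk _) (Subtype.ext (map_pow (actHom hGdeg σ) f k))

variable (ι : C →ₐ[R] A) (hιdeg : ∀ (i : ℕ) (a : A), a ∈ (𝒞 i).map ι.toLinearMap ↔ (a ∈ 𝒜 i ∧ ∀ σ : G, σ • a = a))

include hιdeg in
theorem ι_mem {n : ℕ} {c : C} (hc : c ∈ 𝒞 n) : ι c ∈ 𝒜 n :=
  ((hιdeg n (ι c)).1 (Submodule.mem_map_of_mem hc)).1

include hιdeg in
theorem smul_ι {n : ℕ} {c : C} (hc : c ∈ 𝒞 n) (σ : G) : σ • ι c = ι c :=
  ((hιdeg n (ι c)).1 (Submodule.mem_map_of_mem hc)).2 σ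

/-- `ι` as a graded ring homomorphism. -/
def inclHom : 𝒞 →+*ᵍ 𝒜 where
  toRingHom := ι.toRingHom
  map_mem h := ι_mem ι hιdeg h

theorem inclHom_apply (c : C) : inclHom ι hιdeg c = ι c := rfl

/-- `C_(c) → A_(ι c)`. -/
def inclAway (c : C) : Away 𝒞 c →+* Away 𝒜 (ι c) := Away.map (inclHom ι hιdeg) c

theorem inclAway_mk {n : ℕ} {c : C} (hc : c ∈ 𝒞 n) (k : ℕ) (a : C) (ha : a ∈ 𝒞 (k • n)) :
    inclAway ι hιdeg c (Away.mk 𝒞 hc k a ha) = Away.mk 𝒜 (ι_mem ι hιdeg hc) k (ι a) (ι_mem ι hιdeg ha) :=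
  Away.map_mk (inclHom ι hιdeg) c hc k a ha

end Maps

theorem isQuot (hgen : Algebra.adjoin R (𝒜 1 : Set A) = ⊤)
    (hGdeg : ∀ (σ : G) (i : ℕ) (a : A), a ∈ 𝒜 i → σ • a ∈ 𝒜 i)
    (ι : C →ₐ[R] A) (hι : Function.Injective ι)
    (hιdeg : ∀ (i : ℕ) (a : A), a ∈ (𝒞 i).map ι.toLinearMap ↔ (a ∈ 𝒜 i ∧ ∀ σ : G, σ • a = a))
    (ρ : G →* Aut (Proj 𝒜))
    (hρ : ∀ (σ : G) (n : ℕ) (f : A) (hn : 0 < n) (hf : f ∈ 𝒜 n)
      (θ : CommRingCat.of (HomogeneousLocalization.Away 𝒜 f) ⟶ CommRingCat.of (HomogeneousLocalization.Away 𝒜 (σ • f))),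
      (algebraMap (HomogeneousLocalization.Away 𝒜 (σ • f)) (Localization.Away (σ • f))).comp θ.hom =
        (Localization.awayMap (MulSemiringAction.toRingHom G A σ) f).comp
          (algebraMap (HomogeneousLocalization.Away 𝒜 f) (Localization.Away f)) →
      Proj.awayι 𝒜 (σ • f) (hGdeg σ n f hf) hn ≫ (ρ σ).inv = Spec.map θ ≫ Proj.awayι 𝒜 f hf hn)
    (π : Proj 𝒜 ⟶ Proj 𝒞)
    (hπ : ∀ (n : ℕ) (c : C) (hn : 0 < n) (hc : c ∈ 𝒞 n)
      (θ : CommRingCat.of (HomogeneousLocalization.Away 𝒞 c) ⟶ CommRingCat.of (HomogeneousLocalization.Away 𝒜 (ι c))),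
      (algebraMap (HomogeneousLocalization.Away 𝒜 (ι c)) (Localization.Away (ι c))).comp θ.hom =
        (Localization.awayMap ι.toRingHom c).comp
          (algebraMap (HomogeneousLocalization.Away 𝒞 c) (Localization.Away c)) →
      Proj.awayι 𝒜 (ι c) ((hιdeg n (ι c)).mp (Submodule.mem_map_of_mem hc)).1 hn ≫ π =
        Spec.map θ ≫ Proj.awayι 𝒞 c hc hn) :
    SGA1.IsQuot ρ π := by
  cases nonempty_fintype G
  have hact : ∀ (σ : G) {n : ℕ} (f : A) (hn : 0 < n) (hf : f ∈ 𝒜 n) (g : A) (hg : σ • f = g) (hgm : g ∈ 𝒜 n),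
      Proj.awayι 𝒜 g hgm hn ≫ (ρ σ).inv =
        Spec.map (CommRingCat.ofHom (actAway hGdeg σ hg)) ≫ Proj.awayι 𝒜 f hf hn := by
    intro σ n f hn hf g hg hgm
    subst hg
    refine hρ σ n f hn hf _ (RingHom.ext fun z => ?_)
    obtain ⟨k, a, ha, rfl⟩ := Away.mk_surjective 𝒜 hf z
    show (actAway hGdeg σ rfl (Away.mk 𝒜 hf k a ha)).val =
      Localization.awayMap (MulSemiringAction.toRingHom G A σ) f (Away.mk 𝒜 hf k a ha).val
    rw [actAway_mk hGdeg σ rfl hf hgm, Away.val_mk, Away.val_mk, Localization.mk_eq_mk', Localization.mk_eq_mk']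
    erw [IsLocalization.map_mk']
    congr 1
    exact Subtype.ext (map_pow (MulSemiringAction.toRingHom G A σ) f k).symm
  have hincl : ∀ {n : ℕ} (c : C) (hn : 0 < n) (hc : c ∈ 𝒞 n),
      Proj.awayι 𝒜 (ι c) (ι_mem ι hιdeg hc) hn ≫ π =
        Spec.map (CommRingCat.ofHom (inclAway ι hιdeg c)) ≫ Proj.awayι 𝒞 c hc hn := by
    intro n c hn hc
    refine hπ n c hn hc _ (RingHom.ext fun z => ?_)
    obtain ⟨k, a, ha, rfl⟩ := Away.mk_surjective 𝒞 hc z
    simp only [RingHom.comp_apply, CommRingCat.hom_ofHom, HomogeneousLocalization.algebraMap_apply,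
      inclAway_mk ι hιdeg hc, Away.val_mk]
    rw [Localization.mk_eq_mk', Localization.mk_eq_mk', Localization.awayMap, IsLocalization.Away.map,
      IsLocalization.map_mk']
    congr 1
    exact Subtype.ext (map_pow ι.toRingHom c k).symm
  have hpre : ∀ {n : ℕ} (c : C), 0 < n → c ∈ 𝒞 n → π ⁻¹ᵁ Proj.basicOpen 𝒞 c = Proj.basicOpen 𝒜 (ι c) := by
    intro n c hn hc
    refine le_antisymm (fun x hx => ?_) (chart_le _ hn hc hn (hincl c hn hc))
    obtain ⟨m, c', hm, hc', hx'⟩ := exists_chart hGdeg hgen ι hιdeg x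
    have hx'' : x ∈ (Proj.awayι 𝒜 (ι c') (ι_mem ι hιdeg hc') hm).opensRange := by
      rw [Proj.opensRange_awayι]; exact hx'
    obtain ⟨p, rfl⟩ := hx''
    have h1 : Spec.map (CommRingCat.ofHom (inclAway ι hιdeg c')) p ∈
        Proj.awayι 𝒞 c' hc' hm ⁻¹ᵁ Proj.basicOpen 𝒞 c := by
      have e := congrArg (fun ψ : Spec (CommRingCat.of (Away 𝒜 (ι c'))) ⟶ Proj 𝒞 => ψ p) (hincl c' hm hc')
      show Proj.awayι 𝒞 c' hc' hm _ ∈ Proj.basicOpen 𝒞 c
      exact (congrArg (fun q => q ∈ Proj.basicOpen 𝒞 c) e).mp hx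
    rw [Proj.awayι_preimage_basicOpen 𝒞 hc' hm hc hn] at h1
    show p ∈ Proj.awayι 𝒜 (ι c') (ι_mem ι hιdeg hc') hm ⁻¹ᵁ Proj.basicOpen 𝒜 (ι c)
    rw [Proj.awayι_preimage_basicOpen 𝒜 (ι_mem ι hιdeg hc') hm (ι_mem ι hιdeg hc) hn]
    have e2 : inclAway ι hιdeg c' (Away.isLocalizationElem hc' hc) =
        Away.isLocalizationElem (ι_mem ι hιdeg hc') (ι_mem ι hιdeg hc) := by
      rw [Away.isLocalizationElem, inclAway_mk]
      simp only [map_pow]
    rw [← e2]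
    exact h1
  let B : Set (Proj 𝒞).Opens := {U | ∃ (n : ℕ) (c : C), 0 < n ∧ c ∈ 𝒞 n ∧ U = Proj.basicOpen 𝒞 c}
  have hB : Opens.IsBasis B := by
    refine Opens.isBasis_iff_nbhd.2 fun {U x} hx => ?_
    obtain ⟨_, ⟨g, rfl⟩, hxg, hgU⟩ := Opens.isBasis_iff_nbhd.1 (Proj.isBasis_basicOpen 𝒞) hx
    rw [Proj.basicOpen_eq_iSup_proj] at hxg hgU
    obtain ⟨i, hi⟩ := Opens.mem_iSup.1 hxg
    obtain ⟨m, c', hm, hc', hxc'⟩ : ∃ (m : ℕ) (c' : C), 0 < m ∧ c' ∈ 𝒞 m ∧ c' ∉ x.asHomogeneousIdeal := by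
      by_contra hcon
      push Not at hcon
      exact x.not_irrelevant_le ((HomogeneousIdeal.irrelevant_le 𝒞).2 fun m hm c' hc' => hcon m c' hm hc')
    refine ⟨_, ⟨i + m, GradedRing.proj 𝒞 i g * c', by omega,
      SetLike.mul_mem_graded (SetLike.coe_mem _) hc', rfl⟩,
      fun h => (x.isPrime.mem_or_mem h).elim hi hxc', le_trans ?_ hgU⟩
    rw [Proj.basicOpen_mul]
    exact inf_le_left.trans (le_iSup (fun i => Proj.basicOpen 𝒞 (GradedRing.proj 𝒞 i g)) i)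
  have haff : IsAffineHom π := isAffineHom_of_forall_exists_isAffineOpen π fun y => by
    obtain ⟨_, ⟨n, c, hn, hc, rfl⟩, hy, -⟩ := Opens.isBasis_iff_nbhd.1 hB (Opens.mem_top y)
    exact ⟨_, hy, Proj.isAffineOpen_basicOpen 𝒞 c hc hn,
      hpre c hn hc ▸ Proj.isAffineOpen_basicOpen 𝒜 _ (ι_mem ι hιdeg hc) hn⟩
  have hinv' : ∀ σ : G, (ρ σ).inv ≫ π = π := by
    intro σ
    let 𝒰 : (Proj 𝒜).OpenCover := Scheme.Cover.mkOfCovers
      (Σ m : ℕ, {c : C // 0 < m ∧ c ∈ 𝒞 m}) (fun i => Spec (CommRingCat.of (Away 𝒜 (ι i.2.1))))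
      (fun i => Proj.awayι 𝒜 (ι i.2.1) (ι_mem ι hιdeg i.2.2.2) i.2.2.1)
      (fun x => by
        obtain ⟨m, c, hm, hc, hx⟩ := exists_chart hGdeg hgen ι hιdeg x
        rw [show (ι c ∉ x.asHomogeneousIdeal) = (x ∈ Proj.basicOpen 𝒜 (ι c)) from rfl,
          ← Proj.opensRange_awayι 𝒜 (ι c) (ι_mem ι hιdeg hc) hm] at hx
        exact ⟨⟨m, c, hm, hc⟩, hx⟩)
      (fun _ => inferInstance)
    refine Scheme.Cover.hom_ext 𝒰 _ _ fun (i : Σ m : ℕ, {c : C // 0 < m ∧ c ∈ 𝒞 m}) => ?_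
    show Proj.awayι 𝒜 _ (ι_mem ι hιdeg i.2.2.2) i.2.2.1 ≫ _ = Proj.awayι 𝒜 _ (ι_mem ι hιdeg i.2.2.2) i.2.2.1 ≫ _
    obtain ⟨m, c, hm, hc⟩ := i
    rw [← Category.assoc, hact σ (ι c) hm (ι_mem ι hιdeg hc) (ι c) (smul_ι ι hιdeg hc σ), Category.assoc,
      hincl c hm hc, ← Spec.map_comp_assoc]
    congr 2
    refine CommRingCat.hom_ext (RingHom.ext fun z => ?_)
    obtain ⟨k, a, ha, rfl⟩ := Away.mk_surjective 𝒞 hc z
    show actAway hGdeg σ (smul_ι ι hιdeg hc σ) (inclAway ι hιdeg c (Away.mk 𝒞 hc k a ha)) = inclAway ι hιdeg c (Away.mk 𝒞 hc k a ha)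
    rw [inclAway_mk, actAway_mk hGdeg σ _ (ι_mem ι hιdeg hc) (ι_mem ι hιdeg hc)]
    simp only [smul_ι ι hιdeg ha σ]
  have hinv : ∀ σ : G, (ρ σ).hom ≫ π = π := fun σ => by
    conv_lhs => rw [← hinv' σ, Iso.hom_inv_id_assoc]
  refine SchQuot.Local.isQuot_of_basis (B := B) hB hinv ?_ ?_
  · rintro _ ⟨n, c, hn, hc, rfl⟩
    refine (injective_iff_map_eq_zero (π.app (Proj.basicOpen 𝒞 c)).hom).2 fun s hs => ?_
    obtain ⟨z, rfl⟩ := awayToSection_surjective hc hn s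
    have h1 : Proj.awayToSection 𝒜 (ι c) (inclAway ι hιdeg c z) = 0 := by
      rw [← CommRingCat.hom_ofHom (inclAway ι hιdeg c), ← chart_appLE _ hn hc hn (hincl c hn hc) (hpre c hn hc).ge,
        Scheme.Hom.appLE, CommRingCat.comp_apply, hs, map_zero]
    have h2 := awayToSection_injective (ι_mem ι hιdeg hc) hn (h1.trans (map_zero _).symm)
    obtain ⟨k, a, ha, rfl⟩ := Away.mk_surjective 𝒞 hc z
    rw [inclAway_mk ι hιdeg hc] at h2
    have h3 := congrArg HomogeneousLocalization.val h2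
    rw [Away.val_mk, HomogeneousLocalization.val_zero, Localization.mk_eq_mk', IsLocalization.mk'_eq_zero_iff] at h3
    obtain ⟨⟨_, j, rfl⟩, hj⟩ := h3
    rw [show Away.mk 𝒞 hc k a ha = 0 from ?_, map_zero]
    apply HomogeneousLocalization.val_injective
    rw [Away.val_mk, HomogeneousLocalization.val_zero, Localization.mk_eq_mk', IsLocalization.mk'_eq_zero_iff]
    exact ⟨⟨c ^ j, j, rfl⟩, hι (by simpa using hj)⟩
  · rintro _ ⟨n, c, hn, hc, rfl⟩
    have hιc := ι_mem ι hιdeg hc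
    have key : ∀ (V : (Proj 𝒜).Opens), V = Proj.basicOpen 𝒜 (ι c) → ∀ (le : V ≤ π ⁻¹ᵁ Proj.basicOpen 𝒞 c)
        (hle : ∀ g : G, V ≤ (ρ g).hom ⁻¹ᵁ V) (s : Γ(Proj 𝒜, V)), (∀ g, (ρ g).hom.appLE V V (hle g) s = s) →
        s ∈ Set.range (π.appLE (Proj.basicOpen 𝒞 c) V le).hom := by
      rintro V rfl le hle s hs
      obtain ⟨z, rfl⟩ := awayToSection_surjective hιc hn s
      obtain ⟨k, a, ha, rfl⟩ := Away.mk_surjective 𝒜 hιc z
      have hz : ∀ σ : G, ∃ j, ι c ^ j * (σ • a) = ι c ^ j * a := fun σ => by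
        have hφ := hact σ (ι c) hn hιc (ι c) (smul_ι ι hιdeg hc σ) hιc
        have e : (ρ σ).inv = (ρ σ⁻¹).hom := by rw [map_inv]; rfl
        rw [e] at hφ
        have h1 := (chart_appLE hιc hn hιc hn hφ (hle σ⁻¹) _).symm.trans (hs σ⁻¹)
        have h2 : actAway hGdeg σ (smul_ι ι hιdeg hc σ) (Away.mk 𝒜 hιc k a ha) = Away.mk 𝒜 hιc k a ha :=
          awayToSection_injective hιc hn h1
        rw [actAway_mk hGdeg σ _ hιc hιc] at h2
        have h3 := congrArg HomogeneousLocalization.val h2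
        rw [Away.val_mk, Away.val_mk, Localization.mk_eq_mk_iff, Localization.r_iff_exists] at h3
        obtain ⟨⟨_, j, rfl⟩, hj⟩ := h3
        exact ⟨j + k, by simpa [pow_add, mul_assoc] using hj⟩
      choose j hj using hz
      set M := Finset.univ.sup j
      have hfix : ∀ σ : G, σ • (ι c ^ M * a) = ι c ^ M * a := fun σ => by
        obtain ⟨d, hd⟩ : ∃ d, M = j σ + d :=
          Nat.exists_eq_add_of_le (Finset.le_sup (f := j) (Finset.mem_univ σ) : j σ ≤ M)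
        rw [smul_mul', smul_pow', smul_ι ι hιdeg hc σ, hd, pow_add, mul_comm (ι c ^ j σ), mul_assoc, mul_assoc, hj]
      have hdeg : ι c ^ M * a ∈ 𝒜 ((M + k) • n) := by
        rw [add_nsmul]
        exact SetLike.mul_mem_graded (SetLike.pow_mem_graded M hιc) ha
      obtain ⟨c', hc', hcc'⟩ := Submodule.mem_map.1 ((hιdeg _ _).2 ⟨hdeg, hfix⟩)
      refine ⟨Proj.awayToSection 𝒞 c (Away.mk 𝒞 hc (M + k) c' hc'),
        (chart_appLE hιc hn hc hn (hincl c hn hc) le _).trans (congrArg _ ?_)⟩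
      show inclAway ι hιdeg c _ = _
      rw [inclAway_mk ι hιdeg hc]
      apply HomogeneousLocalization.val_injective
      rw [Away.val_mk, Away.val_mk, Localization.mk_eq_mk_iff, Localization.r_iff_exists]
      refine ⟨1, ?_⟩
      have hcc : ι c' = ι c ^ M * a := hcc'
      simp [hcc, pow_add]; ring
    intro s hs
    rw [Scheme.Hom.app_eq_appLE]
    exact key _ (hpre c hn hc) le_rfl (fun g => SGA1.preimage_le_of_inv ρ π hinv g _) s hs

end Groth.Agent.Lib.ZeroCyc99.ProjQuot
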