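import Groth.Agent.Lib.SchQuot.Residue
import Groth.Agent.Lib.UnivHomeo.Basic
import Mathlib.FieldTheory.IsAlgClosed.AlgebraicClosure
import Mathlib.FieldTheory.Normal.Basic
import Mathlib.AlgebraicGeometry.Morphisms.UniversallyInjective

/-!
# Geometric points of finite quotients
-/

universe u

open CategoryTheory CategoryTheory.Limits AlgebraicGeometry

namespace Groth.Agent.Lib.ZeroCyc99.QuotPoints

open Groth.Agent.Lib.SchQuot Groth.Agent.Lib.SchQuot.Residue

/-- Injectivity on geometric points implies universal injectivity. -/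
theorem universallyInjective_of_geometric {X Y : Scheme.{u}} (f : X ⟶ Y)
    (h : ∀ (K : Type u) [Field K] [IsAlgClosed K], Function.Injective (fun g : Spec (.of K) ⟶ X => g ≫ f)) :
    UniversallyInjective f := by
  rw [UniversallyInjective.iff_diagonal, surjective_iff]
  intro z
  let K := AlgebraicClosure ((pullback f f).residueField z)
  let φ : Spec (.of K) ⟶ pullback f f :=
    Spec.map (CommRingCat.ofHom (algebraMap ((pullback f f).residueField z) K)) ≫
      (pullback f f).fromSpecResidueField z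
  have hφ₁ : φ ≫ pullback.fst f f = φ ≫ pullback.snd f f := h K (by simp [pullback.condition])
  have hφ₂ : φ = (φ ≫ pullback.fst f f) ≫ pullback.diagonal f := by cat_disch
  refine ⟨(φ ≫ pullback.fst f f) (IsLocalRing.closedPoint _), ?_⟩
  rw [← Scheme.Hom.comp_apply, ← hφ₂]
  rw [Scheme.Hom.comp_apply, Scheme.fromSpecResidueField_apply]

variable {X Y : Scheme.{u}} {G : Type u} [Group G] [Finite G] {ρ : G →* Aut X}
  {p : X ⟶ Y} (hp : SGA1.IsQuot ρ p) (K : Type u) [Field K] [IsAlgClosed K]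
include hp

theorem exists_lift (η : Spec (.of K) ⟶ Y) : ∃ ξ : Spec (.of K) ⟶ X, ξ ≫ p = η := by
  obtain ⟨⟨y, b⟩, rfl⟩ := (Y.SpecToEquivOfField K).symm.surjective η
  obtain ⟨x, rfl⟩ := IsQuot.surjective hp y
  let := (p.residueFieldMap x).hom.toAlgebra
  have := (normal_and_exists hp x).1
  let := b.hom.toAlgebra
  let a : X.residueField x →ₐ[Y.residueField (p x)] K := IsAlgClosed.lift
  have hab : p.residueFieldMap x ≫ CommRingCat.ofHom a.toRingHom = b := CommRingCat.hom_ext (RingHom.ext a.commutes)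
  refine ⟨(X.SpecToEquivOfField K).symm ⟨x, CommRingCat.ofHom a.toRingHom⟩, ?_⟩
  simp only [Scheme.SpecToEquivOfField_symm_apply, Category.assoc,
    ← p.SpecMap_residueFieldMap_fromSpecResidueField x, ← Spec.map_comp_assoc, hab]

theorem exists_hom_comp_eq_of_same_point (x : X) (a a' : X.residueField x ⟶ CommRingCat.of K)
    (h : p.residueFieldMap x ≫ a = p.residueFieldMap x ≫ a') :
    ∃ g : G, Spec.map a ≫ X.fromSpecResidueField x ≫ (ρ g).hom = Spec.map a' ≫ X.fromSpecResidueField x := by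
  obtain ⟨hn, hex⟩ := normal_and_exists hp x
  let := (p.residueFieldMap x).hom.toAlgebra
  let := a.hom.toAlgebra
  let := (p.residueFieldMap x ≫ a).hom.toAlgebra
  have : IsScalarTower (Y.residueField (p x)) (X.residueField x) K := .of_algebraMap_eq fun _ => rfl
  let φ : X.residueField x →ₐ[Y.residueField (p x)] K :=
    { a'.hom with commutes' := fun c => (congr($h c)).symm }
  let τ := φ.restrictNormal' (X.residueField x)
  obtain ⟨g, e, hg⟩ := hex τ.toRingEquiv.toCommRingCatIso (CommRingCat.hom_ext (RingHom.ext τ.commutes))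
  refine ⟨g, ?_⟩
  have hτ : τ.toRingEquiv.toCommRingCatIso.hom ≫ a = a' :=
    CommRingCat.hom_ext (RingHom.ext fun z => φ.restrictNormal_commutes (X.residueField x) z)
  rw [hg, Category.assoc] at hτ
  rw [← hτ, ← Scheme.Hom.SpecMap_residueFieldMap_fromSpecResidueField]
  simp only [Spec.map_comp, Category.assoc]
  congr 2
  rw [← Scheme.residueFieldCongr_fromSpecResidueField e]
  simp [← Spec.map_comp_assoc]

/-- Geometric points over the same point of the quotient are conjugate. -/
theorem exists_hom_comp_eq (ξ ξ' : Spec (.of K) ⟶ X) (h : ξ ≫ p = ξ' ≫ p) :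
    ∃ g : G, ξ ≫ (ρ g).hom = ξ' := by
  obtain ⟨g₀, hg₀⟩ := (IsQuot.apply_eq_iff hp (ξ (IsLocalRing.closedPoint K)) (ξ' (IsLocalRing.closedPoint K))).1
    (by rw [← Scheme.Hom.comp_apply, h]; rfl)
  suffices ∀ ξ : Spec (.of K) ⟶ X, ξ ≫ p = ξ' ≫ p →
      ξ (IsLocalRing.closedPoint K) = ξ' (IsLocalRing.closedPoint K) → ∃ g : G, ξ ≫ (ρ g).hom = ξ' by
    obtain ⟨g, hg⟩ := this (ξ ≫ (ρ g₀).hom) (by rw [Category.assoc, hp.inv, h]) hg₀
    exact ⟨g * g₀, by rw [IsQuot.hom_mul_hom, ← Category.assoc, hg]⟩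
  clear h hg₀ g₀ ξ
  intro ξ h hpt
  obtain ⟨⟨x, a⟩, rfl⟩ := (X.SpecToEquivOfField K).symm.surjective ξ
  obtain ⟨⟨x', a'⟩, rfl⟩ := (X.SpecToEquivOfField K).symm.surjective ξ'
  simp only [Scheme.SpecToEquivOfField_symm_apply, Scheme.Hom.comp_apply, Scheme.fromSpecResidueField_apply] at hpt
  subst hpt
  simp only [Scheme.SpecToEquivOfField_symm_apply, Category.assoc] at h ⊢
  refine exists_hom_comp_eq_of_same_point hp K x a a' ?_
  have h' : Spec.map (p.residueFieldMap x ≫ a) ≫ Y.fromSpecResidueField (p x) =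
      Spec.map (p.residueFieldMap x ≫ a') ≫ Y.fromSpecResidueField (p x) := by
    simpa only [Spec.map_comp, Category.assoc, Scheme.Hom.SpecMap_residueFieldMap_fromSpecResidueField] using h
  exact Spec.map_injective ((cancel_mono _).1 h')

end Groth.Agent.Lib.ZeroCyc99.QuotPoints
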