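import Groth.Prelude.Def_PolLaw
import Mathlib.LinearAlgebra.Vandermonde
import Mathlib.LinearAlgebra.Matrix.Adjugate
import Mathlib.RingTheory.MvPolynomial.Basic

/-!
# When the divided powers `γ_d` span the degree `d` piece
-/

universe u

open DividedPowerAlgebra

namespace Groth.Agent.Lib.ZeroCyc99.Span

variable {A M : Type u} [CommRing A] [AddCommGroup M] [Module A M]

variable (A M) in
/-- The span of the `c`-th divided powers. -/
noncomputable def S (c : ℕ) : Submodule A (DividedPowerAlgebra A M) :=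
  Submodule.span A (Set.range (dp A c : M → DividedPowerAlgebra A M))

theorem dp_mem (c : ℕ) (m : M) : dp A c m ∈ S A M c := Submodule.subset_span ⟨m, rfl⟩

/-- The determinant attached to `e` nodes. -/
noncomputable def disc {e : ℕ} (v : Fin e → A) : A :=
  (∏ i, v i) * ∏ i : Fin e, ∏ j ∈ Finset.Ioi i, (v j - v i)

theorem disc_smul_mul_mem {e : ℕ} (v : Fin e → A) (j : Fin e) (x y : M) :
    disc v • (dp A ((j : ℕ) + 1) x * dp A (e - (j : ℕ)) y) ∈ S A M (e + 1) := by
  classical
  let W : Matrix (Fin e) (Fin e) A := Matrix.of fun l k => v l * Matrix.vandermonde v l k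
  have hW : W.det = disc v := by
    rw [Matrix.det_mul_column, Matrix.det_vandermonde, disc]
  let w : Fin e → DividedPowerAlgebra A M := fun k => dp A ((k : ℕ) + 1) x * dp A (e - (k : ℕ)) y
  have hz : ∀ l, ∑ k, W l k • w k ∈ S A M (e + 1) := by
    intro l
    have : ∑ k, W l k • w k =
        dp A (e + 1) (v l • x + y) - v l ^ (e + 1) • dp A (e + 1) x - dp A (e + 1) y := by
      rw [dp_add, Finset.Nat.sum_antidiagonal_eq_sum_range_succ (fun a b => dp A a (v l • x) * dp A b y),
        Finset.sum_range_succ, Finset.sum_range_succ', ← Fin.sum_univ_eq_sum_range]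
      simp only [dp_smul, Nat.sub_self, DividedPowerAlgebra.dp_zero, pow_zero, one_smul, mul_one, one_mul,
        Nat.sub_zero, Nat.add_sub_add_right, smul_mul_assoc]
      simp only [W, w, Matrix.of_apply, Matrix.vandermonde_apply, ← pow_succ']
      abel
    rw [this]
    exact sub_mem (sub_mem (dp_mem _ _) (Submodule.smul_mem _ _ (dp_mem _ _))) (dp_mem _ _)
  have key : W.det • w j = ∑ l, W.adjugate j l • ∑ k, W l k • w k := by
    simp only [Finset.smul_sum, smul_smul]
    rw [Finset.sum_comm]
    simp only [← Finset.sum_smul, ← Matrix.mul_apply, Matrix.adjugate_mul]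
    simp [Matrix.one_apply]
  show disc v • w j ∈ _
  rw [← hW, key]
  exact sum_mem fun l _ => Submodule.smul_mem _ _ (hz l)

variable (T : Submonoid A)

theorem exists_smul_mul_mem {c : ℕ} (h : ∀ e, e + 1 = c → ∃ v : Fin e → A, disc v ∈ T) (a b : ℕ)
    (hab : a + b = c) :
    ∃ D ∈ T, ∀ (x : M) (z : DividedPowerAlgebra A M), z ∈ S A M b → D • (dp A a x * z) ∈ S A M c := by
  suffices ∃ D ∈ T, ∀ x y : M, D • (dp A a x * dp A b y) ∈ S A M c by
    obtain ⟨D, hD, hD'⟩ := this
    refine ⟨D, hD, fun x z hz => ?_⟩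
    induction hz using Submodule.span_induction with
    | mem z hz => obtain ⟨y, rfl⟩ := hz; exact hD' x y
    | zero => simp
    | add z z' _ _ hz hz' => rw [mul_add, smul_add]; exact add_mem hz hz'
    | smul r z _ hz => rw [mul_smul_comm, smul_comm]; exact Submodule.smul_mem _ r hz
  rcases Nat.eq_zero_or_pos a with rfl | ha
  · refine ⟨1, T.one_mem, fun x y => ?_⟩
    rw [one_smul, DividedPowerAlgebra.dp_zero, one_mul, ← hab, zero_add]
    exact dp_mem _ _
  rcases Nat.eq_zero_or_pos b with rfl | hb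
  · refine ⟨1, T.one_mem, fun x y => ?_⟩
    rw [one_smul, DividedPowerAlgebra.dp_zero, mul_one, ← hab, add_zero]
    exact dp_mem _ _
  obtain ⟨e, rfl⟩ : ∃ e, e + 1 = c := ⟨c - 1, by omega⟩
  obtain ⟨v, hv⟩ := h e rfl
  refine ⟨disc v, hv, fun x y => ?_⟩
  have := disc_smul_mul_mem v ⟨a - 1, by omega⟩ x y
  rwa [show (a - 1) + 1 = a by omega, show e - (a - 1) = b by omega] at this

theorem exists_smul_mem {d : ℕ} (h : ∀ e < d, ∃ v : Fin e → A, disc v ∈ T) {q : DividedPowerAlgebra A M}
    (hq : q ∈ _root_.PolLaw.gammaPiece A M d) : ∃ D ∈ T, D • q ∈ S A M d := by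
  classical
  induction hq using Submodule.span_induction with
  | mem q hq =>
    obtain ⟨n, k, m, hk, rfl⟩ := hq
    suffices ∀ s : Finset (Fin n), ∑ i ∈ s, k i ≤ d →
        ∃ D ∈ T, D • ∏ i ∈ s, dp A (k i) (m i) ∈ S A M (∑ i ∈ s, k i) by
      obtain ⟨D, hD, hD'⟩ := this Finset.univ hk.le
      exact ⟨D, hD, hk ▸ hD'⟩
    intro s
    induction s using Finset.induction with
    | empty =>
      exact fun _ => ⟨1, T.one_mem, by
        rw [one_smul, Finset.prod_empty, Finset.sum_empty, ← DividedPowerAlgebra.dp_zero (R := A) (m := (0 : M))]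
        exact dp_mem _ _⟩
    | insert i s hi ih =>
      intro hs
      rw [Finset.sum_insert hi] at hs ⊢
      obtain ⟨D, hD, hD'⟩ := ih (by omega)
      obtain ⟨D₁, hD₁, hD₁'⟩ := exists_smul_mul_mem (M := M) T (c := k i + ∑ i ∈ s, k i)
        (fun e he => h e (by omega)) (k i) _ rfl
      refine ⟨D₁ * D, T.mul_mem hD₁ hD, ?_⟩
      rw [Finset.prod_insert hi, mul_smul, ← mul_smul_comm]
      exact hD₁' _ _ hD'
  | zero => exact ⟨1, T.one_mem, by simp⟩
  | add x y _ _ hx hy =>
    obtain ⟨D, hD, hx⟩ := hx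
    obtain ⟨D', hD', hy⟩ := hy
    refine ⟨D * D', T.mul_mem hD hD', ?_⟩
    rw [smul_add, mul_smul, mul_smul, smul_comm D D' x]
    exact add_mem (Submodule.smul_mem _ _ hx) (Submodule.smul_mem _ _ hy)
  | smul r x _ hx =>
    obtain ⟨D, hD, hx⟩ := hx
    exact ⟨D, hD, by rw [smul_comm]; exact Submodule.smul_mem _ r hx⟩

theorem exists_smul_mem_of_cyclic {d : ℕ} (m₀ : M) (h : ∀ m : M, ∃ t ∈ T, ∃ r : A, t • m = r • m₀)
    {q : DividedPowerAlgebra A M} (hq : q ∈ _root_.PolLaw.gammaPiece A M d) :
    ∃ D ∈ T, D • q ∈ S A M d := by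
  classical
  induction hq using Submodule.span_induction with
  | mem q hq =>
    obtain ⟨n, k, m, hk, rfl⟩ := hq
    choose t ht r hr using h
    refine ⟨∏ i, t (m i) ^ k i, T.prod_mem fun i _ => T.pow_mem (ht _) _, ?_⟩
    have : (∏ i, t (m i) ^ k i) • ∏ i, dp A (k i) (m i) =
        (∏ i, r (m i) ^ k i) • ∏ i, dp A (k i) m₀ := by
      simp only [Algebra.smul_def, map_prod, ← Finset.prod_mul_distrib]
      simp only [← Algebra.smul_def, ← dp_smul, hr]
    rw [this, DividedPowerAlgebra.prod_dp, hk, ← nsmul_eq_mul]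
    exact Submodule.smul_mem _ _ (nsmul_mem (dp_mem _ _) _)
  | zero => exact ⟨1, T.one_mem, by simp⟩
  | add x y _ _ hx hy =>
    obtain ⟨D, hD, hx⟩ := hx
    obtain ⟨D', hD', hy⟩ := hy
    refine ⟨D * D', T.mul_mem hD hD', ?_⟩
    rw [smul_add, mul_smul, mul_smul, smul_comm D D' x]
    exact add_mem (Submodule.smul_mem _ _ hx) (Submodule.smul_mem _ _ hy)
  | smul r x _ hx =>
    obtain ⟨D, hD, hx⟩ := hx
    exact ⟨D, hD, by rw [smul_comm]; exact Submodule.smul_mem _ r hx⟩

theorem S_le_gammaPiece (d : ℕ) : S A M d ≤ _root_.PolLaw.gammaPiece A M d :=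
  Submodule.span_le.2 fun _ ⟨m, hm⟩ =>
    Submodule.subset_span ⟨1, fun _ => d, fun _ => m, by simp, by simp [← hm]⟩

section Test

/-! ### Functionals on the degree `d` piece -/

variable {k : Type u} [CommRing k] [Algebra A k] {d : ℕ}

open MvPolynomial

/-- Indicator exponent. -/
noncomputable def ind (t : Finset (Fin d)) : Fin d →₀ ℕ :=
  Finsupp.equivFunOnFinite.symm fun i => if i ∈ t then 1 else 0

theorem ind_apply (t : Finset (Fin d)) (i : Fin d) : ind t i = if i ∈ t then 1 else 0 := rfl

theorem ind_injective : Function.Injective (ind (d := d)) := by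
  intro s t h
  ext i
  have := DFunLike.congr_fun h i
  simp only [ind_apply] at this
  split_ifs at this with h1 h2 <;> simp_all

theorem ind_add {s t : Finset (Fin d)} (h : Disjoint s t) : ind s + ind t = ind (s ∪ t) := by
  ext i
  simp only [Finsupp.add_apply, ind_apply, Finset.mem_union]
  have : i ∈ s → i ∉ t := fun hs => Finset.disjoint_left.1 h hs
  split_ifs <;> simp_all

variable (k d) in
/-- The ideal of squares. -/
noncomputable def sq : Ideal (MvPolynomial (Fin d) k) :=
  Ideal.span (Set.range fun i => (X i : MvPolynomial (Fin d) k) ^ 2)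

variable (k d) in
/-- The square-free test ring. -/
abbrev Ring' : Type u := MvPolynomial (Fin d) k ⧸ sq k d

variable (L : Fin d → M →ₗ[A] k)

/-- The elementary symmetric elements. -/
noncomputable def el (n : ℕ) (m : M) : Ring' k d :=
  ∑ t ∈ Finset.univ.powersetCard n, Ideal.Quotient.mk (sq k d) (monomial (ind t) (∏ i ∈ t, L i m))

theorem el_mul (n p : ℕ) (x y : M) : el L n x * el L p y =
    ∑ W ∈ Finset.univ.powersetCard (n + p), ∑ t ∈ W.powersetCard n,
      Ideal.Quotient.mk (sq k d) (monomial (ind W) ((∏ i ∈ t, L i x) * ∏ i ∈ W \ t, L i y)) := by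
  classical
  rw [el, el, Finset.sum_mul_sum, ← Finset.sum_product', Finset.sum_sigma']
  simp only [← map_mul, monomial_mul]
  rw [← Finset.sum_filter_of_ne (p := fun q : Finset (Fin d) × Finset (Fin d) => Disjoint q.1 q.2)]
  · refine Finset.sum_bij' (fun q _ => (⟨q.1 ∪ q.2, q.1⟩ : (_ : Finset (Fin d)) × Finset (Fin d)))
      (fun q _ => (q.2, q.1 \ q.2)) ?_ ?_ ?_ ?_ ?_
    · rintro ⟨t, u⟩ hq
      simp only [Finset.mem_filter, Finset.mem_product, Finset.mem_powersetCard] at hq
      simp only [Finset.mem_sigma, Finset.mem_powersetCard]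
      exact ⟨⟨Finset.subset_univ _, by rw [Finset.card_union_of_disjoint hq.2, hq.1.1.2, hq.1.2.2]⟩,
        Finset.subset_union_left, hq.1.1.2⟩
    · rintro ⟨W, t⟩ hq
      simp only [Finset.mem_sigma, Finset.mem_powersetCard] at hq
      simp only [Finset.mem_filter, Finset.mem_product, Finset.mem_powersetCard]
      exact ⟨⟨⟨Finset.subset_univ _, hq.2.2⟩, Finset.subset_univ _,
        by rw [Finset.card_sdiff_of_subset hq.2.1, hq.1.2, hq.2.2]; omega⟩, Finset.disjoint_sdiff⟩
    · rintro ⟨t, u⟩ hq
      simp only [Finset.mem_filter] at hq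
      simp [Finset.union_sdiff_cancel_left hq.2]
    · rintro ⟨W, t⟩ hq
      simp only [Finset.mem_sigma, Finset.mem_powersetCard] at hq
      simp [Finset.union_sdiff_of_subset hq.2.1]
    · rintro ⟨t, u⟩ hq
      simp only [Finset.mem_filter] at hq
      simp only [Finset.union_sdiff_cancel_left hq.2, ind_add hq.2]
  · rintro ⟨t, u⟩ _ hne
    by_contra hd
    apply hne
    obtain ⟨i, hit, hiu⟩ := Finset.not_disjoint_iff.1 hd
    rw [Ideal.Quotient.eq_zero_iff_mem]
    have hle : Finsupp.single i 2 ≤ ind t + ind u := by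
      rw [Finsupp.single_le_iff, Finsupp.add_apply, ind_apply, ind_apply, if_pos hit, if_pos hiu]
    rw [← add_tsub_cancel_of_le hle, monomial_single_add]
    exact Ideal.mul_mem_right _ _ (Ideal.subset_span ⟨i, rfl⟩)

/-- The algebra map to the test ring. -/
noncomputable def hom : DividedPowerAlgebra A M →ₐ[A] Ring' k d :=
  DividedPowerAlgebra.lift' (f := fun q => el L q.1 q.2)
    (fun m => by
      have h0 : ind (∅ : Finset (Fin d)) = 0 := by ext i; simp [ind_apply]
      simp [el, h0])
    (fun n r m => by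
      simp only [el, Finset.smul_sum]
      refine Finset.sum_congr rfl fun t ht => ?_
      rw [← (Finset.mem_powersetCard.1 ht).2, ← Ideal.Quotient.mkₐ_eq_mk A, ← map_smul, smul_monomial]
      congr 2
      simp only [map_smul, Algebra.smul_def, Finset.prod_mul_distrib, Finset.prod_const, map_pow])
    (fun n p m => by
      rw [el_mul, el, Finset.smul_sum]
      refine Finset.sum_congr rfl fun W hW => ?_
      rw [Finset.sum_congr rfl (g := fun _ => Ideal.Quotient.mk (sq k d) (monomial (ind W) (∏ i ∈ W, L i m)))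
        fun t ht => by rw [mul_comm, Finset.prod_sdiff (Finset.mem_powersetCard.1 ht).1],
        Finset.sum_const, Finset.card_powersetCard, (Finset.mem_powersetCard.1 hW).2])
    (fun n x y => by
      simp only [el_mul]
      rw [Finset.sum_congr rfl (g := fun a : ℕ × ℕ => ∑ W ∈ Finset.univ.powersetCard n,
        ∑ t ∈ W.powersetCard a.1,
          Ideal.Quotient.mk (sq k d) (monomial (ind W) ((∏ i ∈ t, L i x) * ∏ i ∈ W \ t, L i y)))
        fun a ha => by rw [Finset.mem_antidiagonal.1 ha], Finset.sum_comm, el]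
      refine Finset.sum_congr rfl fun W hW => ?_
      rw [Finset.Nat.sum_antidiagonal_eq_sum_range_succ (fun a _ => ∑ t ∈ W.powersetCard a,
        Ideal.Quotient.mk (sq k d) (monomial (ind W) ((∏ i ∈ t, L i x) * ∏ i ∈ W \ t, L i y))),
        ← (Finset.mem_powersetCard.1 hW).2, ← Finset.sum_powerset]
      simp only [map_add, Finset.prod_add, map_sum])

/-- The coefficient of the full square-free monomial. -/
noncomputable def top : Ring' k d →ₗ[k] k :=
  ((sq k d).restrictScalars k).liftQ (lcoeff k (ind Finset.univ)) (fun z hz => by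
    rw [Submodule.restrictScalars_mem] at hz
    rw [LinearMap.mem_ker, lcoeff_apply]
    suffices h : ∀ r : MvPolynomial (Fin d) k, coeff (ind Finset.univ) (r * z) = 0 by simpa using h 1
    refine Submodule.span_induction (p := fun z _ => ∀ r : MvPolynomial (Fin d) k,
      coeff (ind Finset.univ) (r * z) = 0) ?_ (fun r => by simp) ?_ ?_ hz
    · rintro _ ⟨i, rfl⟩ r
      show coeff _ (r * X i ^ 2) = 0
      rw [mul_comm, X_pow_eq_monomial, coeff_monomial_mul', if_neg]
      intro hle
      have := hle i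
      rw [Finsupp.single_eq_same, ind_apply, if_pos (Finset.mem_univ i)] at this
      omega
    · intro a b _ _ ha hb r
      rw [mul_add, coeff_add, ha r, hb r, add_zero]
    · intro c a _ ha r
      rw [smul_eq_mul, ← mul_assoc]
      exact ha _) ∘ₗ (Submodule.Quotient.restrictScalarsEquiv k (sq k d)).symm.toLinearMap

theorem top_mk (z : MvPolynomial (Fin d) k) :
    top (Ideal.Quotient.mk (sq k d) z) = coeff (ind Finset.univ) z := rfl

/-- The functional attached to `d` linear forms. -/
noncomputable def func : DividedPowerAlgebra A M →ₗ[A] k :=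
  (top (k := k) (d := d)).restrictScalars A ∘ₗ (hom L).toLinearMap

theorem hom_dp (n : ℕ) (m : M) : hom L (dp A n m) = el L n m :=
  DividedPowerAlgebra.lift'_apply_dp _ _ _ _ n m

theorem func_dp (m : M) : func L (dp A d m) = ∏ i, L i m := by
  classical
  have hc : Finset.univ.powersetCard d = {(Finset.univ : Finset (Fin d))} := by
    simpa using Finset.powersetCard_self (Finset.univ : Finset (Fin d))
  simp only [func, LinearMap.comp_apply, AlgHom.toLinearMap_apply, hom_dp, LinearMap.restrictScalars_apply,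
    el, hc, Finset.sum_singleton, top_mk, coeff_monomial, if_pos]

theorem func_mul {a b : ℕ} (hab : a + b = d) (x y : M) :
    func L (dp A a x * dp A b y) =
      ∑ t ∈ Finset.univ.powersetCard a, (∏ i ∈ t, L i x) * ∏ i ∈ tᶜ, L i y := by
  classical
  have hc : Finset.univ.powersetCard (a + b) = {(Finset.univ : Finset (Fin d))} := by
    simpa [hab] using Finset.powersetCard_self (Finset.univ : Finset (Fin d))
  simp only [func, LinearMap.comp_apply, AlgHom.toLinearMap_apply, map_mul, hom_dp,
    LinearMap.restrictScalars_apply, el_mul, hc, Finset.sum_singleton, map_sum, top_mk, coeff_monomial,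
    if_pos, Finset.compl_eq_univ_sdiff]

end Test

end Groth.Agent.Lib.ZeroCyc99.Span
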