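import Mathlib.LinearAlgebra.PiTensorProduct.Basis
import Mathlib.LinearAlgebra.FreeModule.Finite.Basic
import Mathlib.Algebra.Module.Projective
import Mathlib.RingTheory.Flat.EquationalCriterion
import Groth.Prelude.Def_W4c5normfunctorschNorm

/-!
# Symmetric tensors
-/

universe u

open scoped TensorProduct
open PiTensorProduct

namespace Groth.Agent.Lib.ZeroCyc99.SymTensor

variable {R : Type u} [CommRing R] {d : ℕ}

theorem pair_mem_altSpan {P : Type u} [AddCommGroup P] [Module R P] (m : Fin d → P) {i j : Fin d} (hij : i ≠ j) :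
    tprod R m + tprod R (m ∘ Equiv.swap i j) ∈ SymTen.altSpan R P d := by
  classical
  have halt : ∀ z, tprod R (Function.update (Function.update m i z) j z) ∈ SymTen.altSpan R P d := fun z =>
    Submodule.subset_span ⟨_, i, j, hij, by simp [Function.update_of_ne hij], rfl⟩
  have hfun : m ∘ Equiv.swap i j = Function.update (Function.update m i (m j)) j (m i) := by
    funext k
    by_cases hk : k = i
    · subst hk; simp [Function.update_of_ne hij]
    · by_cases hk' : k = j
      · subst hk'; simp
      · simp [Equiv.swap_apply_of_ne_of_ne hk hk', Function.update_of_ne hk', Function.update_of_ne hk]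
  have hm : m = Function.update (Function.update m i (m i)) j (m j) := by simp
  have key : tprod R (Function.update (Function.update m i (m i + m j)) j (m i + m j)) =
      tprod R (Function.update (Function.update m i (m i)) j (m i)) +
      tprod R (Function.update (Function.update m i (m i)) j (m j)) +
      (tprod R (Function.update (Function.update m i (m j)) j (m i)) +
      tprod R (Function.update (Function.update m i (m j)) j (m j))) := by
    rw [MultilinearMap.map_update_add]
    simp only [fun z w => Function.update_comm hij z w m, MultilinearMap.map_update_add]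
    abel
  have h := halt (m i + m j)
  rw [key, ← hm, ← hfun] at h
  have h2 := Submodule.sub_mem _ (Submodule.sub_mem _ h (halt (m i))) (halt (m j))
  convert h2 using 1
  abel

theorem fixed_mem_altSpan_of_basis {P : Type u} [AddCommGroup P] [Module R P] {κ : Type u} [Fintype κ]
    (b : Module.Basis κ R P) {i j : Fin d} (hij : i ≠ j) (z : ⨂[R] _ : Fin d, P)
    (hz : reindex R (fun _ : Fin d => P) (Equiv.swap i j) z = z) : z ∈ SymTen.altSpan R P d := by
  classical
  let : LinearOrder κ := LinearOrder.lift' (Fintype.equivFin κ) (Fintype.equivFin κ).injective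
  let B := _root_.Basis.piTensorProduct (fun _ : Fin d => b)
  let τ : (Fin d → κ) → (Fin d → κ) := fun g => g ∘ Equiv.swap i j
  have hB : ∀ g, B g = tprod R (fun k => b (g k)) := fun g => _root_.Basis.piTensorProduct_apply _ g
  have hre : ∀ g, reindex R (fun _ : Fin d => P) (Equiv.swap i j) (B g) = B (τ g) := fun g => by
    rw [hB, hB, reindex_tprod]
    rfl
  have hττ : ∀ g, τ (τ g) = g := fun g => by funext k; simp [τ]
  let c := B.repr z
  have hc : ∀ g, c (τ g) = c g := by
    intro g
    have h : B.coord (τ g) ∘ₗ (reindex R (fun _ : Fin d => P) (Equiv.swap i j)).toLinearMap = B.coord g :=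
      B.ext fun g' => by
        rw [LinearMap.comp_apply, LinearEquiv.coe_coe, hre, Module.Basis.coord_apply, Module.Basis.coord_apply,
          B.repr_self, B.repr_self, Finsupp.single_apply, Finsupp.single_apply]
        by_cases hg : g' = g
        · rw [if_pos (by rw [hg]), if_pos hg]
        · rw [if_neg (fun he => hg (by rw [← hττ g', he, hττ])), if_neg hg]
    have h1 := LinearMap.congr_fun h z
    rw [LinearMap.comp_apply, LinearEquiv.coe_coe, hz, Module.Basis.coord_apply, Module.Basis.coord_apply] at h1
    exact h1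
  rw [← B.sum_repr z, ← Finset.sum_filter_add_sum_filter_not Finset.univ (fun g : Fin d → κ => g i = g j)]
  refine add_mem (Submodule.sum_mem _ fun g hg => Submodule.smul_mem _ _ ?_) ?_
  · rw [hB]
    exact Submodule.subset_span ⟨_, i, j, hij, by rw [(Finset.mem_filter.mp hg).2], rfl⟩
  rw [← Finset.sum_filter_add_sum_filter_not (Finset.univ.filter fun g : Fin d → κ => ¬ g i = g j) (fun g => g i < g j)]
  rw [show ∑ g ∈ (Finset.univ.filter fun g : Fin d → κ => ¬ g i = g j).filter (fun g => ¬ g i < g j), c g • B g =
      ∑ g ∈ (Finset.univ.filter fun g : Fin d → κ => ¬ g i = g j).filter (fun g => g i < g j), c g • B (τ g) from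
    Finset.sum_nbij' τ τ
      (fun g hg => by
        simp only [Finset.mem_coe, Finset.mem_filter, Finset.mem_univ, true_and] at hg ⊢
        simp only [τ, Function.comp_apply, Equiv.swap_apply_left, Equiv.swap_apply_right]
        exact ⟨Ne.symm hg.1, lt_of_le_of_ne (not_lt.mp hg.2) (Ne.symm hg.1)⟩)
      (fun g hg => by
        simp only [Finset.mem_coe, Finset.mem_filter, Finset.mem_univ, true_and] at hg ⊢
        simp only [τ, Function.comp_apply, Equiv.swap_apply_left, Equiv.swap_apply_right]
        exact ⟨Ne.symm hg.1, not_lt.mpr hg.2.le⟩)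
      (fun g _ => hττ g) (fun g _ => hττ g) (fun g _ => by rw [hc, hττ]),
    ← Finset.sum_add_distrib]
  refine Submodule.sum_mem _ fun g _ => ?_
  rw [← smul_add, hB, hB]
  exact Submodule.smul_mem _ _ (pair_mem_altSpan (fun k => b (g k)) hij)

theorem fixed_mem_altSpan {P : Type u} [AddCommGroup P] [Module R P] [Module.Finite R P] [Module.Projective R P]
    {i j : Fin d} (hij : i ≠ j) (z : ⨂[R] _ : Fin d, P)
    (hz : reindex R (fun _ : Fin d => P) (Equiv.swap i j) z = z) : z ∈ SymTen.altSpan R P d := by
  classical
  obtain ⟨n, p, ι0, hp, hι, hpι⟩ := Module.Finite.exists_comp_eq_id_of_projective R P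
  have hre : reindex R (fun _ : Fin d => Fin n → R) (Equiv.swap i j) (PiTensorProduct.map (fun _ => ι0) z) =
      PiTensorProduct.map (fun _ => ι0) z := by
    conv_rhs => rw [← hz]
    exact (LinearMap.congr_fun (show (reindex R (fun _ : Fin d => Fin n → R) (Equiv.swap i j)).toLinearMap ∘ₗ
      PiTensorProduct.map (fun _ => ι0) = PiTensorProduct.map (fun _ => ι0) ∘ₗ
      (reindex R (fun _ : Fin d => P) (Equiv.swap i j)).toLinearMap from
        PiTensorProduct.ext (MultilinearMap.ext fun m => by simp)) z)
  let bb : Module.Basis (ULift.{u} (Fin n)) R (Fin n → R) := (Pi.basisFun R (Fin n)).reindex Equiv.ulift.symm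
  have h1 := fixed_mem_altSpan_of_basis bb hij _ hre
  have h2 : PiTensorProduct.map (fun _ => p) (PiTensorProduct.map (fun _ => ι0) z) = z := by
    rw [← LinearMap.comp_apply, ← PiTensorProduct.map_comp]
    simp [hpι]
  rw [← h2]
  generalize PiTensorProduct.map (fun _ => ι0) z = y at h1 ⊢
  clear hre h2
  induction h1 using Submodule.span_induction with
  | mem x hx =>
    obtain ⟨q, a, b, hab, hq, rfl⟩ := hx
    rw [PiTensorProduct.map_tprod]
    exact Submodule.subset_span ⟨_, a, b, hab, by rw [hq], rfl⟩
  | zero => simp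
  | add x y _ _ hx hy => rw [map_add]; exact add_mem hx hy
  | smul c x _ hx => rw [map_smul]; exact Submodule.smul_mem _ c hx

theorem reindex_tpowAct {A : Type u} [CommRing A] [Algebra R A] {P : Type u} [AddCommGroup P] [Module R P]
    [Module A P] [IsScalarTower R A P] (σ : Equiv.Perm (Fin d)) (a : ⨂[R] _ : Fin d, A) (x : ⨂[R] _ : Fin d, P) :
    reindex R (fun _ : Fin d => P) σ (SymTen.tpowAct R A P d a x) =
      SymTen.tpowAct R A P d (reindex R (fun _ : Fin d => A) σ a) (reindex R (fun _ : Fin d => P) σ x) := by
  induction a using PiTensorProduct.induction_on with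
  | smul_tprod r f =>
    induction x using PiTensorProduct.induction_on with
    | smul_tprod s g => simp [SymTen.tpowAct]
    | add x y hx hy => simp only [map_add, hx, hy]
  | add a b ha hb => simp only [map_add, LinearMap.add_apply, ha, hb]

/-- The span of the pure tensors with one factor in `K`. -/
noncomputable def factorSpan {M : Type u} [AddCommGroup M] [Module R M] (K : Submodule R M) (n : ℕ) :
    Submodule R (⨂[R] _ : Fin n, M) :=
  Submodule.span R {x | ∃ (m : Fin n → M) (i : Fin n), m i ∈ K ∧ x = tprod R m}

theorem tprod_sub_mem {M : Type u} [AddCommGroup M] [Module R M] (K : Submodule R M) {n : ℕ} (m m' : Fin n → M)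
    (h : ∀ i, m i - m' i ∈ K) : tprod R m - tprod R m' ∈ factorSpan K n := by
  classical
  suffices H : ∀ s : Finset (Fin n), tprod R (s.piecewise m m') - tprod R m' ∈ factorSpan K n by
    simpa using H Finset.univ
  intro s
  induction s using Finset.induction_on with
  | empty => simp
  | insert a s ha ih =>
    rw [Finset.piecewise_insert]
    have h1 : tprod R (Function.update (s.piecewise m m') a (m a)) =
        tprod R (Function.update (s.piecewise m m') a (m a - m' a)) +
        tprod R (Function.update (s.piecewise m m') a (m' a)) := by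
      rw [← MultilinearMap.map_update_add, sub_add_cancel]
    have h2 : Function.update (s.piecewise m m') a (m' a) = s.piecewise m m' := by
      rw [Function.update_eq_self_iff, Finset.piecewise_eq_of_notMem _ _ _ ha]
    rw [h1, h2, add_sub_assoc]
    exact add_mem (Submodule.subset_span ⟨_, a, by rw [Function.update_self]; exact h a, rfl⟩) ih

theorem mem_factorSpan_of_map_eq_zero {M N : Type u} [AddCommGroup M] [Module R M] [AddCommGroup N] [Module R N]
    (p : M →ₗ[R] N) (hp : Function.Surjective p) {n : ℕ} (w : ⨂[R] _ : Fin n, M)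
    (hw : PiTensorProduct.map (fun _ : Fin n => p) w = 0) : w ∈ factorSpan (LinearMap.ker p) n := by
  classical
  let s := Function.surjInv hp
  have hs : ∀ x, p (s x) = x := Function.surjInv_eq hp
  let I := factorSpan (LinearMap.ker p) n
  have hker : ∀ (x y : M), p x = p y → x - y ∈ LinearMap.ker p := fun x y h => by simp [h]
  let ψ : MultilinearMap R (fun _ : Fin n => N) ((⨂[R] _ : Fin n, M) ⧸ I) :=
    { toFun := fun m => Submodule.Quotient.mk (tprod R (s ∘ m))
      map_update_add' := by
        intro inst m i x y
        obtain rfl : inst = instDecidableEqFin n := Subsingleton.elim _ _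
        rw [← Submodule.Quotient.mk_add, Function.comp_update, Function.comp_update, Function.comp_update,
          ← MultilinearMap.map_update_add, Submodule.Quotient.eq]
        refine tprod_sub_mem _ _ _ fun k => hker _ _ ?_
        by_cases hk : k = i
        · subst hk; simp [hs]
        · simp [Function.update_of_ne hk]
      map_update_smul' := by
        intro inst m i c x
        obtain rfl : inst = instDecidableEqFin n := Subsingleton.elim _ _
        rw [← Submodule.Quotient.mk_smul, Function.comp_update, Function.comp_update,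
          ← MultilinearMap.map_update_smul, Submodule.Quotient.eq]
        refine tprod_sub_mem _ _ _ fun k => hker _ _ ?_
        by_cases hk : k = i
        · subst hk; simp [hs]
        · simp [Function.update_of_ne hk] }
  have h : PiTensorProduct.lift ψ ∘ₗ PiTensorProduct.map (fun _ : Fin n => p) = I.mkQ := by
    refine PiTensorProduct.ext (MultilinearMap.ext fun m => ?_)
    simp only [LinearMap.compMultilinearMap_apply, LinearMap.comp_apply, PiTensorProduct.map_tprod,
      PiTensorProduct.lift.tprod, Submodule.mkQ_apply]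
    show Submodule.Quotient.mk (tprod R (s ∘ fun k => p (m k))) = _
    rw [Submodule.Quotient.eq]
    exact tprod_sub_mem _ _ _ fun k => hker _ _ (by simp [hs])
  have := LinearMap.congr_fun h w
  rw [LinearMap.comp_apply, hw, map_zero] at this
  exact (Submodule.Quotient.mk_eq_zero I).mp this.symm

theorem exists_finset_map_eq_zero {M : Type u} [AddCommGroup M] [Module R M] (K : Submodule R M) {n : ℕ}
    {w : ⨂[R] _ : Fin n, M} (hw : w ∈ factorSpan K n) :
    ∃ k : Finset M, (↑k ⊆ (K : Set M)) ∧ ∀ (P : Type u) [AddCommGroup P] [Module R P] (g : M →ₗ[R] P),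
      (∀ x ∈ k, g x = 0) → PiTensorProduct.map (fun _ : Fin n => g) w = 0 := by
  classical
  induction hw using Submodule.span_induction with
  | mem x hx =>
    obtain ⟨m, i, hm, rfl⟩ := hx
    refine ⟨{m i}, by simpa using hm, fun P _ _ g hg => ?_⟩
    rw [PiTensorProduct.map_tprod]
    exact MultilinearMap.map_coord_zero _ i (hg _ (Finset.mem_singleton_self _))
  | zero => exact ⟨∅, by simp, fun P _ _ g _ => map_zero _⟩
  | add x y _ _ hx hy =>
    obtain ⟨k, hk, hx⟩ := hx
    obtain ⟨l, hl, hy⟩ := hy
    refine ⟨k ∪ l, by simp [hk, hl], fun P _ _ g hg => ?_⟩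
    rw [map_add, hx P g (fun z hz => hg z (Finset.mem_union_left _ hz)),
      hy P g (fun z hz => hg z (Finset.mem_union_right _ hz)), add_zero]
  | smul c x _ hx =>
    obtain ⟨k, hk, hx⟩ := hx
    exact ⟨k, hk, fun P _ _ g hg => by rw [map_smul, hx P g hg, smul_zero]⟩

theorem exists_finset_map_eq {M : Type u} {n : ℕ} (z : ⨂[R] _ : Fin n, (M →₀ R)) :
    ∃ S : Finset M, ∀ g : (M →₀ R) →ₗ[R] (M →₀ R), (∀ x : M →₀ R, x.support ⊆ S → g x = x) →
      PiTensorProduct.map (fun _ : Fin n => g) z = z := by
  classical
  induction z using PiTensorProduct.induction_on with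
  | smul_tprod r f =>
    refine ⟨Finset.univ.biUnion fun k => (f k).support, fun g hg => ?_⟩
    rw [map_smul, PiTensorProduct.map_tprod]
    congr 2
    funext k
    exact hg _ (Finset.subset_biUnion_of_mem (fun k => (f k).support) (Finset.mem_univ k))
  | add x y hx hy =>
    obtain ⟨S, hS⟩ := hx
    obtain ⟨T, hT⟩ := hy
    exact ⟨S ∪ T, fun g hg => by
      rw [map_add, hS g (fun x hx => hg x (hx.trans Finset.subset_union_left)),
        hT g (fun x hx => hg x (hx.trans Finset.subset_union_right))]⟩

theorem reindex_map {M N : Type u} [AddCommGroup M] [Module R M] [AddCommGroup N] [Module R N] (g : M →ₗ[R] N)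
    {n : ℕ} (σ : Equiv.Perm (Fin n)) (z : ⨂[R] _ : Fin n, M) :
    reindex R (fun _ : Fin n => N) σ (PiTensorProduct.map (fun _ => g) z) =
      PiTensorProduct.map (fun _ => g) (reindex R (fun _ : Fin n => M) σ z) :=
  LinearMap.congr_fun (show (reindex R (fun _ : Fin n => N) σ).toLinearMap ∘ₗ PiTensorProduct.map (fun _ => g) =
    PiTensorProduct.map (fun _ => g) ∘ₗ (reindex R (fun _ : Fin n => M) σ).toLinearMap from
      PiTensorProduct.ext (MultilinearMap.ext fun m => by simp)) z

theorem exists_symmetric_lift (M N : Type u) [AddCommGroup M] [Module R M]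
    [AddCommGroup N] [Module R N] [Module.Flat R N] (f : M →ₗ[R] N) (hf : Function.Surjective f) (n : ℕ)
    (t : ⨂[R] _ : Fin n, N) (ht : ∀ σ : Equiv.Perm (Fin n), reindex R (fun _ : Fin n => N) σ t = t) :
    ∃ s : ⨂[R] _ : Fin n, M, (∀ σ : Equiv.Perm (Fin n), reindex R (fun _ : Fin n => M) σ s = s) ∧
      PiTensorProduct.map (fun _ : Fin n => f) s = t := by
  classical
  let p : (M →₀ R) →ₗ[R] N := Finsupp.linearCombination R f
  have hp : Function.Surjective p := fun y => by
    obtain ⟨m, rfl⟩ := hf y
    exact ⟨Finsupp.single m 1, by simp [p]⟩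
  have hsur : Function.Surjective (PiTensorProduct.map (fun _ : Fin n => p)) := by
    intro y
    induction y using PiTensorProduct.induction_on with
    | smul_tprod r g =>
      refine ⟨r • tprod R (fun k => (hp (g k)).choose), ?_⟩
      rw [map_smul, PiTensorProduct.map_tprod]
      congr 2
      funext k
      exact (hp (g k)).choose_spec
    | add a b ha hb =>
      obtain ⟨x, rfl⟩ := ha
      obtain ⟨y, rfl⟩ := hb
      exact ⟨x + y, map_add _ _ _⟩
  obtain ⟨z, hz⟩ := hsur t
  choose k hk hkill using fun σ : Equiv.Perm (Fin n) =>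
    exists_finset_map_eq_zero (LinearMap.ker p) (mem_factorSpan_of_map_eq_zero p hp
      (reindex R (fun _ : Fin n => M →₀ R) σ z - z)
      (by rw [map_sub, ← reindex_map, hz, ht, sub_self]))
  obtain ⟨S0, hS0⟩ := exists_finset_map_eq z
  let KF : Finset (M →₀ R) := Finset.univ.biUnion k
  let S : Finset M := S0 ∪ KF.biUnion fun x => x.support
  let ρ : (M →₀ R) →ₗ[R] (S →₀ R) := Finsupp.lcomapDomain (fun x : S => (x : M)) Subtype.val_injective
  let ι0 : (S →₀ R) →ₗ[R] (M →₀ R) := Finsupp.lmapDomain R R (fun x : S => (x : M))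
  have hid : ∀ x : M →₀ R, x.support ⊆ S → ι0 (ρ x) = x := fun x hx => by
    refine Finsupp.mapDomain_comapDomain _ Subtype.val_injective x fun y hy => ?_
    exact ⟨⟨y, hx hy⟩, rfl⟩
  let w : KF → (S →₀ R) := fun x => ρ x.1
  have h0 : (p ∘ₗ ι0) ∘ₗ Finsupp.linearCombination R w = 0 := by
    refine Finsupp.lhom_ext fun x r => ?_
    simp only [LinearMap.comp_apply, Finsupp.linearCombination_single, map_smul, w, LinearMap.zero_apply]
    rw [hid _ (fun y hy => Finset.mem_union_right _ (Finset.mem_biUnion.mpr ⟨x.1, x.2, hy⟩))]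
    obtain ⟨σ, -, hσ⟩ := Finset.mem_biUnion.mp x.2
    rw [show p x.1 = 0 from hk σ hσ, smul_zero]
  obtain ⟨l, a, y, hy, ha⟩ := Module.Flat.exists_factorization_of_comp_eq_zero_of_free h0
  obtain ⟨v, hv⟩ := Module.projective_lifting_property f y hf
  let u := a ∘ₗ ρ
  refine ⟨PiTensorProduct.map (fun _ => v) (PiTensorProduct.map (fun _ => u) z), fun σ => ?_, ?_⟩
  · rw [reindex_map, reindex_map]
    have h1 := hkill σ _ u fun x hx => by
      have := LinearMap.congr_fun ha (Finsupp.single ⟨x, Finset.mem_biUnion.mpr ⟨σ, Finset.mem_univ _, hx⟩⟩ 1)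
      simpa [u, w] using this
    rw [map_sub, sub_eq_zero] at h1
    rw [h1]
  · rw [← LinearMap.comp_apply, ← PiTensorProduct.map_comp, ← LinearMap.comp_apply, ← PiTensorProduct.map_comp]
    have h2 : PiTensorProduct.map (fun _ : Fin n => ι0 ∘ₗ ρ) z = z :=
      hS0 _ fun x hx => hid x (hx.trans Finset.subset_union_left)
    conv_rhs => rw [← hz, ← h2, ← LinearMap.comp_apply, ← PiTensorProduct.map_comp]
    congr 2
    funext k
    rw [hv]
    simp only [u, ← LinearMap.comp_assoc, hy]

end Groth.Agent.Lib.ZeroCyc99.SymTensor
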